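import Cfsg.Agent.Invol.UniqueInvolution
import Cfsg.Agent.Invol.Pair
import Cfsg.Agent.Coprime.Basic
import Cfsg.Agent.Core.PCore
import Cfsg.Prelude.Def_CaseTheorems

/-!
# Involution centralisers with an inverted abelian subgroup of index at most two

`Good K`: every involution `v` has in its centraliser an abelian subgroup containing no other
involution, of index at most two, with all outside elements of square one.
-/

set_option autoImplicit false

namespace Cfsg.Agent.DGroupPSL

open Subgroup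

universe u

variable {K : Type u} [Group K]

/-- The shape of the centraliser of the involution `v`. -/
structure Shape (v : K) (A : Subgroup K) : Prop where
  cent : ∀ a ∈ A, Commute a v
  mem : v ∈ A
  comm : ∀ a ∈ A, ∀ b ∈ A, Commute a b
  two : ∀ a ∈ A, a * a = 1 → a = 1 ∨ a = v
  sq : ∀ x, Commute x v → x ∉ A → x * x = 1
  index_two : ∀ x y, Commute x v → Commute y v → x ∉ A → y ∉ A → x * y ∈ A

/-- Every involution centraliser has the shape. -/
def Good (K : Type u) [Group K] : Prop := ∀ v : K, orderOf v = 2 → ∃ A, Shape v A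

/-- The centralisers of odd elements commuting with an involution are in the centraliser of
that involution. -/
def IsTI (K : Type u) [Group K] : Prop :=
  ∀ v τ g : K, orderOf v = 2 → Odd (orderOf τ) → τ ≠ 1 → Commute τ v → Commute g τ → Commute g v

theorem eq_one_of_sq {x : K} (h : Odd (orderOf x)) (h2 : x * x = 1) : x = 1 := by
  have h3 : orderOf x ∣ 2 := orderOf_dvd_of_pow_eq_one (by rwa [pow_two])
  rcases (Nat.dvd_prime Nat.prime_two).1 h3 with e | e
  · exact orderOf_eq_one_iff.1 e
  · rw [e] at h; exact absurd h (by decide)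

theorem inv2_mul_self {v : K} (hv : orderOf v = 2) : v * v = 1 := by
  rw [← pow_two, ← hv, pow_orderOf_eq_one]

theorem inv2_ne_one {v : K} (hv : orderOf v = 2) : v ≠ 1 := fun e => by
  rw [e, orderOf_one] at hv; omega

theorem inv2_inv {v : K} (hv : orderOf v = 2) : v⁻¹ = v :=
  inv_eq_of_mul_eq_one_right (inv2_mul_self hv)

theorem not_odd_two {v : K} (hv : orderOf v = 2) : ¬ Odd (orderOf v) := by rw [hv]; decide

theorem odd_orderOf_conj {g x : K} (h : Odd (orderOf x)) : Odd (orderOf (g * x * g⁻¹)) := by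
  rwa [Invol.orderOf_conj]

theorem odd_orderOf_of_mem [Finite K] {X : Subgroup K} (hX : Odd (Nat.card X)) {x : K} (hx : x ∈ X) :
    Odd (orderOf x) := hX.of_dvd_nat (Subgroup.orderOf_dvd_natCard X hx)

namespace Shape

variable {v : K} {A : Subgroup K} (h : Shape v A)
include h

theorem odd_mem {x : K} (hx : Commute x v) (ho : Odd (orderOf x)) : x ∈ A := by
  by_contra hA
  exact hA (eq_one_of_sq ho (h.sq x hx hA) ▸ A.one_mem)

theorem invert {x a : K} (hx : Commute x v) (hxA : x ∉ A) (ha : a ∈ A) : x * a * x⁻¹ = a⁻¹ := by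
  have h1 : x * a ∉ A := fun h' => hxA (by simpa using A.mul_mem h' (A.inv_mem ha))
  have h2 := h.sq _ (hx.mul_left (h.cent a ha)) h1
  have h3 : x⁻¹ = x := inv_eq_of_mul_eq_one_right (h.sq x hx hxA)
  rw [h3]
  exact eq_inv_of_mul_eq_one_left (by rw [mul_assoc]; exact h2)

/-- A second involution commuting with `v` lies outside `A`. -/
theorem other_notMem {u : K} (hu : orderOf u = 2) (hne : u ≠ v) : u ∉ A := fun hA => by
  rcases h.two u hA (inv2_mul_self hu) with e | e
  · exact inv2_ne_one hu e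
  · exact hne e

theorem other_inverts {u a : K} (hu : orderOf u = 2) (hne : u ≠ v) (huv : Commute u v) (ha : a ∈ A) :
    u * a * u⁻¹ = a⁻¹ := h.invert huv (h.other_notMem hu hne) ha

theorem eq_of_commute {u a : K} (hu : orderOf u = 2) (hne : u ≠ v) (huv : Commute u v) (ha : a ∈ A)
    (hua : Commute u a) : a = 1 ∨ a = v := by
  have h1 := h.other_inverts hu hne huv ha
  rw [hua.eq, mul_inv_cancel_right] at h1
  exact h.two a ha (mul_eq_one_iff_eq_inv.2 h1)

end Shape

namespace Good

variable (hK : Good K)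
include hK

/-- Odd elements centralising an involution commute. -/
theorem odd_comm {v x y : K} (hv : orderOf v = 2) (hx : Commute x v) (hy : Commute y v)
    (ox : Odd (orderOf x)) (oy : Odd (orderOf y)) : Commute x y := by
  obtain ⟨A, h⟩ := hK v hv
  exact h.comm x (h.odd_mem hx ox) y (h.odd_mem hy oy)

theorem odd_inverted {v u x : K} (hv : orderOf v = 2) (hu : orderOf u = 2) (hne : u ≠ v)
    (huv : Commute u v) (hx : Commute x v) (ox : Odd (orderOf x)) : u * x * u⁻¹ = x⁻¹ := by
  obtain ⟨A, h⟩ := hK v hv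
  exact h.other_inverts hu hne huv (h.odd_mem hx ox)

theorem odd_eq_one {v u x : K} (hv : orderOf v = 2) (hu : orderOf u = 2) (hne : u ≠ v)
    (huv : Commute u v) (hx : Commute x v) (hxu : Commute x u) (ox : Odd (orderOf x)) : x = 1 := by
  obtain ⟨A, h⟩ := hK v hv
  rcases h.eq_of_commute hu hne huv (h.odd_mem hx ox) hxu.symm with e | e
  · exact e
  · rw [e] at ox; exact absurd ox (not_odd_two hv)

/-- A four-group is self-centralising. -/
theorem four_cent {v u x : K} (hv : orderOf v = 2) (hu : orderOf u = 2) (hne : u ≠ v)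
    (huv : Commute u v) (hx : Commute x v) (hxu : Commute x u) :
    x = 1 ∨ x = v ∨ x = u ∨ x = v * u := by
  obtain ⟨A, h⟩ := hK v hv
  by_cases hA : x ∈ A
  · rcases h.eq_of_commute hu hne huv hA hxu.symm with e | e
    · exact Or.inl e
    · exact Or.inr (Or.inl e)
  · have hprod : x * u ∈ A := h.index_two x u hx huv hA (h.other_notMem hu hne)
    have hc : Commute u (x * u) := hxu.symm.mul_right (Commute.refl u)
    rcases h.eq_of_commute hu hne huv hprod hc with e | e
    · exact Or.inr (Or.inr (Or.inl ((mul_eq_one_iff_eq_inv.1 e).trans (inv2_inv hu))))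
    · refine Or.inr (Or.inr (Or.inr ?_))
      rw [← e, mul_assoc, inv2_mul_self hu, mul_one]

/-- The centraliser of a nontrivial odd element has cyclic `2`-subgroups. -/
theorem cyclic_two_subgroup [Finite K] {τ : K} (ho : Odd (orderOf τ)) (h1 : τ ≠ 1) {T : Subgroup K}
    (hT : IsPGroup 2 T) (hc : ∀ x ∈ T, Commute x τ) : IsCyclic T := by
  classical
  rcases subsingleton_or_nontrivial T with hs | hn
  · exact isCyclic_of_subsingleton
  have : Nontrivial (center T) := hT.center_nontrivial
  obtain ⟨c, hc'⟩ := exists_prime_orderOf_dvd_card' (G := center T) 2 (by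
    obtain ⟨n, hn'⟩ := (hT.to_subgroup (center T)).exists_card_eq
    rw [hn']
    refine dvd_pow_self 2 fun e => ?_
    rw [e, pow_zero] at hn'
    exact absurd (Nat.card_eq_one_iff_unique.1 hn').1 (not_subsingleton _))
  set v : K := ((c : T) : K) with hvdef
  have hv : orderOf v = 2 := by rw [hvdef, orderOf_coe, orderOf_coe]; exact hc'
  have hvT : ∀ x ∈ T, Commute x v := fun x hx =>
    congrArg Subtype.val (Subgroup.mem_center_iff.1 c.2 ⟨x, hx⟩)
  obtain ⟨A, h⟩ := hK v hv
  have hτA : τ ∈ A := h.odd_mem (hc v (c : T).2).symm ho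
  have hTA : ∀ x ∈ T, x ∈ A := by
    intro x hx
    by_contra hA
    have h2 := h.invert (hvT x hx) hA hτA
    rw [(hc x hx).eq, mul_inv_cancel_right] at h2
    exact h1 (eq_one_of_sq ho (mul_eq_one_iff_eq_inv.2 h2))
  have : IsMulCommutative T :=
    ⟨⟨fun a b => Subtype.ext (h.comm _ (hTA _ a.2) _ (hTA _ b.2)).eq⟩⟩
  refine Invol.isCyclic_of_unique_involution hT fun x y hx hy => ?_
  have key : ∀ z : T, orderOf z = 2 → (z : K) = v := fun z hz => by
    have hz' : orderOf (z : K) = 2 := by rwa [orderOf_coe]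
    exact (h.two _ (hTA _ z.2) (inv2_mul_self hz')).resolve_left (inv2_ne_one hz')
  exact Subtype.ext ((key x hx).trans (key y hy).symm)

end Good

/-- An element of `v`'s centraliser conjugation. -/
theorem IsTI.commute_of_conj (hK : Good K) (hT : IsTI K) {v τ τ' g : K} (hv : orderOf v = 2)
    (ho : Odd (orderOf τ)) (h1 : τ ≠ 1) (hτ : Commute τ v) (hτ' : Commute τ' v)
    (hg : g * τ * g⁻¹ = τ') : Commute g v := by
  subst hg
  have ho' : Odd (orderOf (g * τ * g⁻¹)) := odd_orderOf_conj ho
  have h1' : g * τ * g⁻¹ ≠ 1 := fun e => h1 (conj_eq_one_iff.1 e)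
  have hc : Commute (g * v * g⁻¹) (g * τ * g⁻¹) := (Commute.conj_iff g).2 hτ.symm
  have hcv : Commute (g * v * g⁻¹) v := hT v _ _ hv ho' h1' hτ' hc
  have he : g * v * g⁻¹ = v := by
    by_contra hne
    have := hK.odd_eq_one hv (u := g * v * g⁻¹) (by rw [Invol.orderOf_conj, hv]) hne hcv hτ' hc.symm ho'
    exact h1' this
  exact mul_inv_eq_iff_eq_mul.1 he

/-! ### Heredity -/

theorem Good.of_injective {L : Type u} [Group L] (hK : Good K) (f : L →* K) (hf : Function.Injective f) :
    Good L := by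
  intro v hv
  obtain ⟨A, h⟩ := hK (f v) (by rwa [orderOf_injective f hf])
  have hcm : ∀ {x y : L}, Commute x y → Commute (f x) (f y) := fun hh => hh.map f
  refine ⟨A.comap f, fun a ha => hf (by rw [map_mul, map_mul]; exact h.cent _ ha), h.mem,
    fun a ha b hb => hf (by rw [map_mul, map_mul]; exact h.comm _ ha _ hb), fun a ha ha2 => ?_,
    fun x hx hA => hf (by rw [map_mul, map_one]; exact h.sq _ (hcm hx) hA), fun x y hx hy hA hB => ?_⟩
  · rcases h.two (f a) ha (by rw [← map_mul, ha2, map_one]) with e | e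
    · exact Or.inl (hf (e.trans (map_one f).symm))
    · exact Or.inr (hf e)
  · show f (x * y) ∈ A
    rw [map_mul]
    exact h.index_two _ _ (hcm hx) (hcm hy) hA hB

theorem Good.subgroup (hK : Good K) (L : Subgroup K) : Good L :=
  hK.of_injective L.subtype L.subtype_injective

section Quotient

variable [Finite K] {L : Type u} [Group L] {f : K →* L}

omit [Finite K] in
/-- Lifting an involution through a kernel of odd order. -/
theorem exists_lift_sq (hodd : Odd (Nat.card f.ker)) {x : K} (h : f x * f x = 1) :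
    ∃ n, f (x ^ n) = f x ∧ x ^ n * x ^ n = 1 := by
  refine ⟨Nat.card f.ker, ?_, ?_⟩
  · obtain ⟨m, hm⟩ := hodd
    rw [map_pow, hm, pow_succ, pow_mul, pow_two, h, one_pow, one_mul]
  · have hk : x * x ∈ f.ker := by rw [MonoidHom.mem_ker, map_mul, h]
    rw [← (Commute.refl x).mul_pow]
    have := pow_card_eq_one' (G := f.ker) (x := ⟨_, hk⟩)
    exact congrArg Subtype.val this

theorem exists_lift_inv2 (hodd : Odd (Nat.card f.ker)) (hf : Function.Surjective f) {v' : L}
    (hv : orderOf v' = 2) : ∃ v, orderOf v = 2 ∧ f v = v' := by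
  obtain ⟨x, rfl⟩ := hf v'
  obtain ⟨n, hn, hn2⟩ := exists_lift_sq hodd (inv2_mul_self hv)
  exact ⟨x ^ n, Invol.orderOf_eq_two_iff.2
    ⟨fun e => inv2_ne_one hv (by rw [← hn, e, map_one]), hn2⟩, hn⟩

/-- Lifting centralising elements. -/
theorem exists_lift_commute (hodd : Odd (Nat.card f.ker)) {v g : K} (hv : orderOf v = 2)
    (h : Commute (f g) (f v)) : ∃ g', f g' = f g ∧ Commute g' v := by
  obtain ⟨n, hn, hc⟩ := Coprime.exists_fixed_mem_leftCoset (A := zpowers v) (N := f.ker)
    Subgroup.le_normalizer_of_normal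
    (by rw [Nat.card_zpowers, hv]; exact hodd.coprime_two_left)
    (Or.inl (Group.isSolvable_of_comm fun a b => mul_comm' a b)) (k := g) (by
      intro a ha
      have hca : Commute (f g) (f a) := by
        obtain ⟨i, rfl⟩ := Subgroup.mem_zpowers_iff.1 ha
        rw [map_zpow]
        exact h.zpow_right i
      rw [MonoidHom.mem_ker, map_mul, map_mul, map_mul, map_inv, map_inv, ← hca.eq]
      group)
  refine ⟨g * n, by rw [map_mul, MonoidHom.mem_ker.1 hn, mul_one], ?_⟩
  exact (Subgroup.mem_centralizer_iff.1 hc v (mem_zpowers v)).symm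

theorem Good.of_surjective (hK : Good K) (hodd : Odd (Nat.card f.ker)) (hf : Function.Surjective f) :
    Good L := by
  intro v' hv'
  obtain ⟨v, hv, rfl⟩ := exists_lift_inv2 hodd hf hv'
  obtain ⟨A, h⟩ := hK v hv
  have lift : ∀ x : L, Commute x (f v) → x ∉ A.map f → ∃ y, f y = x ∧ Commute y v ∧ y ∉ A := by
    intro x hx hA
    obtain ⟨x0, rfl⟩ := hf x
    obtain ⟨y, hy, hc⟩ := exists_lift_commute hodd hv hx
    exact ⟨y, hy, hc, fun hyA => hA ⟨y, hyA, hy⟩⟩
  refine ⟨A.map f, ?_, mem_map_of_mem f h.mem, ?_, ?_, ?_, ?_⟩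
  · rintro _ ⟨a, ha, rfl⟩; exact (h.cent a ha).map f
  · rintro _ ⟨a, ha, rfl⟩ _ ⟨b, hb, rfl⟩; exact (h.comm a ha b hb).map f
  · rintro _ ⟨a, ha, rfl⟩ ha2
    obtain ⟨n, hn, hn2⟩ := exists_lift_sq hodd ha2
    rcases h.two _ (A.pow_mem ha n) hn2 with e | e
    · exact Or.inl (by rw [← hn, e, map_one])
    · exact Or.inr (by rw [← hn, e])
  · intro x hx hA
    obtain ⟨y, rfl, hc, hyA⟩ := lift x hx hA
    rw [← map_mul, h.sq y hc hyA, map_one]
  · intro x y hx hy hA hB
    obtain ⟨x', rfl, hxc, hx'⟩ := lift x hx hA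
    obtain ⟨y', rfl, hyc, hy'⟩ := lift y hy hB
    rw [← map_mul]
    exact mem_map_of_mem f (h.index_two x' y' hxc hyc hx' hy')

end Quotient

theorem odd_card_oddCore [Finite K] : Odd (Nat.card (Cfsg.oddCore K)) :=
  Nat.coprime_two_right.1 (Core.coprime_card_pPrimeCore (p := 2) (G := K))

theorem Good.mod_oddCore [Finite K] (hK : Good K) : Good (K ⧸ Cfsg.oddCore K) :=
  hK.of_surjective (f := QuotientGroup.mk' _)
    (by rw [QuotientGroup.ker_mk']; exact odd_card_oddCore) (QuotientGroup.mk'_surjective _)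

end Cfsg.Agent.DGroupPSL
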