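import Mathlib.GroupTheory.Solvable
import Mathlib.LinearAlgebra.Matrix.ProjectiveSpecialLinearGroup
import Cfsg.Prelude.Def_CaseTheorems

/-!
# The conclusion of the recognition theorem
-/

set_option autoImplicit false

namespace Cfsg.Agent.DGroupPSL

universe u

/-- `G` is, modulo a normal subgroup of order odd or twice odd, `PSL(2, q)` or `PGL(2, q)`. -/
def Concl (G : Type u) [Group G] : Prop :=
  ∃ (N : Subgroup G) (_ : N.Normal), (Odd (Nat.card ↥N) ∨ ∃ m : ℕ, Odd m ∧ Nat.card ↥N = 2 * m) ∧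
    ∃ (F : Type) (_ : Field F) (_ : Fintype F), 3 < Fintype.card F ∧
      (Nonempty (G ⧸ N ≃* Matrix.ProjectiveSpecialLinearGroup (Fin 2) F) ∨
        Nonempty (G ⧸ N ≃* Matrix.ProjGenLinGroup (Fin 2) F))

end Cfsg.Agent.DGroupPSL
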