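import Cfsg.Agent.DGroupPSL.Main

/-!
# One shaped involution centraliser containing a Sylow subgroup
-/

set_option autoImplicit false

namespace Cfsg.Agent.DGroupPSL

open Subgroup Cfsg.Agent.Invol

universe u v

variable {X : Type u} [Group X]

/-- The shape restricted along an injective homomorphism. -/
theorem Shape.comap {L : Type v} [Group L] {f : L →* X} (hf : Function.Injective f) {v : L}
    {A : Subgroup X} (h : Shape (f v) A) : Shape v (A.comap f) where
  cent a ha := hf (by rw [map_mul, map_mul]; exact h.cent _ ha)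
  mem := h.mem
  comm a ha b hb := hf (by rw [map_mul, map_mul]; exact h.comm _ ha _ hb)
  two a ha ha2 := by
    rcases h.two (f a) ha (by rw [← map_mul, ha2, map_one]) with e | e
    · exact Or.inl (hf (e.trans (map_one f).symm))
    · exact Or.inr (hf e)
  sq x hx hA := hf (by rw [map_mul, map_one]; exact h.sq _ (hx.map f) hA)
  index_two x y hx hy hA hB := by
    show f (x * y) ∈ A
    rw [map_mul]; exact h.index_two _ _ (hx.map f) (hy.map f) hA hB

/-- The shape moved by conjugation. -/
theorem Shape.conj {v : X} {A : Subgroup X} (h : Shape v A) (g : X) :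
    Shape (g * v * g⁻¹) (A.comap (MulAut.conj g⁻¹).toMonoidHom) := by
  refine Shape.comap (f := (MulAut.conj g⁻¹).toMonoidHom) (MulAut.conj g⁻¹).injective ?_
  simpa [mul_assoc] using h

/-- With one class of involutions one shape gives all. -/
theorem Shape.good {v : X} {A : Subgroup X} (h : Shape v A)
    (hone : ∀ x : X, orderOf x = 2 → IsConj v x) : Good X := fun w hw => by
  obtain ⟨g, rfl⟩ := isConj_iff.1 (hone w hw)
  exact ⟨_, h.conj g⟩

variable [Finite X]

/-- The shape in a quotient by a kernel of odd order. -/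
theorem Shape.map {L : Type u} [Group L] {f : X →* L} {v : X} {A : Subgroup X} (h : Shape v A)
    (hv : orderOf v = 2) (hodd : Odd (Nat.card f.ker)) (hf : Function.Surjective f) :
    Shape (f v) (A.map f) := by
  have lift : ∀ x : L, Commute x (f v) → x ∉ A.map f → ∃ y, f y = x ∧ Commute y v ∧ y ∉ A := by
    intro x hx hA
    obtain ⟨x0, rfl⟩ := hf x
    obtain ⟨y, hy, hc⟩ := exists_lift_commute hodd hv hx
    exact ⟨y, hy, hc, fun hyA => hA ⟨y, hyA, hy⟩⟩
  refine ⟨?_, mem_map_of_mem f h.mem, ?_, ?_, ?_, ?_⟩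
  · rintro _ ⟨a, ha, rfl⟩; exact (h.cent a ha).map f
  · rintro _ ⟨a, ha, rfl⟩ _ ⟨b, hb, rfl⟩; exact (h.comm a ha b hb).map f
  · rintro _ ⟨a, ha, rfl⟩ ha2
    obtain ⟨n, hn, hn2⟩ := exists_lift_sq hodd ha2
    rcases h.two _ (A.pow_mem ha n) hn2 with e | e
    · exact Or.inl (by rw [← hn, e, map_one])
    · exact Or.inr (by rw [← hn, e])
  · intro x hx hA
    obtain ⟨y, rfl, hc, hyA⟩ := lift x hx hA
    rw [← map_mul, h.sq y hc hyA, map_one]
  · intro x y hx hy hA hB
    obtain ⟨x', rfl, hxc, hx'⟩ := lift x hx hA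
    obtain ⟨y', rfl, hyc, hy'⟩ := lift y hy hB
    rw [← map_mul]
    exact mem_map_of_mem f (h.index_two x' y' hxc hyc hx' hy')

/-- An element of order two conjugated into a Sylow subgroup together with its group. -/
theorem exists_conj_le_sylow (P : Sylow 2 X) {E : Subgroup X} (hE : IsPGroup 2 E) :
    ∃ g : X, ∀ e ∈ E, g * e * g⁻¹ ∈ (P : Subgroup X) := by
  have : Fact (Nat.Prime 2) := ⟨Nat.prime_two⟩
  obtain ⟨R, hR⟩ := hE.exists_le_sylow
  obtain ⟨g, hg⟩ := MulAction.exists_smul_eq X R P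
  exact ⟨g, fun e he => by rw [← hg, Sylow.coe_subgroup_smul]; exact ⟨e, hR he, rfl⟩⟩

/-- No elementary abelian subgroup of order eight below a Sylow subgroup with the shape. -/
theorem Shape.no_eight {v : X} {A : Subgroup X} (h : Shape v A) {P : Sylow 2 X}
    (hP : (P : Subgroup X) ≤ centralizer ({v} : Set X)) (E : Subgroup X) (hE : Nat.card E = 8) :
    ∃ y ∈ E, y * y ≠ 1 := by
  classical
  by_contra hcon
  push Not at hcon
  obtain ⟨g, hg⟩ := exists_conj_le_sylow P (IsPGroup.of_card (n := 3) (by rw [hE]; rfl) : IsPGroup 2 E)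
  set E' := E.map (MulAut.conj g).toMonoidHom with hE'
  have hE'c : Nat.card E' = 8 := by
    rw [hE', card_map_of_injective (MulAut.conj g).injective, hE]
  have hcent : ∀ e ∈ E', Commute e v := by
    rintro _ ⟨e, he, rfl⟩
    exact mem_centralizer_singleton_iff.1 (hP (hg e he))
  have hsq : ∀ e ∈ E', e * e = 1 := by
    rintro _ ⟨e, he, rfl⟩
    show (MulAut.conj g) e * (MulAut.conj g) e = 1
    rw [← map_mul, hcon e he, map_one]
  have h1 : Nat.card (E' ⊓ A : Subgroup X) ≤ 2 := by
    have hsub : ((E' ⊓ A : Subgroup X) : Set X) ⊆ {1, v} := fun e he => by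
      rcases h.two e he.2 (hsq e he.1) with e' | e' <;> simp [e']
    have h2 := Set.ncard_le_ncard hsub (Set.toFinite _)
    have h3 := Set.ncard_insert_le (1 : X) {v}
    rw [Set.ncard_singleton] at h3
    rw [← Nat.card_coe_set_eq] at h2
    exact h2.trans h3
  have h2 : A.relIndex E' ≤ 2 := by
    by_cases hle : E' ≤ A
    · rw [relIndex_eq_one.2 hle]; omega
    obtain ⟨r, hr, hrA⟩ := SetLike.not_le_iff_exists.1 hle
    refine le_of_eq (Subgroup.index_eq_two_iff.2 ⟨⟨r, hr⟩, fun b => ?_⟩)
    rcases b with ⟨b, hb⟩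
    show Xor' (b * r ∈ A) (b ∈ A)
    by_cases hbA : b ∈ A
    · exact Or.inr ⟨hbA, fun h' => hrA (by simpa using A.mul_mem (A.inv_mem hbA) h')⟩
    · exact Or.inl ⟨h.index_two b r (hcent b hb) (hcent r hr) hbA hrA, hbA⟩
  have h3 := (A.subgroupOf E').card_mul_index
  rw [hE'c, ← Subgroup.relIndex] at h3
  have h4 : Nat.card (A.subgroupOf E') = Nat.card (E' ⊓ A : Subgroup X) := by
    rw [← Coprime.card_subgroupOf (inf_le_left : E' ⊓ A ≤ E'), inf_comm, inf_subgroupOf_right]
  rw [h4] at h3
  nlinarith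

/-- A shaped centraliser containing a Sylow subgroup gives `PSL` or `PGL`. -/
theorem Shape.sylow_case {j : X} {A : Subgroup X} (h : Shape j A) (hO : NoOdd X)
    (hns : ¬ Group.IsSolvable X) (hj : orderOf j = 2) {P : Sylow 2 X}
    (hP : (P : Subgroup X) ≤ centralizer ({j} : Set X)) : IsPSL2 X ∨ IsPGL2 X := by
  have : Fact (Nat.Prime 2) := ⟨Nat.prime_two⟩
  have hc : ∀ x ∈ (P : Subgroup X), Commute x j := fun x hx => mem_centralizer_singleton_iff.1 (hP hx)
  have hjP : j ∈ (P : Subgroup X) := by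
    have hp : IsPGroup 2 ((P : Subgroup X) ⊔ zpowers j : Subgroup X) :=
      P.2.to_sup_of_normal_right' (IsPGroup.of_card (n := 1) (by rw [Nat.card_zpowers, hj, pow_one]))
        (fun x hx => centralizer_le_normalizer _ (mem_centralizer_iff.2 fun y hy => by
          obtain ⟨i, rfl⟩ := mem_zpowers_iff.1 hy
          exact ((hc x hx).symm.zpow_left i).eq))
    exact P.3 hp le_sup_left ▸ mem_sup_right (mem_zpowers j)
  obtain ⟨σ, τ, k, D⟩ := h.exists_dihAt hns P hj hjP hc
  by_cases hone : ∀ x y : X, orderOf x = 2 → orderOf y = 2 → IsConj x y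
  · exact (h.good fun x hx => hone j x hj hx).psl_or_pgl hO hns
  obtain ⟨ι, DD, hιj, -⟩ := D.ddata
  obtain ⟨M, hM, hMi, ⟨a, haM⟩, hjM, honeM⟩ := exists_one_class_index_two DD hns hone
  rw [hιj] at hjM honeM
  have hMns : ¬ Group.IsSolvable M := fun h => hns (by
    have : Group.IsSolvable (X ⧸ M) := by
      have := (IsPGroup.of_card (n := 1) (by rw [← Subgroup.index_eq_card, hMi]; rfl) :
        IsPGroup 2 (X ⧸ M)).isNilpotent
      infer_instance
    exact Group.isSolvable_of_ker_le_range M.subtype (QuotientGroup.mk' M) (by simp))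
  have hconjM : ∀ x : M, orderOf x = 2 → IsConj (⟨j, hjM⟩ : M) x := fun x hx => by
    obtain ⟨g, hg, e⟩ := honeM x x.2 (by rwa [orderOf_coe])
    exact (isConj_iff.2 ⟨⟨g, hg⟩, Subtype.ext e⟩ : IsConj x ⟨j, hjM⟩).symm
  have hgood : Good M := (Shape.comap (f := M.subtype) M.subtype_injective
    (v := (⟨j, hjM⟩ : M)) h).good hconjM
  have hone' : ∀ x y : M, orderOf x = 2 → orderOf y = 2 → IsConj x y := fun x y hx hy =>
    (hconjM x hx).symm.trans (hconjM y hy)
  have := hgood.isSimpleGroup hone' (hO.of_normal hM) hMns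
  refine Or.inr (pgl_of_index_two' hns hMi ⟨_, haM, inv2_mul_self (DD.sr_order a)⟩ (h.no_eight hP)
    (fun c hcM hc2 hcc => hMns ?_) (hgood.psl (hO.of_normal hM) hMns hone'))
  -- a central involution outside `M` inverts the abelian subgroup
  have hcA : c ∉ A := h.other_notMem hc2 (fun e => hcM (e ▸ hjM))
  have hA2 : ∀ x ∈ A, x = 1 ∨ x = j := fun x hx => by
    refine h.two x hx ?_
    have := h.invert (hcc j).symm hcA hx
    rw [← (hcc x).eq, mul_inv_cancel_right] at this
    exact mul_eq_one_iff_eq_inv.2 this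
  refine solvable_of_complement ?_
  obtain ⟨Q⟩ : Nonempty (Sylow 2 M) := inferInstance
  refine HSub.hasNormalPComplement_of_cyclic Q (fun q hq _ => hq.two_le) ?_
  obtain ⟨g, hg⟩ := exists_conj_le_sylow P (Q.2.map M.subtype)
  have hcj : c * j ∉ M := fun h' => hcM ((Subgroup.mul_mem_cancel_right M hjM).1 h')
  have hsub : ∀ x ∈ (P : Subgroup X), x ∈ M → x = 1 ∨ x = j := by
    intro x hx hxM
    by_cases hxA : x ∈ A
    · exact hA2 x hxA
    · exfalso
      have e : x = x * c * c := by rw [mul_assoc, inv2_mul_self hc2, mul_one]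
      rcases hA2 _ (h.index_two x c (hc x hx) (hcc j).symm hxA hcA) with e' | e' <;>
        rw [e'] at e <;> rw [e] at hxM
      · rw [one_mul] at hxM; exact hcM hxM
      · exact hcj ((hcc j).eq ▸ hxM)
  have hcard : Nat.card (Q : Subgroup M) ≤ 2 := by
    let f : ↥(Q : Subgroup M) → ({1, j} : Set X) := fun x => ⟨g * (x : M) * g⁻¹, by
      rcases hsub _ (hg _ ⟨x, x.2, rfl⟩) (hM.conj_mem _ (x : M).2 g) with e | e
      exacts [Or.inl e, Or.inr e]⟩
    refine (Nat.card_le_card_of_injective f fun a b e => ?_).trans ?_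
    · exact Subtype.ext (Subtype.ext (mul_left_cancel (mul_right_cancel (congrArg Subtype.val e))))
    · rw [Nat.card_coe_set_eq]
      exact (Set.ncard_insert_le _ _).trans (by rw [Set.ncard_singleton])
  have hq1 := Nat.card_pos (α := (Q : Subgroup M))
  rcases (show Nat.card (Q : Subgroup M) = 1 ∨ Nat.card (Q : Subgroup M) = 2 by omega) with e | e
  · have : Subsingleton (Q : Subgroup M) := (Nat.card_eq_one_iff_unique.1 e).1
    exact isCyclic_of_subsingleton
  · exact isCyclic_of_prime_card e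

end Cfsg.Agent.DGroupPSL
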