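import Cfsg.Agent.DGroupPSL.DihTools
import Cfsg.Agent.DGroupPSL.Shaped

/-!
# A noncentral shaped involution in a dihedral Sylow subgroup
-/

set_option autoImplicit false

namespace Cfsg.Agent.DGroupPSL

open Subgroup DihedralGroup Cfsg.Agent.Invol

universe u

/-- An odd subgroup centralising a four-group and normalised by the centraliser and the automisers
is trivial. -/
theorem fixed_eq_bot {Y : Type u} [Group Y] [Finite Y] {z σ τ : Y} {P : Sylow 2 Y} {k : ℕ}
    (D : DihAt z P σ τ k) (hO : NoOdd Y) (hns : ¬ Group.IsSolvable Y)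
    (hone : ∀ x y : Y, orderOf x = 2 → orderOf y = 2 → IsConj x y) (R : Subgroup Y)
    (hR : Odd (Nat.card R)) (hCz : centralizer ({z} : Set Y) ≤ normalizer (R : Set Y))
    (hfix : ∀ d ∈ R, Commute d z ∧ Commute d τ)
    (hV : ∀ V : Subgroup Y, IsFour V → z ∈ V → V ≤ (P : Subgroup Y) →
      normalizer (V : Set Y) ≤ normalizer (R : Set Y)) : R = ⊥ := by
  classical
  have : Fact (Nat.Prime 2) := ⟨Nat.prime_two⟩
  have hz := D.orderOf_v
  set L := normalizer (R : Set Y) with hL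
  have hPL : (P : Subgroup Y) ≤ L := D.le_centralizer.trans hCz
  obtain ⟨ι, DD, -, -⟩ := D.ddata
  have honeL : ∀ x ∈ L, orderOf x = 2 → ∃ l ∈ L, l * x * l⁻¹ = z := by
    intro x hx hx2
    obtain ⟨T, hT⟩ := ((IsPGroup.of_card (n := 1) (by rw [Nat.card_zpowers, orderOf_mk, hx2, pow_one]) :
      IsPGroup 2 (zpowers (⟨x, hx⟩ : L)))).exists_le_sylow
    obtain ⟨l, hl⟩ := MulAction.exists_smul_eq L T (P.subtype hPL)
    have h1 : MulAut.conj l (⟨x, hx⟩ : L) ∈ ((l • T : Sylow 2 L) : Subgroup L) := by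
      rw [Sylow.coe_subgroup_smul]
      exact Subgroup.smul_mem_pointwise_smul _ _ _ (hT (mem_zpowers _))
    rw [hl, Sylow.coe_subtype, Subgroup.mem_subgroupOf] at h1
    have e : ((MulAut.conj l (⟨x, hx⟩ : L) : L) : Y) = (l : Y) * x * (l : Y)⁻¹ := by simp
    rw [e] at h1
    by_cases hev : (l : Y) * x * (l : Y)⁻¹ = z
    · exact ⟨l, l.2, hev⟩
    have ho : orderOf ((l : Y) * x * (l : Y)⁻¹) = 2 := by rw [Invol.orderOf_conj, hx2]
    obtain ⟨V, hV4, hzV, hsV⟩ := exists_four hz ho hev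
      (mem_centralizer_singleton_iff.1 (D.le_centralizer h1))
    have hVP : V ≤ (P : Subgroup Y) := fun y hy => by
      rcases hV4.mem_cases hzV hsV (inv2_ne_one hz) (inv2_ne_one ho) (Ne.symm hev) hy with e | e | e | e <;>
        rw [e]
      exacts [one_mem _, D.mem, h1, mul_mem D.mem h1]
    obtain ⟨n, hn, hnz⟩ := auto_of_ddata DD hone hV4 hsV (inv2_ne_one ho) hzV (inv2_ne_one hz)
    refine ⟨n * l, L.mul_mem (hV V hV4 hzV hVP hn) l.2, ?_⟩
    rw [← hnz]; group
  have hidx := D.index_le_five (fun x hx => hone z x hz hx) hCz honeL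
  by_cases hLtop : L = ⊤
  · exact hO R (normalizer_eq_top_iff.1 hLtop) hR
  set K0 := L.normalCore with hK0
  by_cases hK1 : K0 = ⊥
  · let f : Y →* Equiv.Perm (Y ⧸ L) := MulAction.toPermHom Y (Y ⧸ L)
    have hf : Function.Injective f := by
      rw [← MonoidHom.ker_eq_bot_iff, ← hK1, hK0, Subgroup.normalCore_eq_ker]
    have hm : Nat.card (Y ⧸ L) ≤ 5 := by rw [← Subgroup.index_eq_card]; exact hidx
    let ε : (Y ⧸ L) ↪ Fin 5 := (Finite.equivFin (Y ⧸ L)).toEmbedding.trans (Fin.castLEEmb hm)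
    let F : Y →* Equiv.Perm (Fin 5) := (Equiv.Perm.viaEmbeddingHom ε).comp f
    have hF : Function.Injective F := (Equiv.Perm.viaEmbeddingHom_injective ε).comp hf
    rw [Subgroup.eq_bot_iff_forall]
    intro d hd
    have hne1 : ∀ {y : Y}, y ≠ 1 → F y ≠ 1 := fun {y} hy h => hy (hF (h.trans (map_one F).symm))
    have hτz : τ ≠ z := fun e => D.τ_notMem (e ▸ D.val ▸ pow_mem (mem_zpowers σ) _)
    have h2 := sq_eq_one_of_commute_four (F z) (by rw [← map_mul, inv2_mul_self hz, map_one])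
      (hne1 (inv2_ne_one hz)) (F τ) (by rw [← map_mul, inv2_mul_self D.τ_ord, map_one])
      (hne1 (inv2_ne_one D.τ_ord)) (fun e => hτz (hF e)) (D.commute_τ.map F).eq
      (F d) ((hfix d hd).1.symm.map F).eq ((hfix d hd).2.symm.map F).eq
    rw [← map_mul] at h2
    exact eq_one_of_sq (odd_orderOf_of_mem hR hd) (hF (h2.trans (map_one F).symm))
  exfalso
  have hK0L : K0 ≤ L := L.normalCore_le
  have hinv : ∀ (N : Subgroup Y), N.Normal → N ≠ ⊥ → ∀ x : Y, orderOf x = 2 → x ∈ N := by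
    intro N hN hN1 x hx
    have heven : 2 ∣ Nat.card N := by
      by_contra h
      exact hN1 (hO N hN (Nat.odd_iff.2 (Nat.two_dvd_ne_zero.1 h)))
    obtain ⟨m, hm⟩ := exists_prime_orderOf_dvd_card' (G := N) 2 heven
    obtain ⟨g, hg⟩ := isConj_iff.1 (hone (m : Y) x (by rwa [orderOf_coe]) hx)
    exact hg ▸ hN.conj_mem m m.2 g
  by_cases hR1 : R = ⊥
  · exact hLtop (by rw [hL, hR1]; exact normalizer_eq_top_iff.2 inferInstance)
  -- `K0` centralises the conjugates of `R`
  have hcap : ∀ d ∈ R, d ∈ K0 → d = 1 := by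
    have : ((R ⊓ K0).subgroupOf K0).Normal := normal_subgroupOf_of_le_normalizer
      (le_normalizer_of_conj_mem fun y hy d hd =>
        ⟨conj_mem_of_le_normalizer hK0L hy hd.1, K0.mul_mem (K0.mul_mem hy hd.2) (K0.inv_mem hy)⟩)
    have h := hO.of_normal (M := K0) L.normalCore_normal ((R ⊓ K0).subgroupOf K0) this (by
      rw [Coprime.card_subgroupOf inf_le_right]
      exact hR.of_dvd_nat (Subgroup.card_dvd_of_le inf_le_left))
    intro d hdR hdK
    have : (⟨d, hdK⟩ : K0) ∈ (R ⊓ K0).subgroupOf K0 := ⟨hdR, hdK⟩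
    rw [h, Subgroup.mem_bot] at this
    exact congrArg Subtype.val this
  have hcomm : R ≤ centralizer (K0 : Set Y) := fun d hd => Subgroup.mem_centralizer_iff.2 fun y hy => by
    have h1 : d * y * d⁻¹ * y⁻¹ = 1 := hcap _ (by
      have := R.mul_mem hd (conj_mem_of_le_normalizer hK0L hy (R.inv_mem hd))
      simpa [mul_assoc] using this)
      (K0.mul_mem (L.normalCore_normal.conj_mem y hy d) (K0.inv_mem hy))
    exact (mul_inv_eq_iff_eq_mul.1 (mul_inv_eq_one.1 h1)).symm
  have hCn : (centralizer (K0 : Set Y)).Normal := inferInstance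
  have hC1 : centralizer (K0 : Set Y) ≠ ⊥ := fun e => hR1 (le_bot_iff.1 (e ▸ hcomm))
  have hPK : (P : Subgroup Y) ≤ K0 ⊓ centralizer (K0 : Set Y) := by
    rw [← D.gen, closure_le]
    have hmem : ∀ x : Y, orderOf x = 2 → x ∈ K0 ⊓ centralizer (K0 : Set Y) := fun x hx =>
      ⟨hinv K0 L.normalCore_normal hK1 x hx, hinv _ hCn hC1 x hx⟩
    rintro x (rfl | rfl)
    · have h := Subgroup.mul_mem _ (hmem _ D.mul_ord) (hmem _ D.τ_ord)
      rwa [mul_assoc, inv2_mul_self D.τ_ord, mul_one] at h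
    · exact hmem _ D.τ_ord
  have hPK0 : (P : Subgroup Y) ≤ K0 := hPK.trans inf_le_left
  have hsol : Group.IsSolvable K0 := solvable_of_complement
    (Fusion.hasNormalPComplement_of_normalizer_le_centralizer (P := P.subtype hPK0) fun m _ =>
      Subgroup.mem_centralizer_iff.2 fun s hs => Subtype.ext
        (Subgroup.mem_centralizer_iff.1 (hPK (x := (s : Y)) hs).2 m m.2).symm)
  have hodd : Odd K0.index := by
    rw [← Nat.not_even_iff_odd, even_iff_two_dvd]
    exact fun h => P.not_dvd_index (h.trans (Subgroup.index_dvd_of_le hPK0))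
  have : Group.IsSolvable (Y ⧸ K0) := S0205.result (by rwa [← Subgroup.index_eq_card])
  exact hns (Group.isSolvable_of_ker_le_range K0.subtype (QuotientGroup.mk' K0) (by simp))

variable {X : Type u} [Group X] [Finite X] {T : Sylow 2 X} {k : ℕ} {ι : DihedralGroup (2 ^ k) →* X}

/-- A shaped reflection not conjugate to the central involution gives `PGL`. -/
theorem dihedral_case (DD : DData T k ι) (hk : 2 ≤ k) (hO : NoOdd X) (hns : ¬ Group.IsSolvable X)
    {a₀ : ZMod (2 ^ k)} {A : Subgroup X} (hA : Shape (ι (sr a₀)) A)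
    (hjz : ¬ IsConj (ι (sr a₀)) (ι (r (dh k)))) : IsPGL2 X := by
  classical
  have : Fact (Nat.Prime 2) := ⟨Nat.prime_two⟩
  set z := ι (r (dh k)) with hzdef
  set j := ι (sr a₀) with hjdef
  have hj : orderOf j = 2 := DD.sr_order a₀
  have hz : orderOf z = 2 := DD.z_order
  have hjT : j ∈ (T : Subgroup X) := DD.mem _
  have hzne : z ≠ j := fun e => hjz (e ▸ IsConj.refl _)
  have hjzc : Commute z j := (DD.z_comm hjT).symm
  have hzA : z ∉ A := hA.other_notMem hz hzne
  obtain ⟨M, hM, hMi, -, hzM, honeM⟩ := exists_one_class_index_two DD hns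
    (fun h => hjz (h j z hj hz))
  rw [← hzdef] at hzM honeM
  have hjM : j ∉ M := fun h => by
    obtain ⟨g, -, hg⟩ := honeM j h hj
    exact hjz (isConj_iff.2 ⟨g, hg⟩)
  have hmul : ∀ x y, x * y ∈ M ↔ (x ∈ M ↔ y ∈ M) := fun x y => Subgroup.mul_mem_iff_of_index_two hMi
  have hMns : ¬ Group.IsSolvable M := fun h => hns (by
    have : Group.IsSolvable (X ⧸ M) := by
      have := (IsPGroup.of_card (n := 1) (by rw [← Subgroup.index_eq_card, hMi]; rfl) :
        IsPGroup 2 (X ⧸ M)).isNilpotent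
      infer_instance
    exact Group.isSolvable_of_ker_le_range M.subtype (QuotientGroup.mk' M) (by simp))
  have hOM := hO.of_normal hM
  -- the traces on `M`
  have hev : ∀ c : ZMod (2 ^ k), ι (r (2 * c)) ∈ M := fun c => by
    rw [two_mul, ← r_mul_r, map_mul, hmul]
  have hr1 : ι (r 1) ∉ M := by
    intro h1
    have hrot : ∀ i : ZMod (2 ^ k), ι (r i) ∈ M := fun i => by
      rw [← ZMod.natCast_zmod_val i, ← r_one_pow, map_pow]; exact M.pow_mem h1 _
    have hrefl : ∀ i : ZMod (2 ^ k), ι (sr i) ∉ M := fun i h => hjM (by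
      have := M.mul_mem h (hrot (a₀ - i))
      rwa [← map_mul, sr_mul_r, add_sub_cancel] at this)
    refine hMns (solvable_of_complement ?_)
    obtain ⟨Q⟩ : Nonempty (Sylow 2 M) := inferInstance
    refine HSub.hasNormalPComplement_of_cyclic Q (fun q hq _ => hq.two_le) ?_
    obtain ⟨g, hg⟩ := DD.exists_conj_le _ (Q.2.map M.subtype)
    have : IsCyclic ((Subgroup.zpowers (r 1 : DihedralGroup (2 ^ k))).map ι) := by
      rw [MonoidHom.map_zpowers]; infer_instance
    let f : ↥(Q : Subgroup M) →* (Subgroup.zpowers (r 1 : DihedralGroup (2 ^ k))).map ι :=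
      ((MulAut.conj g).toMonoidHom.comp (M.subtype.comp (Q : Subgroup M).subtype)).codRestrict _
        (fun x => by
          obtain ⟨d, hd⟩ := DD.exists_eq (hg ⟨_, ⟨x.1, x.2, rfl⟩, rfl⟩)
          have hdM : ι d ∈ M := by rw [hd]; exact hM.conj_mem _ x.1.2 g
          rcases d with i | i
          · exact ⟨r i, ⟨(i.val : ℤ), by
              show r 1 ^ (i.val : ℤ) = r i
              rw [zpow_natCast, r_one_pow, ZMod.natCast_zmod_val]⟩, hd⟩
          · exact absurd hdM (hrefl i))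
    exact isCyclic_of_injective f fun a b e => Subtype.ext (Subtype.ext
      ((MulAut.conj g).injective (congrArg Subtype.val e)))
  have hrM : ∀ i : ZMod (2 ^ k), ι (r i) ∈ M → ∃ c, i = 2 * c := fun i hi => by
    obtain ⟨c, hc | hc⟩ := dparity i
    · exact ⟨c, hc⟩
    · refine absurd ?_ hr1
      rw [hc, ← r_mul_r, map_mul] at hi
      exact (Subgroup.mul_mem_cancel_left M (hev c)).1 hi
  set b := a₀ + 1 with hb
  have hbM : ι (sr b) ∈ M := by
    rw [hb, ← sr_mul_r, map_mul, hmul]; exact iff_of_false hjM hr1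
  have hrefl : ∀ i : ZMod (2 ^ k), ι (sr i) ∈ M → ∃ c, i = b + 2 * c := fun i hi => by
    have h1 := M.mul_mem hbM hi
    rw [← map_mul, sr_mul_sr] at h1
    obtain ⟨c, hc⟩ := hrM _ h1
    exact ⟨c, by linear_combination hc⟩
  -- the odd part of the centraliser of `z`
  obtain ⟨Tc, κ, DC, -, hκ⟩ := DD.centralizer_data
  obtain ⟨W0, hW0n, hW0⟩ := odd_subgroup_of_complement (DC.complement_of_not_conj (fun a hc => by
    obtain ⟨g, hg⟩ := isConj_iff.1 hc.symm
    have h1 : (g : X) * z * (g : X)⁻¹ = ι (sr a) := by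
      have := congrArg Subtype.val hg
      rwa [Subgroup.coe_mul, Subgroup.coe_mul, Subgroup.coe_inv, hκ, hκ] at this
    rw [mem_centralizer_singleton_iff.1 g.2, mul_inv_cancel_right] at h1
    exact DihedralGroup.noConfusion rfl (heq_of_eq (DD.inj h1))))
  set W := W0.map (centralizer ({z} : Set X)).subtype with hWdef
  have hW : ∀ x, x ∈ W ↔ Commute x z ∧ Odd (orderOf x) := fun x => by
    constructor
    · rintro ⟨y, hy, rfl⟩
      exact ⟨mem_centralizer_singleton_iff.1 y.2, by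
        rw [Subgroup.coe_subtype, orderOf_coe]; exact (hW0 y).1 hy⟩
    · rintro ⟨hc, ho⟩
      exact ⟨⟨x, mem_centralizer_singleton_iff.2 hc.eq⟩, (hW0 _).2 (by rw [← orderOf_coe]; exact ho), rfl⟩
  have hWodd : Odd (Nat.card W) := odd_card_of_forall fun x hx => ((hW x).1 hx).2
  have hdec : ∀ x, Commute x z → ∃ w ∈ W, ∃ d, x = w * ι d := fun x hx => by
    have hmem : (⟨x, mem_centralizer_singleton_iff.2 hx.eq⟩ : centralizer ({z} : Set X)) ∈
        W0 ⊔ (Tc : Subgroup _) := by rw [sup_sylow_eq_top W0 hW0 Tc]; exact Subgroup.mem_top _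
    obtain ⟨w, hw, t, ht, e⟩ := Subgroup.mem_sup_of_normal_left.1 hmem
    obtain ⟨d, rfl⟩ := DC.exists_eq ht
    exact ⟨w, ⟨w, hw, rfl⟩, d, by rw [← hκ d]; exact (congrArg Subtype.val e).symm⟩
  have hWT : ∀ w ∈ W, ∀ d, ι d * w * (ι d)⁻¹ ∈ W := fun w hw d => (hW _).2 ⟨by
    have hdz : Commute (ι d) z := DD.z_comm (DD.mem d)
    exact (hdz.mul_left ((hW w).1 hw).1).mul_left hdz.inv_left, odd_orderOf_conj ((hW w).1 hw).2⟩
  have hjj : j * j = 1 := inv2_mul_self hj
  have hjW : ∀ w ∈ W, j * w * j = w⁻¹ := inverts_of_fpf hWodd hjj (fun w hw => by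
      have := hWT w hw (sr a₀)
      rwa [← hjdef, inv2_inv hj] at this)
    (fun w hw hwj => by
      obtain ⟨hwz, hwo⟩ := (hW w).1 hw
      have h2 := hA.invert hjzc hzA (hA.odd_mem hwj hwo)
      rw [hwz.symm.eq, mul_inv_cancel_right] at h2
      exact eq_one_of_sq hwo (mul_eq_one_iff_eq_inv.2 h2))
  have hWab : ∀ a ∈ W, ∀ c ∈ W, Commute a c := fun a ha c hc => by
    have h := hjW (a * c) (W.mul_mem ha hc)
    rw [mul_inv_rev, ← hjW a ha, ← hjW c hc] at h
    have e : j * (a * c) * j = j * (c * a) * j := by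
      rw [h]; simp only [mul_assoc]; rw [← mul_assoc j j, hjj, one_mul]
    exact mul_left_cancel (mul_right_cancel e)
  -- even rotations centralise `W`
  have hrotW : ∀ (c : ZMod (2 ^ k)) (w : X), w ∈ W → Commute (ι (r (2 * c))) w := by
    intro c w hw
    set g := ι (r c) with hg
    have hgi : g⁻¹ * w * g ∈ W := by
      have := hWT w hw (r (-c))
      rwa [show ι (r (-c)) = g⁻¹ by rw [hg, ← map_inv, inv_r], inv_inv] at this
    have h1 := hjW _ hgi
    have e : ι (r (2 * c)) = g * j * g⁻¹ * j := by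
      rw [hg, hjdef, ← map_inv, ← map_mul, ← map_mul, r_conj_sr DD.pos, ← map_mul, sr_mul_sr]
      congr 2; ring
    have h2 : g * j * g⁻¹ * w * (g * j * g⁻¹) = w⁻¹ := by
      calc g * j * g⁻¹ * w * (g * j * g⁻¹) = g * (j * (g⁻¹ * w * g) * j) * g⁻¹ := by group
        _ = w⁻¹ := by rw [h1]; group
    have h3 : ι (r (2 * c)) * w * (ι (r (2 * c)))⁻¹ = w := by
      rw [e]
      have h4 := hjW w hw
      calc g * j * g⁻¹ * j * w * (g * j * g⁻¹ * j)⁻¹ = g * j * g⁻¹ * (j * w * j) * (g * j * g⁻¹)⁻¹ := by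
            rw [mul_inv_rev (g * j * g⁻¹) j, inv2_inv hj]; group
        _ = g * j * g⁻¹ * w⁻¹ * (g * j * g⁻¹) := by
            rw [h4]; congr 1; rw [mul_inv_rev, mul_inv_rev, inv_inv, inv2_inv hj, mul_assoc]
        _ = (g * j * g⁻¹ * w * (g * j * g⁻¹))⁻¹ := by
            simp only [mul_inv_rev, inv_inv, inv2_inv hj, mul_assoc]
        _ = w := by rw [h2, inv_inv]
    exact mul_inv_eq_iff_eq_mul.1 h3
  have hsame : ∀ (c : ZMod (2 ^ k)) (w : X), w ∈ W →
      ι (sr (b + 2 * c)) * w * (ι (sr (b + 2 * c)))⁻¹ = ι (sr b) * w * (ι (sr b))⁻¹ := fun c w hw => by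
    rw [← sr_mul_r, map_mul, mul_inv_rev,
      show ι (sr b) * ι (r (2 * c)) * w * ((ι (r (2 * c)))⁻¹ * (ι (sr b))⁻¹) =
        ι (sr b) * (ι (r (2 * c)) * w * (ι (r (2 * c)))⁻¹) * (ι (sr b))⁻¹ by group,
      (hrotW c w hw).eq, mul_inv_cancel_right]
  set t := ι (sr b) with htdef
  have ht : orderOf t = 2 := DD.sr_order b
  have htz : Commute t z := DD.z_comm (DD.mem _)
  have hWM : ∀ w ∈ W, w ∈ M := fun w hw => by
    obtain ⟨m, hm⟩ := mem_zpowers_iff.1 (mem_zpowers_sq ((hW w).1 hw).2)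
    have h2 : w * w ∈ M := (hmul w w).2 Iff.rfl
    exact hm ▸ M.zpow_mem (by simpa [pow_two] using h2) m
  -- the decomposition inside `M`
  have hdecM : ∀ x ∈ M, Commute x z → ∃ w ∈ W, ∃ c, x = w * ι (r (2 * c)) ∨ x = w * ι (sr (b + 2 * c)) := by
    intro x hx hxz
    obtain ⟨w, hw, d, rfl⟩ := hdec x hxz
    have hd : ι d ∈ M := (Subgroup.mul_mem_cancel_left M (hWM w hw)).1 hx
    rcases d with i | i
    · obtain ⟨c, rfl⟩ := hrM i hd; exact ⟨w, hw, c, Or.inl rfl⟩
    · obtain ⟨c, rfl⟩ := hrefl i hd; exact ⟨w, hw, c, Or.inr rfl⟩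
  -- a Sylow subgroup of `M`
  set σ := ι (r 2) with hσdef
  have hσM : σ ∈ M := by rw [hσdef, ← mul_one (2 : ZMod (2 ^ k))]; exact hev 1
  set PT := ((T : Subgroup X) ⊓ M).subgroupOf M with hPT
  have hTcard : Nat.card (T : Subgroup X) = 2 * 2 ^ k := DD.card_sylow
  have hPTc : Nat.card PT = 2 ^ k := by
    rw [hPT, Coprime.card_subgroupOf inf_le_right]
    have h1 : (M.subgroupOf (T : Subgroup X)).index = 2 := by
      refine Subgroup.index_eq_two_iff.2 ⟨⟨j, hjT⟩, fun x => ?_⟩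
      rcases x with ⟨x, hx⟩
      show Xor' (x * j ∈ M) (x ∈ M)
      by_cases hxM : x ∈ M
      · exact Or.inr ⟨hxM, fun h => hjM ((Subgroup.mul_mem_cancel_left M hxM).1 h)⟩
      · exact Or.inl ⟨(hmul x j).2 (iff_of_false hxM hjM), hxM⟩
    have h2 := (M.subgroupOf (T : Subgroup X)).card_mul_index
    have h3 : Nat.card (M.subgroupOf (T : Subgroup X)) = Nat.card ((T : Subgroup X) ⊓ M : Subgroup X) := by
      rw [← Coprime.card_subgroupOf (inf_le_left : (T : Subgroup X) ⊓ M ≤ (T : Subgroup X)), inf_comm,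
        inf_subgroupOf_right]
    rw [h1, hTcard, h3] at h2
    omega
  have hfac : (Nat.card M).factorization 2 = k := by
    have h1 := M.card_mul_index
    rw [hMi] at h1
    have h2 := T.card_eq_multiplicity
    rw [hTcard, ← pow_succ'] at h2
    have h3 := Nat.pow_right_injective le_rfl h2
    rw [← h1, Nat.factorization_mul Nat.card_pos.ne' two_ne_zero, Finsupp.add_apply,
      Nat.Prime.factorization_self Nat.prime_two] at h3
    omega
  let PM : Sylow 2 M := Sylow.ofCard PT (by rw [hPTc, hfac])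
  have hPM : (PM : Subgroup M) = PT := Sylow.coe_ofCard _ _
  have hrord : orderOf (r 1 : DihedralGroup (2 ^ k)) = 2 ^ k := DihedralGroup.orderOf_r_one
  have hr2 : (r 2 : DihedralGroup (2 ^ k)) = r 1 ^ 2 := by rw [r_one_pow]; rfl
  have hDA : DihAt (⟨z, hzM⟩ : M) PM ⟨σ, hσM⟩ ⟨t, hbM⟩ (k - 1) := by
    refine ⟨by omega, ?_, ?_, ?_, ?_, ?_, ?_, ?_, ?_⟩
    · rw [hPM, hPT, Subgroup.mem_subgroupOf]; exact ⟨DD.mem _, hσM⟩
    · rw [hPM, hPT, Subgroup.mem_subgroupOf]; exact ⟨DD.mem _, hbM⟩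
    · rw [orderOf_mk, hσdef, orderOf_injective ι DD.inj, hr2, orderOf_pow' _ two_ne_zero, hrord,
        Nat.gcd_eq_right (dvd_pow_self 2 (by omega)), ← Nat.pow_div (by omega : 1 ≤ k) two_pos, pow_one]
    · rw [orderOf_mk]; exact ht
    · refine Subtype.ext ?_
      show t * σ * t⁻¹ = σ⁻¹
      rw [htdef, hσdef, ← map_inv, ← map_mul, ← map_mul, ← map_inv, DihedralGroup.inv_sr, sr_mul_r,
        sr_mul_sr, inv_r]
      congr 2; ring
    · intro h
      obtain ⟨i, hi⟩ := mem_zpowers_iff.1 h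
      have h1 : σ ^ i = t := by simpa using congrArg Subtype.val hi
      rw [hσdef, htdef, ← map_zpow, r_zpow] at h1
      exact DihedralGroup.noConfusion rfl (heq_of_eq (DD.inj h1))
    · refine le_antisymm ((closure_le _).2 ?_) fun x hx => ?_
      · rintro x (rfl | rfl) <;> rw [hPM, hPT, SetLike.mem_coe, Subgroup.mem_subgroupOf]
        exacts [⟨DD.mem _, hσM⟩, ⟨DD.mem _, hbM⟩]
      · rw [hPM, hPT, Subgroup.mem_subgroupOf] at hx
        obtain ⟨d, hd⟩ := DD.exists_eq hx.1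
        have hcl : ∀ c : ZMod (2 ^ k), (⟨ι (r (2 * c)), hev c⟩ : M) ∈
            closure ({⟨σ, hσM⟩, ⟨t, hbM⟩} : Set M) := fun c => by
          have : (⟨ι (r (2 * c)), hev c⟩ : M) = (⟨σ, hσM⟩ : M) ^ c.val := by
            refine Subtype.ext ?_
            show ι (r (2 * c)) = σ ^ c.val
            rw [hσdef, ← map_pow, r_pow, ZMod.natCast_zmod_val]
          rw [this]
          exact pow_mem (Subgroup.subset_closure (show (⟨σ, hσM⟩ : M) ∈ ({⟨σ, hσM⟩, ⟨t, hbM⟩} : Set M) from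
            Or.inl rfl)) _
        rcases d with i | i
        · obtain ⟨c, hc⟩ := hrM i (hd ▸ x.2)
          have : x = ⟨ι (r (2 * c)), hev c⟩ := Subtype.ext (by rw [← hd, hc])
          rw [this]; exact hcl c
        · obtain ⟨c, hc⟩ := hrefl i (hd ▸ x.2)
          have : x = (⟨t, hbM⟩ : M) * ⟨ι (r (2 * c)), hev c⟩ := Subtype.ext (by
            rw [← hd, hc]; show _ = t * _; rw [htdef, ← map_mul, sr_mul_r])
          rw [this]; exact mul_mem (Subgroup.subset_closure (Or.inr rfl)) (hcl c)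
    · refine Subtype.ext ?_
      show σ ^ 2 ^ (k - 1 - 1) = z
      rw [hσdef, ← map_pow, r_pow, hzdef]
      congr 2
      rw [dh_even hk, show k - 1 - 1 = k - 2 by omega]
      push_cast
      ring
  have hconjM : ∀ x : M, orderOf x = 2 → IsConj (⟨z, hzM⟩ : M) x := fun x hx => by
    obtain ⟨g, hg, e⟩ := honeM x x.2 (by rwa [orderOf_coe])
    exact (isConj_iff.2 ⟨⟨g, hg⟩, Subtype.ext e⟩ : IsConj x ⟨z, hzM⟩).symm
  have hone' : ∀ x y : M, orderOf x = 2 → orderOf y = 2 → IsConj x y := fun x y hx hy =>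
    (hconjM x hx).symm.trans (hconjM y hy)
  -- the fixed points of `t` on `W`
  let R : Subgroup M := (W ⊓ centralizer ({t} : Set X)).subgroupOf M
  have hRmem : ∀ x : M, x ∈ R ↔ (x : X) ∈ W ∧ Commute (x : X) t := fun x => by
    show (x : X) ∈ W ⊓ centralizer ({t} : Set X) ↔ _
    rw [Subgroup.mem_inf, mem_centralizer_singleton_iff]
    rfl
  have hfixs : ∀ (c : ZMod (2 ^ k)) (w : X), w ∈ W →
      (Commute w (ι (sr (b + 2 * c))) ↔ Commute w t) := fun c w hw => by
    have h := hsame c w hw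
    constructor <;> intro hc
    · rw [hc.symm.eq, mul_inv_cancel_right] at h
      exact (mul_inv_eq_iff_eq_mul.1 h.symm).symm
    · rw [hc.symm.eq, mul_inv_cancel_right] at h
      exact (mul_inv_eq_iff_eq_mul.1 h).symm
  have hR : R = ⊥ := by
    refine fixed_eq_bot hDA hOM hMns hone' R (odd_card_of_forall fun x hx => by
      rw [← orderOf_coe]; exact ((hW _).1 ((hRmem x).1 hx).1).2) ?_ (fun x hx =>
        ⟨Subtype.ext ((hW _).1 ((hRmem x).1 hx).1).1.eq, Subtype.ext ((hRmem x).1 hx).2.eq⟩) ?_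
    · refine le_normalizer_of_conj_mem fun x hx y hy => (hRmem _).2 ?_
      obtain ⟨hyW, hyt⟩ := (hRmem y).1 hy
      obtain ⟨w, hw, c, hc⟩ := hdecM x x.2 (congrArg Subtype.val (mem_centralizer_singleton_iff.1 hx))
      show (x : X) * y * (x : X)⁻¹ ∈ W ∧ Commute ((x : X) * y * (x : X)⁻¹) t
      suffices h : (x : X) * y * (x : X)⁻¹ = (y : X) by rw [h]; exact ⟨hyW, hyt⟩
      rcases hc with hc | hc <;> rw [hc, mul_inv_rev,
        show ∀ p : X, w * p * (y : X) * (p⁻¹ * w⁻¹) = w * (p * y * p⁻¹) * w⁻¹ from fun p => by group]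
      · rw [(hrotW c _ hyW).eq, mul_inv_cancel_right, (hWab w hw _ hyW).eq, mul_inv_cancel_right]
      · rw [((hfixs c _ hyW).2 hyt).symm.eq, mul_inv_cancel_right, (hWab w hw _ hyW).eq,
          mul_inv_cancel_right]
    · intro V hV hzV hVP
      obtain ⟨u, hu, hu1, huz⟩ := hV.exists_other ⟨z, hzM⟩
      have hu2 := hV.orderOf_eq hu hu1
      have huP := hVP hu
      rw [hPM, hPT, Subgroup.mem_subgroupOf] at huP
      obtain ⟨c, hc⟩ : ∃ c, (u : X) = ι (sr (b + 2 * c)) := by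
        rcases DD.involution_cases huP.1 (by rwa [orderOf_coe]) with e | ⟨i, e⟩
        · exact absurd (Subtype.ext e) huz
        · obtain ⟨c, rfl⟩ := hrefl i (e ▸ u.2)
          exact ⟨c, e⟩
      have hchar : ∀ x : M, x ∈ R ↔ Odd (orderOf x) ∧ ∀ v ∈ V, Commute x v := fun x => by
        rw [hRmem]
        constructor
        · rintro ⟨hxW, hxt⟩
          have h1 : Commute x (⟨z, hzM⟩ : M) := Subtype.ext ((hW _).1 hxW).1.eq
          have h2 : Commute x u := Subtype.ext (by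
            rw [Subgroup.coe_mul, Subgroup.coe_mul, hc]; exact ((hfixs c _ hxW).2 hxt).eq)
          exact ⟨by rw [← orderOf_coe]; exact ((hW _).1 hxW).2,
            hV.commute_all hzV hu (fun e => inv2_ne_one hz (congrArg Subtype.val e)) hu1 (Ne.symm huz) h1 h2⟩
        · rintro ⟨ho, hall⟩
          have hxW : (x : X) ∈ W := (hW _).2 ⟨congrArg Subtype.val (hall _ hzV).eq, by rwa [orderOf_coe]⟩
          exact ⟨hxW, (hfixs c _ hxW).1 (hc ▸ congrArg Subtype.val (hall u hu).eq)⟩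
      refine le_normalizer_of_conj_mem fun n hn x hx => (hchar _).2 ?_
      obtain ⟨ho, hall⟩ := (hchar x).1 hx
      refine ⟨odd_orderOf_conj ho, fun v hv => ?_⟩
      have hv' : n⁻¹ * v * n ∈ V := by
        simpa using (mem_normalizer_iff.1 (inv_mem hn) v).1 hv
      have := (Commute.conj_iff n).2 (hall _ hv')
      simpa [mul_assoc] using this
  -- so every reflection in `M` inverts `W`
  have htinv : ∀ w ∈ W, t * w * t⁻¹ = w⁻¹ := fun w hw => by
    rw [inv2_inv ht]
    refine inverts_of_fpf hWodd (inv2_mul_self ht) (fun w hw => ?_) (fun w hw hwt => ?_) w hw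
    · have := hWT w hw (sr b)
      rwa [← htdef, inv2_inv ht] at this
    · have : (⟨w, hWM w hw⟩ : M) ∈ R := (hRmem _).2 ⟨hw, hwt⟩
      rw [hR, Subgroup.mem_bot] at this
      exact congrArg Subtype.val this
  -- the shape of the centraliser of `z` in `M`
  let AM : Subgroup M :=
    { carrier := {x | ∃ w ∈ W, ∃ c, (x : X) = w * ι (r (2 * c))}
      one_mem' := ⟨1, W.one_mem, 0, by simp [← DihedralGroup.one_def]⟩
      mul_mem' := by
        rintro x y ⟨w, hw, c, hx⟩ ⟨w', hw', c', hy⟩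
        refine ⟨w * w', W.mul_mem hw hw', c + c', ?_⟩
        rw [Subgroup.coe_mul, hx, hy, (hrotW c w' hw').mul_mul_mul_comm, ← map_mul, r_mul_r, mul_add]
      inv_mem' := by
        rintro x ⟨w, hw, c, hx⟩
        refine ⟨w⁻¹, W.inv_mem hw, -c, ?_⟩
        rw [Subgroup.coe_inv, hx, mul_inv_rev, ← map_inv, inv_r, ← mul_neg]
        exact (hrotW (-c) w⁻¹ (W.inv_mem hw)).eq }
  have hAMmem : ∀ x : M, x ∈ AM ↔ ∃ w ∈ W, ∃ c, (x : X) = w * ι (r (2 * c)) := fun x => Iff.rfl
  have hout : ∀ x : M, Commute x (⟨z, hzM⟩ : M) → x ∉ AM → ∃ w ∈ W, ∃ c, (x : X) = w * ι (sr (b + 2 * c)) := by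
    intro x hx hxA
    obtain ⟨w, hw, c, hc | hc⟩ := hdecM x x.2 (congrArg Subtype.val hx.eq)
    · exact absurd ((hAMmem x).2 ⟨w, hw, c, hc⟩) hxA
    · exact ⟨w, hw, c, hc⟩
  have hshape : Shape (⟨z, hzM⟩ : M) AM := by
    refine ⟨?_, ⟨1, W.one_mem, 2 ^ (k - 2), by rw [one_mul, ← dh_even hk]⟩, ?_, ?_, ?_, ?_⟩
    · rintro x ⟨w, hw, c, hx⟩
      refine Subtype.ext ?_
      rw [Subgroup.coe_mul, Subgroup.coe_mul, hx]
      exact (((hW w).1 hw).1.mul_left (show Commute (ι (r (2 * c))) z from DD.z_comm (DD.mem _))).eq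
    · rintro x ⟨w, hw, c, hx⟩ y ⟨w', hw', c', hy⟩
      refine Subtype.ext ?_
      rw [Subgroup.coe_mul, Subgroup.coe_mul, hx, hy]
      exact (((hWab w hw w' hw').mul_right (hrotW c' w hw).symm).mul_left
        ((hrotW c w' hw').mul_right (show Commute (ι (r (2 * c))) (ι (r (2 * c'))) by
          show _ * _ = _ * _; rw [← map_mul, ← map_mul, r_mul_r, r_mul_r, add_comm]))).eq
    · rintro x ⟨w, hw, c, hx⟩ h2
      have h3 : w * ι (r (2 * c)) * (w * ι (r (2 * c))) = 1 := by rw [← hx]; exact congrArg Subtype.val h2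
      rw [(hrotW c w hw).mul_mul_mul_comm, mul_eq_one_iff_eq_inv] at h3
      have hw1 : w = 1 := by
        refine eq_one_of_sq ((hW w).1 hw).2 ?_
        by_contra hne
        have hmem : w * w ∈ (T : Subgroup X) := by
          rw [h3]; exact inv_mem (mul_mem (DD.mem _) (DD.mem _))
        obtain ⟨n, hn⟩ := IsPGroup.iff_orderOf.1 T.2 ⟨_, hmem⟩
        rw [orderOf_mk] at hn
        have ho := ((hW _).1 (W.mul_mem hw hw)).2
        rw [hn] at ho
        rcases n with _ | n
        · exact hne (orderOf_eq_one_iff.1 (by rw [hn, pow_zero]))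
        · exact absurd ho (Nat.not_odd_iff_even.2 (by simp [pow_succ]))
      rw [hw1, one_mul] at hx h3
      have h5 : ι (r (2 * c + 2 * c)) = 1 := by
        rw [← r_mul_r, map_mul, ← inv_eq_one]; exact h3.symm
      have h6 : (2 : ZMod (2 ^ k)) * (2 * c) = 0 := by
        have := DD.inj (h5.trans (map_one ι).symm)
        rw [DihedralGroup.one_def] at this
        rw [two_mul]; exact DihedralGroup.r.inj this
      rcases two_mul_zero DD.pos h6 with e | e
      · exact Or.inl (Subtype.ext (by rw [hx, e, ← DihedralGroup.one_def, map_one]; simp))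
      · exact Or.inr (Subtype.ext (by rw [hx, e]))
    · intro x hx hxA
      obtain ⟨w, hw, c, hxc⟩ := hout x hx hxA
      refine Subtype.ext ?_
      rw [Subgroup.coe_mul, hxc, Subgroup.coe_one]
      have hs := hsame c w hw
      rw [htinv w hw] at hs
      have hs2 : ι (sr (b + 2 * c)) * ι (sr (b + 2 * c)) = 1 := inv2_mul_self (DD.sr_order _)
      rw [inv_eq_of_mul_eq_one_right hs2] at hs
      calc w * ι (sr (b + 2 * c)) * (w * ι (sr (b + 2 * c)))
          = w * (ι (sr (b + 2 * c)) * w * ι (sr (b + 2 * c))) := by group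
        _ = 1 := by rw [hs, mul_inv_cancel]
    · intro x y hx hy hxA hyA
      obtain ⟨w, hw, c, hxc⟩ := hout x hx hxA
      obtain ⟨w', hw', c', hyc⟩ := hout y hy hyA
      have hs := hsame c w' hw'
      rw [htinv w' hw'] at hs
      refine (hAMmem _).2 ⟨w * w'⁻¹, W.mul_mem hw (W.inv_mem hw'), c' - c, ?_⟩
      rw [Subgroup.coe_mul, hxc, hyc, show w * ι (sr (b + 2 * c)) * (w' * ι (sr (b + 2 * c'))) =
        w * (ι (sr (b + 2 * c)) * w' * (ι (sr (b + 2 * c)))⁻¹) * (ι (sr (b + 2 * c)) * ι (sr (b + 2 * c')))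
        by group, hs, ← map_mul, sr_mul_sr]
      congr 3; ring
  have hgood : Good M := hshape.good hconjM
  have := hgood.isSimpleGroup hone' hOM hMns
  refine pgl_of_index_two' hns hMi ⟨j, hjM, hjj⟩ (no_eight_of_ddata DD) (fun c hcM hc2 hcc => ?_)
    (hgood.psl hOM hMns hone')
  -- a central involution is the central one of `T`
  have hcT : c ∈ (T : Subgroup X) := by
    have hp : IsPGroup 2 ((T : Subgroup X) ⊔ zpowers c : Subgroup X) :=
      T.2.to_sup_of_normal_right' (IsPGroup.of_card (n := 1) (by rw [Nat.card_zpowers, hc2, pow_one]))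
        (fun x _ => centralizer_le_normalizer _ (mem_centralizer_iff.2 fun y hy => by
          obtain ⟨i, rfl⟩ := mem_zpowers_iff.1 hy
          exact ((hcc x).symm.zpow_left i).eq))
    exact T.3 hp le_sup_left ▸ mem_sup_right (mem_zpowers c)
  rcases DD.involution_cases hcT hc2 with e | ⟨i, e⟩
  · exact hcM (e ▸ hzM)
  · have h1 := hcc (ι (r 1))
    rw [e] at h1
    have h2 : ι (r 1 * sr i) = ι (sr i * r 1) := by rw [map_mul, map_mul]; exact h1.eq
    have h3 := DD.inj h2
    rw [r_mul_sr, sr_mul_r] at h3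
    have h4 : (2 : ZMod (2 ^ k)) = 0 := by linear_combination -(DihedralGroup.sr.inj h3)
    have h5 := (ZMod.natCast_eq_zero_iff 2 (2 ^ k)).1 (by exact_mod_cast h4)
    exact absurd (Nat.le_of_dvd two_pos h5) (by
      have := Nat.pow_le_pow_right two_pos hk; omega)

end Cfsg.Agent.DGroupPSL
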