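import Cfsg.Agent.DGroupPSL.Main

/-!
# Tools for the case of a noncentral shaped involution
-/

set_option autoImplicit false

namespace Cfsg.Agent.DGroupPSL

open Subgroup DihedralGroup Cfsg.Agent.Invol

universe u

variable {X : Type u} [Group X] [Finite X]

/-- An involution without fixed points on an invariant subgroup of odd order inverts it. -/
theorem inverts_of_fpf {W : Subgroup X} (hW : Odd (Nat.card W)) {j : X} (hj : j * j = 1)
    (hn : ∀ w ∈ W, j * w * j ∈ W) (hf : ∀ w ∈ W, Commute w j → w = 1) : ∀ w ∈ W, j * w * j = w⁻¹ := by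
  let f : W → W := fun w => ⟨(w : X)⁻¹ * (j * w * j), W.mul_mem (W.inv_mem w.2) (hn w w.2)⟩
  have hinj : Function.Injective f := by
    intro a b e
    have e' : (a : X)⁻¹ * (j * a * j) = (b : X)⁻¹ * (j * b * j) := congrArg Subtype.val e
    refine Subtype.ext (mul_inv_eq_one.1 (hf _ (W.mul_mem a.2 (W.inv_mem b.2)) ?_))
    show (a : X) * (b : X)⁻¹ * j = j * ((a : X) * (b : X)⁻¹)
    have e2 : j * (a : X) * j = a * ((b : X)⁻¹ * (j * b * j)) := by rw [← e', mul_inv_cancel_left]
    calc (a : X) * (b : X)⁻¹ * j = a * ((b : X)⁻¹ * (j * b * j)) * (j * (b : X)⁻¹) * (j * j) := by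
          rw [hj, mul_one]
          simp only [mul_assoc]
          rw [← mul_assoc j j (b : X)⁻¹, hj, one_mul, mul_inv_cancel, mul_one]
      _ = j * a * (j * j) * (b : X)⁻¹ := by
          rw [← e2, hj]
          simp only [mul_assoc, one_mul, mul_one]
          rw [← mul_assoc j j, hj, one_mul]
      _ = j * ((a : X) * (b : X)⁻¹) := by rw [hj, mul_one, mul_assoc]
  intro w hw
  obtain ⟨a, ha⟩ := Finite.surjective_of_injective hinj ⟨w, hw⟩
  have e : (a : X)⁻¹ * (j * a * j) = w := congrArg Subtype.val ha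
  rw [← e, mul_inv_rev, mul_inv_rev, mul_inv_rev, inv_inv, inv_eq_of_mul_eq_one_right hj]
  calc j * ((a : X)⁻¹ * (j * a * j)) * j = j * (a : X)⁻¹ * j * (a * (j * j)) := by group
    _ = j * ((a : X)⁻¹ * j) * a := by rw [hj, mul_one, mul_assoc j]

/-- A group with a normal subgroup of all odd elements is that subgroup times a Sylow subgroup. -/
theorem sup_sylow_eq_top (W : Subgroup X) [W.Normal] (hW : ∀ x, x ∈ W ↔ Odd (orderOf x))
    (T : Sylow 2 X) : W ⊔ (T : Subgroup X) = ⊤ := by
  have : Fact (Nat.Prime 2) := ⟨Nat.prime_two⟩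
  have hq : IsPGroup 2 (X ⧸ W) := by
    intro q
    obtain ⟨x, rfl⟩ := QuotientGroup.mk_surjective q
    obtain ⟨k, l, hl, hkl⟩ := Nat.exists_eq_two_pow_mul_odd (orderOf_pos x).ne'
    refine ⟨k, ?_⟩
    rw [← QuotientGroup.mk_pow, QuotientGroup.eq_one_iff, hW, orderOf_pow' _ (pow_ne_zero _ two_ne_zero),
      hkl, Nat.gcd_eq_right (dvd_mul_right _ _), Nat.mul_div_cancel_left _ (Nat.two_pow_pos k)]
    exact hl
  obtain ⟨n, hn⟩ := hq.exists_card_eq
  rw [← Subgroup.index_eq_card] at hn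
  rw [← Subgroup.index_eq_one]
  obtain ⟨i, -, hi⟩ := (Nat.dvd_prime_pow Nat.prime_two).1
    (hn ▸ Subgroup.index_dvd_of_le (le_sup_left : W ≤ W ⊔ (T : Subgroup X)))
  rcases i with _ | i
  · rw [hi, pow_zero]
  · exact absurd ((dvd_pow_self 2 i.succ_ne_zero).trans (hi ▸ Subgroup.index_dvd_of_le le_sup_right))
      T.not_dvd_index

/-- In `S₅` only the four-group centralises a four-group. -/
theorem sq_eq_one_of_commute_four : ∀ v : Equiv.Perm (Fin 5), v * v = 1 → v ≠ 1 →
    ∀ w : Equiv.Perm (Fin 5), w * w = 1 → w ≠ 1 → w ≠ v → v * w = w * v →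
      ∀ τ : Equiv.Perm (Fin 5), v * τ = τ * v → w * τ = τ * w → τ * τ = 1 := by
  decide +kernel

/-- A dihedral `2`-group has no elementary abelian subgroup of order eight. -/
theorem dihedral_no_eight {k : ℕ} (hk : 1 ≤ k) (E : Subgroup (DihedralGroup (2 ^ k)))
    (hsq : ∀ y ∈ E, y * y = 1) : Nat.card E ≤ 4 := by
  classical
  have hr : ∀ i, r i ∈ E → i = 0 ∨ i = dh k := fun i hi => by
    refine two_mul_zero hk ?_
    have := hsq _ hi
    rw [r_mul_r, DihedralGroup.one_def] at this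
    rw [two_mul]
    exact DihedralGroup.r.inj this
  by_cases hs : ∃ a, sr a ∈ E
  · obtain ⟨a, ha⟩ := hs
    have hle : E ≤ dfour hk a := fun d hd => by
      rw [mem_dfour_iff hk]
      rcases d with i | b
      · rcases hr i hd with rfl | rfl
        exacts [Or.inl rfl, Or.inr (Or.inl rfl)]
      · have h1 := E.mul_mem ha hd
        rw [sr_mul_sr] at h1
        rcases hr _ h1 with h | h
        · exact Or.inr (Or.inr (Or.inl (by rw [sub_eq_zero.1 h])))
        · exact Or.inr (Or.inr (Or.inr (by rw [← h]; ring_nf)))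
    exact (Subgroup.card_le_of_le hle).trans (dfour_card hk a).le
  · push Not at hs
    have hsub : (E : Set (DihedralGroup (2 ^ k))) ⊆ {r 0, r (dh k)} := fun d hd => by
      rcases d with i | b
      · rcases hr i hd with rfl | rfl <;> simp
      · exact absurd hd (hs b)
    have h2 := Set.ncard_le_ncard hsub (Set.toFinite _)
    have h3 := Set.ncard_insert_le (r 0 : DihedralGroup (2 ^ k)) {r (dh k)}
    rw [Set.ncard_singleton] at h3
    rw [← Nat.card_coe_set_eq] at h2
    exact h2.trans (h3.trans (by norm_num))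

variable {S : Sylow 2 X} {k : ℕ} {ι : DihedralGroup (2 ^ k) →* X}

/-- No elementary abelian subgroup of order eight with a dihedral Sylow subgroup. -/
theorem no_eight_of_ddata (D : DData S k ι) (E : Subgroup X) (hE : Nat.card E = 8) :
    ∃ y ∈ E, y * y ≠ 1 := by
  by_contra hcon
  push Not at hcon
  obtain ⟨g, hg⟩ := D.exists_conj_le E (IsPGroup.of_card (n := 3) (by rw [hE]; rfl))
  set E' := E.map (MulAut.conj g).toMonoidHom with hE'
  have hE'c : Nat.card E' = 8 := by rw [hE', card_map_of_injective (MulAut.conj g).injective, hE]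
  have hmap : (E'.comap ι).map ι = E' := map_comap_eq_self (hg.trans D.range.ge)
  have hc : Nat.card (E'.comap ι) = 8 := by rw [← card_map_of_injective D.inj, hmap, hE'c]
  have hsq : ∀ y ∈ E'.comap ι, y * y = 1 := by
    intro y hy
    obtain ⟨e, he, hy'⟩ : ι y ∈ E' := hy
    refine D.inj ?_
    rw [map_mul, map_one, ← hy', ← map_mul, hcon e he, map_one]
  have := dihedral_no_eight D.pos _ hsq
  omega

/-- With dihedral Sylow subgroups and one class of involutions four-groups have transitive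
automisers. -/
theorem auto_of_ddata (D : DData S k ι) (hone : ∀ x y : X, orderOf x = 2 → orderOf y = 2 → IsConj x y)
    {V : Subgroup X} (hV : IsFour V) {v u : X} (hv : v ∈ V) (hv1 : v ≠ 1) (hu : u ∈ V) (hu1 : u ≠ 1) :
    ∃ n ∈ normalizer (V : Set X), n * v * n⁻¹ = u := by
  have : Fact (Nat.Prime 2) := ⟨Nat.prime_two⟩
  by_cases hne : v = u
  · exact ⟨1, Subgroup.one_mem _, by rw [one_mul, inv_one, mul_one, hne]⟩
  have hV2 : IsPGroup 2 V := IsPGroup.of_card (n := 2) (by rw [hV.card]; rfl)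
  rcases Nat.lt_or_ge k 2 with hk | hk
  · have hk1 : k = 1 := by have := D.pos; omega
    obtain ⟨R, hR⟩ := hV2.exists_le_sylow
    have hRc : Nat.card (R : Subgroup X) = 4 := by
      rw [R.card_eq_multiplicity, ← S.card_eq_multiplicity, D.card_sylow, hk1]; rfl
    have e : (R : Subgroup X) = V := (Subgroup.eq_of_le_of_card_ge hR (by rw [hRc, hV.card])).symm
    obtain ⟨g, hg⟩ := isConj_iff.1 (hone v u (hV.orderOf_eq hv hv1) (hV.orderOf_eq hu hu1))
    obtain ⟨t, ht, htv⟩ := Fusion.exists_mem_normalizer_conj_of_isMulCommutative (P := R)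
      (e ▸ hV.isMulCommutative) (hR hv) g (hg ▸ hR hu)
    exact ⟨t, by rw [← e]; exact ht, htv.trans hg⟩
  -- the involution fixed by the element to be found
  set w := v * u with hw
  have hwV : w ∈ V := V.mul_mem hv hu
  have hw1 : w ≠ 1 := fun e => hne ((eq_inv_of_mul_eq_one_left e).trans (hV.inv_eq hu))
  set z := ι (r (dh k)) with hz
  obtain ⟨g, hg⟩ := isConj_iff.1 (hone w z (hV.orderOf_eq hwV hw1) D.z_order)
  obtain ⟨c, hc, hcS⟩ := D.exists_conj_le_centralizer (V.map (MulAut.conj g).toMonoidHom) (hV2.map _) (by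
    rintro _ ⟨y, hy, rfl⟩
    refine mem_centralizer_singleton_iff.2 ?_
    rw [← hz, ← hg]
    exact ((Commute.conj_iff g).2 (hV.commute hy hwV)).eq)
  set h := c * g with hh
  have hhw : h * w * h⁻¹ = z := by
    rw [hh, mul_inv_rev, show c * g * w * (g⁻¹ * c⁻¹) = c * (g * w * g⁻¹) * c⁻¹ by group, hg, hc]
  have hmem : ∀ y ∈ V, h * y * h⁻¹ ∈ (S : Subgroup X) := fun y hy =>
    hcS ⟨g * y * g⁻¹, ⟨y, hy, rfl⟩, by simp [hh, mul_assoc]⟩
  set q := ι (r (2 ^ (k - 2))) with hq
  set d := h⁻¹ * q * h with hd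
  have hdy : ∀ y ∈ V, y ≠ 1 → y ≠ w → d * y * d⁻¹ = w * y := by
    intro y hy hy1 hyw
    have ho : orderOf (h * y * h⁻¹) = 2 := by rw [Invol.orderOf_conj, hV.orderOf_eq hy hy1]
    rcases D.involution_cases (hmem y hy) ho with e | ⟨a, e⟩
    · exact absurd (mul_left_cancel (mul_right_cancel (e.trans hhw.symm))) hyw
    · have e2 : q * (h * y * h⁻¹) * q⁻¹ = z * (h * y * h⁻¹) := by
        rw [e, hq, hz, ← map_inv, ← map_mul, ← map_mul, r_conj_sr D.pos, ← map_mul, r_mul_sr]
        congr 2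
        rw [dh_even hk]
      calc d * y * d⁻¹ = h⁻¹ * (q * (h * y * h⁻¹) * q⁻¹) * h := by rw [hd]; group
        _ = w * y := by rw [e2, ← hhw]; group
  have hdw : d * w * d⁻¹ = w := by
    have e2 : q * z * q⁻¹ = z := by rw [D.z_comm (D.mem _), mul_inv_cancel_right]
    calc d * w * d⁻¹ = h⁻¹ * (q * (h * w * h⁻¹) * q⁻¹) * h := by rw [hd]; group
      _ = w := by rw [hhw, e2, ← hhw]; group
  have hV' : ∀ y ∈ V, d * y * d⁻¹ ∈ V := by
    intro y hy
    by_cases hy1 : y = 1
    · rw [hy1, mul_one, mul_inv_cancel]; exact V.one_mem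
    by_cases hyw : y = w
    · rw [hyw, hdw]; exact hwV
    · rw [hdy y hy hy1 hyw]; exact V.mul_mem hwV hy
  refine ⟨d, mem_normalizer_iff.2 fun y => ⟨hV' y, fun hy => ?_⟩, ?_⟩
  · have := hV.finite
    obtain ⟨y', e⟩ := Finite.surjective_of_injective
      (f := fun y : V => (⟨_, hV' y y.2⟩ : V)) (fun a b e => Subtype.ext (by simpa using congrArg Subtype.val e))
      ⟨_, hy⟩
    exact (mul_left_cancel (mul_right_cancel (congrArg Subtype.val e)) : (y' : X) = y) ▸ y'.2
  · rw [hdy v hv hv1 (fun e => hu1 (by simpa [hw] using e.symm)), hw, (hV.commute hv hu).eq,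
      mul_assoc, hV.sq v hv, mul_one]

end Cfsg.Agent.DGroupPSL
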