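import Cfsg.Agent.IIGroups.PGL
import Mathlib.NumberTheory.SumFourSquares

/-!
# Degree two extensions of `PSL(2, q)` without elementary abelian subgroups of order eight
-/

set_option autoImplicit false

namespace Cfsg.Agent.DGroupPSL

open Cfsg.Agent.AutPSL Cfsg.Agent.IIGroups Subgroup

universe u

section Elementary

variable {G : Type*} [Group G]

/-- Three commuting involutions generating a group of order eight. -/
theorem exists_order_eight {M : Subgroup G} {u A B : G} (hA : A ∈ M) (hB : B ∈ M) (hu : u ∉ M)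
    (uu : u * u = 1) (AA : A * A = 1) (BB : B * B = 1) (hAB : Commute A B) (hAu : Commute A u)
    (hBu : Commute B u) (A1 : A ≠ 1) (B1 : B ≠ 1) (AB1 : A * B ≠ 1) :
    ∃ E : Subgroup G, Nat.card E = 8 ∧ ∀ y ∈ E, y * y = 1 := by
  have key : ∀ i j k i' j' k' : ℕ, u ^ i * A ^ j * B ^ k * (u ^ i' * A ^ j' * B ^ k') =
      u ^ (i + i') * A ^ (j + j') * B ^ (k + k') := by
    intro i j k i' j' k'
    have h1 : Commute (B ^ k) (u ^ i' * A ^ j') :=
      (hBu.pow_pow k i').mul_right (hAB.symm.pow_pow k j')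
    rw [pow_add, pow_add, pow_add, mul_assoc (u ^ i * A ^ j), ← mul_assoc (B ^ k), h1.eq]
    simp only [mul_assoc]
    rw [← mul_assoc (A ^ j) (u ^ i'), (hAu.pow_pow j i').eq, mul_assoc]
  have hsq : ∀ i j k : ℕ, u ^ i * A ^ j * B ^ k * (u ^ i * A ^ j * B ^ k) = 1 := fun i j k => by
    rw [key, ← two_mul, ← two_mul, ← two_mul, pow_mul, pow_mul, pow_mul, pow_two, pow_two, pow_two,
      uu, AA, BB]
    simp
  let E : Subgroup G :=
    { carrier := {y | ∃ i j k : ℕ, u ^ i * A ^ j * B ^ k = y}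
      mul_mem' := by
        rintro _ _ ⟨i, j, k, rfl⟩ ⟨i', j', k', rfl⟩
        exact ⟨i + i', j + j', k + k', (key i j k i' j' k').symm⟩
      one_mem' := ⟨0, 0, 0, by simp⟩
      inv_mem' := by
        rintro _ ⟨i, j, k, rfl⟩
        exact ⟨i, j, k, (inv_eq_of_mul_eq_one_right (hsq i j k)).symm⟩ }
  refine ⟨E, ?_, fun y hy => ?_⟩
  · let f : Fin 2 × Fin 2 × Fin 2 → E := fun t =>
      ⟨u ^ (t.1 : ℕ) * A ^ (t.2.1 : ℕ) * B ^ (t.2.2 : ℕ), _, _, _, rfl⟩
    have h1 : Function.Injective f := by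
      intro t t' h
      have h' : u ^ (t.1 : ℕ) * A ^ (t.2.1 : ℕ) * B ^ (t.2.2 : ℕ) *
          (u ^ (t'.1 : ℕ) * A ^ (t'.2.1 : ℕ) * B ^ (t'.2.2 : ℕ)) = 1 := by
        rw [show u ^ (t'.1 : ℕ) * A ^ (t'.2.1 : ℕ) * B ^ (t'.2.2 : ℕ) = _ from
          (congrArg Subtype.val h).symm]
        exact hsq _ _ _
      rw [key] at h'
      have hi : ((t.1 : ℕ) + t'.1) % 2 = 0 := by
        by_contra hne
        apply hu
        have : u ^ ((t.1 : ℕ) + t'.1) = u := by
          rw [← Nat.div_add_mod ((t.1 : ℕ) + t'.1) 2, Nat.mod_two_ne_zero.1 hne, pow_succ, pow_mul,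
            pow_two, uu, one_pow, one_mul]
        rw [this, mul_assoc] at h'
        rw [eq_inv_of_mul_eq_one_left h']
        exact inv_mem (mul_mem (pow_mem hA _) (pow_mem hB _))
      have hu0 : u ^ ((t.1 : ℕ) + t'.1) = 1 := by
        rw [← Nat.div_add_mod ((t.1 : ℕ) + t'.1) 2, hi, add_zero, pow_mul, pow_two, uu, one_pow]
      rw [hu0, one_mul] at h'
      obtain ⟨⟨x, hx⟩, ⟨y, hy⟩, ⟨z, hz⟩⟩ := t
      obtain ⟨⟨x', hx'⟩, ⟨y', hy'⟩, ⟨z', hz'⟩⟩ := t'
      simp only [Prod.mk.injEq, Fin.mk.injEq] at hi h' ⊢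
      refine ⟨by omega, ?_⟩
      have A2 : A ^ 2 = 1 := by rw [pow_two, AA]
      have B2 : B ^ 2 = 1 := by rw [pow_two, BB]
      interval_cases y <;> interval_cases y' <;> interval_cases z <;> interval_cases z' <;>
        simp_all
    have h2 : Function.Surjective f := by
      rintro ⟨_, i, j, k, rfl⟩
      refine ⟨(⟨i % 2, Nat.mod_lt _ two_pos⟩, ⟨j % 2, Nat.mod_lt _ two_pos⟩,
        ⟨k % 2, Nat.mod_lt _ two_pos⟩), Subtype.ext ?_⟩
      show u ^ (i % 2) * A ^ (j % 2) * B ^ (k % 2) = _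
      have e : ∀ (x : G), x * x = 1 → ∀ n : ℕ, x ^ (n % 2) = x ^ n := fun x hx n => by
        conv_rhs => rw [← Nat.mod_add_div n 2, pow_add, pow_mul, pow_two, hx, one_pow, mul_one]
      rw [e u uu, e A AA, e B BB]
    rw [← Nat.card_congr (Equiv.ofBijective f ⟨h1, h2⟩)]
    simp
  · obtain ⟨i, j, k, rfl⟩ := hy
    exact hsq i j k

end Elementary

/-- An element of `SL(2)` of trace zero has central square. -/
theorem mkP_sq_of_trace {F : Type*} [Field F] {s : SLn 2 F} (h : s.1 0 0 + s.1 1 1 = 0) :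
    mkP s * mkP s = 1 := by
  rw [← map_mul, mkP_eq_one_iff, Matrix.SpecialLinearGroup.mem_center_iff]
  refine ⟨-1, by simp, ?_⟩
  have hd := s.2
  rw [Matrix.det_fin_two] at hd
  rw [Matrix.SpecialLinearGroup.coe_mul]
  ext i j
  fin_cases i <;> fin_cases j <;> simp [Matrix.mul_apply, Fin.sum_univ_two]
  · linear_combination hd - s.1 0 0 * h
  · linear_combination -s.1 0 1 * h
  · linear_combination -s.1 1 0 * h
  · linear_combination hd - s.1 1 1 * h

theorem pgl2_of_index_two {X : Type u} [Group X] [Finite X] (K : Subgroup X) [K.Normal]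
    (hK : K.index = 2) (F : Type) [Field F] [Fintype F] (hF : Odd (Fintype.card F))
    (_hq : 3 < Fintype.card F) (e : Nonempty (K ≃* Matrix.ProjectiveSpecialLinearGroup (Fin 2) F))
    (hC : Subgroup.centralizer (K : Set X) = ⊥) (hx : ∃ x, x ∉ K ∧ x * x = 1)
    (hE : ∀ E : Subgroup X, Nat.card E = 8 → ∃ y ∈ E, y * y ≠ 1) :
    Nonempty (X ≃* Matrix.ProjGenLinGroup (Fin 2) F) := by
  obtain ⟨e⟩ := e
  obtain ⟨u, hu, huu⟩ := hx
  have hu2 : orderOf u = 2 := orderOf_eq_prime (by rw [pow_two, huu]) fun h => hu (h ▸ K.one_mem)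
  have hodd := hF
  classical
  obtain ⟨k, hp, hcard⟩ := FiniteField.card F (ringChar F)
  set p := ringChar F
  haveI : Fact p.Prime := ⟨hp⟩
  have hpodd : Odd p := by
    rcases hp.eq_two_or_odd' with h | h
    · exfalso
      rw [hcard, h] at hodd
      exact (Nat.not_even_iff_odd.2 hodd) (Nat.even_pow.2 ⟨even_two, k.ne_zero⟩)
    · exact h
  set j := toAut K e with hj
  have hinj : Function.Injective j := by
    refine (injective_iff_map_eq_one j).2 fun g hg => ?_
    have hgC : g ∈ Subgroup.centralizer (K : Set X) := by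
      rw [Subgroup.mem_centralizer_iff]
      intro m hm
      have h1 := MulEquiv.congr_fun hg (e ⟨m, hm⟩)
      rw [hj, toAut_apply, MulEquiv.symm_apply_apply, MulAut.one_apply] at h1
      have h2 : g * m * g⁻¹ = m := by
        have := congrArg Subtype.val (e.injective h1)
        rwa [MulAut.conjNormal_apply] at this
      exact (mul_inv_eq_iff_eq_mul.1 h2).symm
    rwa [hC, Subgroup.mem_bot] at hgC
  have hinner : ∀ m : K, j m ∈ inndiagPSL 2 F := by
    intro m
    refine inn_le_inndiag ⟨e m, MulEquiv.ext fun x => ?_⟩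
    rw [hj, toAut_apply, MulAut.conj_apply]
    have : MulAut.conjNormal (m : X) (e.symm x) = m * e.symm x * m⁻¹ :=
      Subtype.ext (by rw [MulAut.conjNormal_apply]; rfl)
    rw [this, map_mul, map_mul, map_inv, MulEquiv.apply_symm_apply]
  obtain ⟨g, σ, hgσ⟩ := exists_decomp_two p (j u)
  have hsq : twN σ g 2 ∈ Subgroup.center (GL (Fin 2) F) ∧ σ ^ 2 = 1 := by
    have h1 : conjA (twN σ g 2) * fieldA (σ ^ 2) = (1 : MulAut (PSLn 2 F)) := by
      rw [← conjA_field_pow, ← hgσ, ← map_pow, orderOf_dvd_iff_pow_eq_one.1 hu2.dvd, map_one]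
    obtain ⟨a, b⟩ := eq_one_of_conj_field p le_rfl h1
    exact ⟨b, a⟩
  have hσ : σ = 1 := by
    by_contra hne
    have hσ2 : orderOf σ = 2 := orderOf_eq_prime hsq.2 hne
    obtain ⟨a, h, hgh⟩ := exists_coboundary two_pos hσ2 g hsq.1
    have hconj : j u = conjA h * fieldA σ * (conjA h)⁻¹ := by
      rw [hgσ, hgh, map_mul, center_le_ker _ (scalar_mem_center a), one_mul, map_mul, mul_assoc,
        mul_assoc, ← map_inv, ← map_inv, conjA_field σ h⁻¹, map_inv]
    let φ : PSLn 2 F →* X := K.subtype.comp (e.symm.toMonoidHom.comp (conjA h).toMonoidHom)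
    have hφ : Function.Injective φ := fun x y hxy =>
      (conjA h).injective (e.symm.injective (K.subtype_injective hxy))
    have hφu : ∀ s : SLn 2 F, fieldSL σ s = s → Commute (φ (mkP s)) u := by
      intro s hs
      have h1 : j u (conjA h (mkP s)) = conjA h (mkP s) := by
        rw [hconj, MulAut.mul_apply, MulAut.mul_apply, MulAut.inv_apply_self, fieldA_mkP, hs]
      rw [hj, toAut_apply] at h1
      have h2 := congrArg Subtype.val ((e.eq_symm_apply).2 h1)
      rw [MulAut.conjNormal_apply] at h2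
      exact (mul_inv_eq_iff_eq_mul.1 h2).symm
    obtain ⟨x, y, hxy⟩ := ZMod.sq_add_sq p (-1)
    let c : ZMod p →+* F := ZMod.castHom dvd_rfl F
    have hfc : ∀ z, σ (c z) = c z := fun z =>
      RingHom.congr_fun (Subsingleton.elim ((σ : F →+* F).comp c) c) z
    have hxy' : c x * c x + c y * c y = -1 := by
      rw [← map_mul, ← map_mul, ← map_add, ← pow_two, ← pow_two, hxy, map_neg, map_one]
    let s : SLn 2 F := ⟨!![0, 1; -1, 0], by simp [Matrix.det_fin_two]⟩
    let w : SLn 2 F := ⟨!![c x, c y; c y, -c x], by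
      rw [Matrix.det_fin_two_of]; linear_combination -hxy'⟩
    have hs : fieldSL σ s = s := sl_ext (by
      rw [fieldSL_coe]
      show (!![0, 1; -1, 0] : Matrix (Fin 2) (Fin 2) F).map σ = !![0, 1; -1, 0]
      ext i l; fin_cases i <;> fin_cases l <;> simp)
    have hw : fieldSL σ w = w := sl_ext (by
      rw [fieldSL_coe]
      show (!![c x, c y; c y, -c x] : Matrix (Fin 2) (Fin 2) F).map σ = !![c x, c y; c y, -c x]
      ext i l; fin_cases i <;> fin_cases l <;> simp [hfc])
    have hsw : (s * w).1 = !![c y, -c x; -c x, -c y] := by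
      rw [Matrix.SpecialLinearGroup.coe_mul]
      show (!![0, 1; -1, 0] : Matrix (Fin 2) (Fin 2) F) * !![c x, c y; c y, -c x] = _
      rw [Matrix.mul_fin_two]
      simp
    have hnc : ∀ z : SLn 2 F, mkP z = 1 → z.1 0 1 = 0 ∧ z.1 0 0 = z.1 1 1 := by
      intro z hz
      obtain ⟨r, -, hr⟩ := Matrix.SpecialLinearGroup.mem_center_iff.1 (mkP_eq_one_iff.1 hz)
      rw [← hr]; simp
    have h2 : (2 : F) ≠ 0 := by
      intro h0
      have : ringChar F = 2 := (Nat.prime_two.eq_one_or_self_of_dvd _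
        ((ringChar.spec F 2).1 (by exact_mod_cast h0))).resolve_left (CharP.ringChar_ne_one (R := F))
      exact (Nat.not_even_iff_odd.2 hodd)
        (Nat.even_iff.2 (FiniteField.even_card_iff_char_two.1 this))
    have hne0 : ¬ (c x = 0 ∧ c y = 0) := fun ⟨h1, h3⟩ => by
      rw [h1, h3] at hxy'; simp at hxy'
    have sq : ∀ z : SLn 2 F, z.1 0 0 + z.1 1 1 = 0 → φ (mkP z) * φ (mkP z) = 1 := fun z hz => by
      rw [← map_mul, mkP_sq_of_trace hz, map_one]
    have A1 : φ (mkP s) ≠ 1 := fun h => by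
      have := (hnc s (hφ (h.trans (map_one φ).symm))).1
      simp [s] at this
    have B1 : φ (mkP w) ≠ 1 := fun h => by
      obtain ⟨h1, h3⟩ := hnc w (hφ (h.trans (map_one φ).symm))
      simp [w] at h1 h3
      exact hne0 ⟨(mul_eq_zero.1 (show (2 : F) * c x = 0 by linear_combination h3)).resolve_left h2,
        by rw [h1, map_zero]⟩
    have AB1 : φ (mkP s) * φ (mkP w) ≠ 1 := fun h => by
      rw [← map_mul, ← map_mul] at h
      obtain ⟨h1, h3⟩ := hnc _ (hφ (h.trans (map_one φ).symm))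
      rw [hsw] at h1 h3
      simp at h1 h3
      exact hne0 ⟨by rw [h1, map_zero], (mul_eq_zero.1 (show (2 : F) * c y = 0 by linear_combination h3)).resolve_left
        h2⟩
    have hA := sq s (by simp [s])
    have hB := sq w (by simp [w])
    have hP : φ (mkP s) * φ (mkP w) * (φ (mkP s) * φ (mkP w)) = 1 := by
      rw [← map_mul φ (mkP s) (mkP w), ← map_mul mkP]
      exact sq _ (by rw [hsw]; simp)
    have hAB : Commute (φ (mkP s)) (φ (mkP w)) := by
      have h3 := eq_inv_of_mul_eq_one_left hP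
      rw [_root_.mul_inv_rev, inv_eq_of_mul_eq_one_right hA, inv_eq_of_mul_eq_one_right hB] at h3
      exact h3
    obtain ⟨E, hE8, hEsq⟩ := exists_order_eight (M := K) (u := u) (SetLike.coe_mem _)
      (SetLike.coe_mem _) hu huu hA hB hAB (hφu s hs) (hφu w hw) A1 B1 AB1
    obtain ⟨z, hz, hz2⟩ := hE E hE8
    exact hz2 (hEsq z hz)
  have hju : j u ∈ inndiagPSL 2 F := by
    rw [inndiagPSL_eq, hgσ, hσ, map_one, mul_one]; exact ⟨g, rfl⟩
  have hrange : j.range ≤ inndiagPSL 2 F := by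
    rintro _ ⟨x, rfl⟩
    by_cases hx : x ∈ K
    · exact hinner ⟨x, hx⟩
    · have hxu : x * u ∈ K := (Subgroup.mul_mem_iff_of_index_two hK).2 (iff_of_false hx hu)
      rw [show x = x * u * u by
        rw [mul_assoc, ← sq, ← hu2, pow_orderOf_eq_one, mul_one], map_mul]
      exact mul_mem (hinner ⟨_, hxu⟩) hju
  let ψ : Matrix.ProjGenLinGroup (Fin 2) F →* MulAut (PSLn 2 F) :=
    QuotientGroup.lift _ (conjA (n := 2) (F := F)) (ker_conjA p le_rfl).ge
  have hψi : Function.Injective ψ := by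
    refine (injective_iff_map_eq_one ψ).2 fun x hx => ?_
    obtain ⟨y, rfl⟩ := QuotientGroup.mk_surjective x
    exact (QuotientGroup.eq_one_iff y).2 ((conjA_eq_one_iff p le_rfl).1 hx)
  have hψr : j.range ≤ ψ.range := hrange.trans (by
    rw [inndiagPSL_eq]; rintro _ ⟨y, rfl⟩; exact ⟨QuotientGroup.mk y, rfl⟩)
  have hjψ : j.range = ψ.range := Subgroup.eq_of_le_of_card_ge hψr (le_of_eq (by
    rw [← Nat.card_congr (MonoidHom.ofInjective hinj).toEquiv,
      ← Nat.card_congr (MonoidHom.ofInjective hψi).toEquiv, card_pgl hodd,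
      ← Nat.card_congr e.toEquiv, ← K.card_mul_index, hK, mul_comm]))
  exact ⟨(MonoidHom.ofInjective hinj).trans
    ((MulEquiv.subgroupCongr hjψ).trans (MonoidHom.ofInjective hψi).symm)⟩

end Cfsg.Agent.DGroupPSL
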