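import Cfsg.Agent.DGroupPSL.RankOne
import Cfsg.Agent.DGroupPSL.Concl
import Cfsg.Agent.S0205

/-!
# One involution in the abelian part
-/

set_option autoImplicit false

namespace Cfsg.Agent.DGroupPSL

open Subgroup Cfsg.Agent.Invol

universe u

variable {G : Type u} [Group G] [Finite G]

/-- The facts on a D-group which is not elementary abelian. -/
theorem dgroup_facts (H A : Subgroup G) (hAH : A < H)
    (hD : ∀ x ∈ H, x ∉ A → x ^ 2 = 1) (h4 : 4 ∣ Nat.card H) (hne : ∃ a ∈ H, a * a ≠ 1) :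
    (∀ x ∈ H, x ∉ A → x * x = 1) ∧ (∀ x ∈ H, x ∉ A → ∀ a ∈ A, x * a * x⁻¹ = a⁻¹) ∧
      (∀ a ∈ A, ∀ b ∈ A, Commute a b) ∧ (∀ x ∈ H, ∀ y ∈ H, x ∉ A → y ∉ A → x * y ∈ A) ∧
      (∃ a ∈ A, a * a ≠ 1) ∧ (∃ x ∈ H, x ∉ A) ∧ ∃ j ∈ A, orderOf j = 2 := by
  classical
  have hle : A ≤ H := hAH.le
  obtain ⟨x0, hx0, hx0A⟩ := SetLike.exists_of_lt hAH
  have hsq : ∀ x ∈ H, x ∉ A → x * x = 1 := fun x hx hA => by rw [← pow_two]; exact hD x hx hA
  have hinv : ∀ x ∈ H, x ∉ A → ∀ a ∈ A, x * a * x⁻¹ = a⁻¹ := by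
    intro x hx hA a ha
    have h1 : x * a ∉ A := fun h => hA (by simpa using A.mul_mem h (A.inv_mem ha))
    have h2 := hsq _ (H.mul_mem hx (hle ha)) h1
    have h3 : x⁻¹ = x := inv_eq_of_mul_eq_one_right (hsq x hx hA)
    rw [h3]
    exact eq_inv_of_mul_eq_one_left (by rw [← h2]; group)
  obtain ⟨a0, ha0H, ha0⟩ := hne
  have ha0A : a0 ∈ A := by
    by_contra h
    exact ha0 (hsq a0 ha0H h)
  have hcomm : ∀ a ∈ A, ∀ b ∈ A, Commute a b := by
    intro a ha b hb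
    have h1 := hinv x0 hx0 hx0A _ (A.mul_mem ha hb)
    have h2 : x0 * (a * b) * x0⁻¹ = x0 * a * x0⁻¹ * (x0 * b * x0⁻¹) := by group
    rw [h2, hinv x0 hx0 hx0A a ha, hinv x0 hx0 hx0A b hb, ← mul_inv_rev, inv_inj] at h1
    exact h1.symm
  have hidx : ∀ x ∈ H, ∀ y ∈ H, x ∉ A → y ∉ A → x * y ∈ A := by
    intro x hx y hy hxA hyA
    by_contra hn
    have h1 := hinv _ (H.mul_mem hx hy) hn a0 ha0A
    have h2 : x * y * a0 * (x * y)⁻¹ = x * (y * a0 * y⁻¹) * x⁻¹ := by group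
    rw [h2, hinv y hy hyA a0 ha0A, hinv x hx hxA _ (A.inv_mem ha0A), inv_inv] at h1
    exact ha0 (mul_eq_one_iff_eq_inv.2 h1)
  refine ⟨hsq, hinv, hcomm, hidx, ⟨a0, ha0A, ha0⟩, ⟨x0, hx0, hx0A⟩, ?_⟩
  have h2i : (A.subgroupOf H).index = 2 := by
    refine Subgroup.index_eq_two_iff.2 ⟨⟨x0, hx0⟩, fun b => ?_⟩
    simp only [Subgroup.mem_subgroupOf, Subgroup.coe_mul]
    by_cases hb : (b : G) ∈ A
    · exact Or.inr ⟨hb, fun h => hx0A (by simpa using A.mul_mem (A.inv_mem hb) h)⟩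
    · exact Or.inl ⟨hidx b b.2 x0 hx0 hb hx0A, hb⟩
  have hc : Nat.card H = 2 * Nat.card A := by
    rw [← (A.subgroupOf H).card_mul_index, h2i, Nat.card_congr (subgroupOfEquivOfLe hle).toEquiv,
      mul_comm]
  obtain ⟨j, hj⟩ := exists_prime_orderOf_dvd_card' (G := A) 2 (by omega)
  exact ⟨j, j.2, by rw [← hj, Subgroup.orderOf_coe]⟩

/-- A unique involution in the abelian part: divide by the odd core. -/
theorem rank_one_case (H A : Subgroup G) (hsq : ∀ x ∈ H, x ∉ A → x * x = 1)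
    (hcomm : ∀ a ∈ A, ∀ b ∈ A, Commute a b) (hidx : ∀ x ∈ H, ∀ y ∈ H, x ∉ A → y ∉ A → x * y ∈ A)
    (j : G) (hjA : j ∈ A) (hj : orderOf j = 2) (hone : ∀ i ∈ A, orderOf i = 2 → i = j)
    (hC : Subgroup.centralizer ({j} : Set G) = H) (hns : ¬ Group.IsSolvable G) : Concl G := by
  classical
  have hmem : ∀ x : G, Commute x j → x ∈ H := fun x hx => hC ▸ mem_centralizer_singleton_iff.2 hx.eq
  have hS : Shape j A :=
    { cent := fun a ha => hcomm a ha j hjA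
      mem := hjA
      comm := hcomm
      two := fun a ha ha2 => or_iff_not_imp_left.2 fun h1 =>
        hone a ha (orderOf_eq_prime (by rw [pow_two]; exact ha2) h1)
      sq := fun x hx hA => hsq x (hmem x hx) hA
      index_two := fun x y hx hy hA hB => hidx x (hmem x hx) y (hmem y hy) hA hB }
  set N := Cfsg.oddCore G with hN
  have hodd : Odd (Nat.card N) := odd_card_oddCore
  have hker : (QuotientGroup.mk' N).ker = N := QuotientGroup.ker_mk' N
  have hS' := hS.map (f := QuotientGroup.mk' N) hj (by rw [hker]; exact hodd)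
    (QuotientGroup.mk'_surjective N)
  have hj' : orderOf (QuotientGroup.mk' N j) = 2 := by
    refine orderOf_eq_prime (by
      have h2 : j ^ 2 = 1 := orderOf_dvd_iff_pow_eq_one.1 hj.dvd
      rw [← map_pow, h2, map_one]) fun h => ?_
    have h1 : j ∈ N := hker ▸ (MonoidHom.mem_ker.2 h)
    have h2 := orderOf_dvd_natCard (⟨j, h1⟩ : N)
    rw [orderOf_mk, hj] at h2
    obtain ⟨k, hk⟩ := hodd
    omega
  have hns' : ¬ Group.IsSolvable (G ⧸ N) := fun h => hns (by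
    have : Group.IsSolvable N := S0205.result hodd
    exact Group.isSolvable_of_ker_le_range N.subtype (QuotientGroup.mk' N) (by rw [hker, N.range_subtype]))
  refine ⟨N, inferInstance, Or.inl hodd, ?_⟩
  rcases hS'.main hj' noOdd_mod_oddCore hns' with ⟨F, iF, iT, _, h3, h⟩ | ⟨F, iF, iT, _, h3, h⟩
  · exact ⟨F, iF, iT, h3, Or.inl h⟩
  · exact ⟨F, iF, iT, h3, Or.inr h⟩

end Cfsg.Agent.DGroupPSL
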