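import Cfsg.Agent.DGroupPSL.Basic
import Cfsg.Agent.Coprime.Generation
import Cfsg.Agent.Coprime.Hall
import Cfsg.Agent.S0205

/-!
# A four-group acting on subgroups of odd order
-/

set_option autoImplicit false

namespace Cfsg.Agent.DGroupPSL

open Subgroup

universe u

variable {K : Type u} [Group K]

/-- A four-group. -/
structure IsFour (V : Subgroup K) : Prop where
  card : Nat.card V = 4
  sq : ∀ x ∈ V, x * x = 1

/-- `X` centralises one of the involutions of `V`. -/
def InComp (V X : Subgroup K) : Prop := ∃ v ∈ V, v ≠ 1 ∧ ∀ x ∈ X, Commute x v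

theorem le_normalizer_of_conj_mem {A X : Subgroup K} (h : ∀ a ∈ A, ∀ x ∈ X, a * x * a⁻¹ ∈ X) :
    A ≤ normalizer (X : Set K) := fun a ha => by
  refine mem_normalizer_iff.2 fun x => ⟨h a ha x, fun hx => ?_⟩
  have := h a⁻¹ (A.inv_mem ha) _ hx
  rw [inv_inv] at this
  simpa [mul_assoc] using this

theorem conj_mem_of_le_normalizer {A X : Subgroup K} (h : A ≤ normalizer (X : Set K)) {a x : K}
    (ha : a ∈ A) (hx : x ∈ X) : a * x * a⁻¹ ∈ X := (mem_normalizer_iff.1 (h ha) x).1 hx

theorem odd_card_of_isPGroup [Finite K] {p : ℕ} [hp : Fact p.Prime] (hp2 : p ≠ 2) {X : Subgroup K}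
    (hX : IsPGroup p X) : Odd (Nat.card X) := by
  obtain ⟨n, hn⟩ := hX.exists_card_eq
  rw [hn]
  exact (hp.out.odd_of_ne_two hp2).pow

namespace IsFour

variable {V : Subgroup K} (hV : IsFour V)
include hV

theorem finite : Finite V := Nat.finite_of_card_ne_zero (by rw [hV.card]; norm_num)

theorem orderOf_eq {v : K} (hv : v ∈ V) (h1 : v ≠ 1) : orderOf v = 2 :=
  Invol.orderOf_eq_two_iff.2 ⟨h1, hV.sq v hv⟩

theorem inv_eq {v : K} (hv : v ∈ V) : v⁻¹ = v := inv_eq_of_mul_eq_one_right (hV.sq v hv)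

theorem commute {x y : K} (hx : x ∈ V) (hy : y ∈ V) : Commute x y := by
  show x * y = y * x
  rw [← hV.inv_eq (V.mul_mem hx hy), mul_inv_rev, hV.inv_eq hx, hV.inv_eq hy]

theorem isMulCommutative : IsMulCommutative V :=
  ⟨⟨fun a b => Subtype.ext (hV.commute a.2 b.2).eq⟩⟩

theorem exists_other (v : K) : ∃ u ∈ V, u ≠ 1 ∧ u ≠ v := by
  classical
  have := hV.finite
  have := Fintype.ofFinite V
  by_contra h
  push Not at h
  have hsub : (Finset.univ.image fun x : V => (x : K)) ⊆ {1, v} := by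
    intro x hx
    obtain ⟨y, -, rfl⟩ := Finset.mem_image.1 hx
    by_cases h1 : (y : K) = 1
    · simp [h1]
    · simp [h y y.2 h1]
  have h2 := Finset.card_le_card hsub
  rw [Finset.card_image_of_injective _ Subtype.coe_injective, Finset.card_univ,
    ← Nat.card_eq_fintype_card, hV.card] at h2
  have := Finset.card_le_two (a := (1 : K)) (b := v)
  omega

theorem mem_cases {v u x : K} (hv : v ∈ V) (hu : u ∈ V) (hv1 : v ≠ 1) (hu1 : u ≠ 1) (hne : v ≠ u)
    (hx : x ∈ V) : x = 1 ∨ x = v ∨ x = u ∨ x = v * u := by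
  classical
  have := hV.finite
  have := Fintype.ofFinite V
  by_contra h
  simp only [not_or] at h
  obtain ⟨h0, h1, h2, h3⟩ := h
  have e : v * u ≠ 1 := fun e => hne ((eq_inv_of_mul_eq_one_left e).trans (hV.inv_eq hu))
  have e1 : v * u ≠ v := fun e => hu1 (by simpa using e)
  have e2 : v * u ≠ u := fun e => hv1 (by simpa using e)
  have hsub : ({1, v, u, v * u, x} : Finset K) ⊆ Finset.univ.image fun x : V => (x : K) := by
    intro y hy
    simp only [Finset.mem_insert, Finset.mem_singleton] at hy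
    refine Finset.mem_image.2 ⟨⟨y, ?_⟩, Finset.mem_univ _, rfl⟩
    rcases hy with rfl | rfl | rfl | rfl | rfl
    exacts [V.one_mem, hv, hu, V.mul_mem hv hu, hx]
  have h2' := Finset.card_le_card hsub
  rw [Finset.card_image_of_injective _ Subtype.coe_injective, Finset.card_univ,
    ← Nat.card_eq_fintype_card, hV.card] at h2'
  rw [Finset.card_insert_of_notMem, Finset.card_insert_of_notMem, Finset.card_insert_of_notMem,
    Finset.card_insert_of_notMem, Finset.card_singleton] at h2'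
  · omega
  all_goals simp [hv1.symm, hu1.symm, e.symm, Ne.symm h0, hne, e1.symm, e2.symm, Ne.symm h1,
    Ne.symm h2, Ne.symm h3]

theorem not_isCyclic : ¬ IsCyclic V := by
  intro h
  obtain ⟨g, hg⟩ := IsCyclic.exists_generator (α := V)
  have := hV.finite
  have h4 := orderOf_eq_card_of_forall_mem_zpowers hg
  rw [hV.card] at h4
  have h2 : orderOf g ∣ 2 := orderOf_dvd_of_pow_eq_one (by
    rw [pow_two]; exact Subtype.ext (hV.sq g g.2))
  rw [h4] at h2
  exact absurd (Nat.le_of_dvd two_pos h2) (by norm_num)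

theorem coprime {X : Subgroup K} (hX : Odd (Nat.card X)) : (Nat.card V).Coprime (Nat.card X) := by
  rw [hV.card, show (4 : ℕ) = 2 ^ 2 by norm_num]
  exact hX.coprime_two_left.pow_left 2

theorem isSolvable : Group.IsSolvable V :=
  Group.isSolvable_of_comm fun a b => (hV.isMulCommutative.is_comm.comm a b)

/-- An element centralising two involutions of `V` centralises `V`. -/
theorem commute_all {v u x : K} (hv : v ∈ V) (hu : u ∈ V) (hv1 : v ≠ 1) (hu1 : u ≠ 1) (hne : v ≠ u)
    (hxv : Commute x v) (hxu : Commute x u) : ∀ y ∈ V, Commute x y := fun y hy => by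
  rcases hV.mem_cases hv hu hv1 hu1 hne hy with rfl | rfl | rfl | rfl
  exacts [Commute.one_right _, hxv, hxu, hxv.mul_right hxu]

/-- Membership in `V` gives normalisation of centralisers of members. -/
theorem commute_conj {v w x : K} (hv : v ∈ V) (hw : w ∈ V) (hx : Commute x v) :
    Commute (w * x * w⁻¹) v := by
  have h := (Commute.conj_iff w).2 hx
  rwa [show w * v * w⁻¹ = v by rw [(hV.commute hw hv).eq, mul_inv_cancel_right]] at h

section Good

variable (hK : Good K)
include hK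

theorem cent {x : K} (h : ∀ v ∈ V, Commute x v) : x ∈ V := by
  obtain ⟨v, hv, hv1, -⟩ := hV.exists_other 1
  obtain ⟨u, hu, hu1, hne⟩ := hV.exists_other v
  rcases hK.four_cent (hV.orderOf_eq hv hv1) (hV.orderOf_eq hu hu1) hne (hV.commute hu hv)
    (h v hv) (h u hu) with rfl | rfl | rfl | rfl
  exacts [V.one_mem, hv, hu, V.mul_mem hv hu]

theorem odd_eq_one {v u x : K} (hv : v ∈ V) (hu : u ∈ V) (hv1 : v ≠ 1) (hu1 : u ≠ 1) (hne : v ≠ u)
    (hxv : Commute x v) (hxu : Commute x u) (ox : Odd (orderOf x)) : x = 1 :=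
  hK.odd_eq_one (hV.orderOf_eq hv hv1) (hV.orderOf_eq hu hu1) hne.symm (hV.commute hu hv) hxv hxu ox

theorem inverted {v u x : K} (hv : v ∈ V) (hu : u ∈ V) (hv1 : v ≠ 1) (hu1 : u ≠ 1) (hne : v ≠ u)
    (hxv : Commute x v) (ox : Odd (orderOf x)) : u * x * u⁻¹ = x⁻¹ :=
  hK.odd_inverted (hV.orderOf_eq hv hv1) (hV.orderOf_eq hu hu1) hne.symm (hV.commute hu hv) hxv ox

/-- `V` normalises the cyclic group generated by a component element. -/
theorem le_normalizer_zpowers {v x : K} (hv : v ∈ V) (hv1 : v ≠ 1) (hxv : Commute x v)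
    (ox : Odd (orderOf x)) : V ≤ normalizer (zpowers x : Set K) := by
  refine le_normalizer_of_conj_mem fun w hw y hy => ?_
  obtain ⟨i, rfl⟩ := Subgroup.mem_zpowers_iff.1 hy
  rw [← conj_zpow]
  refine zpow_mem ?_ i
  by_cases h1 : w = 1
  · simp [h1]
  by_cases hwv : v = w
  · subst hwv
    rw [← hxv.eq, mul_inv_cancel_right]
    exact mem_zpowers x
  · rw [hV.inverted hK hv hw hv1 h1 hwv hxv ox]
    exact inv_mem (mem_zpowers x)

/-- Two components in one subgroup. -/
theorem eq_bot_of_two {v u : K} (hv : v ∈ V) (hu : u ∈ V) (hv1 : v ≠ 1) (hu1 : u ≠ 1) (hne : v ≠ u)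
    [Finite K] {X : Subgroup K} (hX : Odd (Nat.card X)) (hxv : ∀ x ∈ X, Commute x v)
    (hxu : ∀ x ∈ X, Commute x u) : X = ⊥ :=
  (Subgroup.eq_bot_iff_forall _).2 fun x hx =>
    hV.odd_eq_one hK hv hu hv1 hu1 hne (hxv x hx) (hxu x hx) (odd_orderOf_of_mem hX hx)

variable [Finite K]

theorem inf_centralizer {X : Subgroup K} (hX : Odd (Nat.card X)) :
    X ⊓ centralizer (V : Set K) = ⊥ := by
  refine (Subgroup.eq_bot_iff_forall _).2 fun x hx => ?_
  obtain ⟨hxX, hxC⟩ := Subgroup.mem_inf.1 hx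
  have hxV : x ∈ V := hV.cent hK fun v hv => (Subgroup.mem_centralizer_iff.1 hxC v hv).symm
  exact eq_one_of_sq (odd_orderOf_of_mem hX hxX) (hV.sq x hxV)

omit hK in
/-- Generation by the three fixed point subgroups. -/
theorem le_of_components {X W : Subgroup K} (hX : Odd (Nat.card X)) (hn : V ≤ normalizer (X : Set K))
    (h : ∀ v ∈ V, v ≠ 1 → ∀ x ∈ X, Commute x v → x ∈ W) : X ≤ W := by
  have := hV.isMulCommutative
  rw [← Coprime.iSup_centralizer_eq hV.not_isCyclic hn (hV.coprime hX)]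
  refine iSup₂_le fun v hv x hx => ?_
  obtain ⟨hxX, hxv⟩ := Subgroup.mem_inf.1 hx
  exact h v hv.1 hv.2 x hxX (Subgroup.mem_centralizer_singleton_iff.1 hxv)

omit hK in
theorem exists_component {X : Subgroup K} (hX : Odd (Nat.card X)) (hn : V ≤ normalizer (X : Set K))
    (hne : X ≠ ⊥) : ∃ v ∈ V, v ≠ 1 ∧ ∃ x ∈ X, x ≠ 1 ∧ Commute x v := by
  by_contra h
  push Not at h
  refine hne (le_bot_iff.1 (hV.le_of_components hX hn fun v hv hv1 x hx hc => ?_))
  rw [Subgroup.mem_bot]
  by_contra hx1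
  exact h v hv hv1 x hx hx1 hc

omit hK in
/-- A subgroup which is not in one component has two nontrivial ones. -/
theorem exists_other_component {X : Subgroup K} (hX : Odd (Nat.card X))
    (hn : V ≤ normalizer (X : Set K)) {v : K} (hnc : ¬ ∀ x ∈ X, Commute x v) :
    ∃ u ∈ V, u ≠ 1 ∧ u ≠ v ∧ ∃ x ∈ X, x ≠ 1 ∧ Commute x u := by
  by_contra h
  push Not at h
  refine hnc fun x hx => ?_
  have hle : X ≤ centralizer ({v} : Set K) := hV.le_of_components hX hn fun u hu hu1 y hy hc => by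
    by_cases huv : u = v
    · subst huv; exact Subgroup.mem_centralizer_singleton_iff.2 hc
    · by_cases hy1 : y = 1
      · rw [hy1]; exact Subgroup.one_mem _
      · exact absurd hc (h u hu hu1 huv y hy hy1)
  exact Subgroup.mem_centralizer_singleton_iff.1 (hle hx)

/-- The unique maximal invariant `p`-subgroup of an invariant subgroup of odd order. -/
theorem exists_sylow {Θ : Subgroup K} (hΘ : Odd (Nat.card Θ)) (hn : V ≤ normalizer (Θ : Set K))
    (p : ℕ) [Fact p.Prime] :
    ∃ Q : Subgroup K, Q ≤ Θ ∧ IsPGroup p Q ∧ V ≤ normalizer (Q : Set K) ∧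
      (∀ U : Subgroup K, U ≤ Θ → IsPGroup p U → V ≤ normalizer (U : Set K) → U ≤ Q) ∧
      Nat.card Q = p ^ (Nat.card Θ).factorization p := by
  obtain ⟨P, hP⟩ := Coprime.exists_invariant_sylow hn (hV.coprime hΘ) (Or.inl hV.isSolvable) p
  refine ⟨(P : Subgroup Θ).map Θ.subtype, map_subtype_le _, P.2.map _, hP, fun U hU hUp hUn => ?_,
    by rw [card_map_of_injective Θ.subtype_injective, P.card_eq_multiplicity]⟩
  obtain ⟨R, hUR, hR⟩ := Coprime.exists_le_invariant_sylow hn (hV.coprime hΘ)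
    (Or.inl hV.isSolvable) hU hUp hUn
  obtain ⟨c, hc, hcR⟩ := Coprime.exists_centralizer_conj_sylow hn (hV.coprime hΘ)
    (Or.inl hV.isSolvable) P R hP hR
  have hc1 : c = 1 := Subtype.ext (Subgroup.mem_bot.1 (hV.inf_centralizer hK hΘ ▸
    (⟨c.2, hc⟩ : (c : K) ∈ Θ ⊓ centralizer (V : Set K))))
  rw [hc1, map_one, one_smul] at hcR
  rwa [hcR]

/-- Odd invariant subgroups lie in one component, given the TI property. -/
theorem inComp (hT : IsTI K) {X : Subgroup K} (hX : Odd (Nat.card X))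
    (hn : V ≤ normalizer (X : Set K)) : InComp V X := by
  classical
  by_cases hne : X = ⊥
  · obtain ⟨v, hv, hv1, -⟩ := hV.exists_other 1
    exact ⟨v, hv, hv1, fun x hx => by
      rw [hne, Subgroup.mem_bot] at hx; subst hx; exact Commute.one_left v⟩
  obtain ⟨p, hp, M, hMX, hM1, hMp, hMn⟩ := Coprime.exists_normal_pSubgroup_le hn
    (S0205.result hX) hne
  have := Fact.mk hp
  set Y := M ⊓ centralizer (M : Set K) with hY
  have hYX : Y ≤ X := inf_le_left.trans hMX
  have hYn : X ⊔ V ≤ normalizer (Y : Set K) :=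
    Coprime.le_normalizer_inf hMn (Coprime.le_normalizer_centralizer hMn)
  have hYodd : Odd (Nat.card Y) := hX.of_dvd_nat (Subgroup.card_dvd_of_le hYX)
  have hY1 : Y ≠ ⊥ := by
    intro h
    have : Nontrivial M := (Subgroup.nontrivial_iff_ne_bot M).2 hM1
    have := hMp.center_nontrivial
    obtain ⟨c, hc⟩ := exists_ne (1 : center M)
    refine hc (Subtype.ext (Subtype.ext ?_))
    show ((c : M) : K) = 1
    rw [← Subgroup.mem_bot, ← h]
    exact ⟨(c : M).2, fun y hy => congrArg Subtype.val (Subgroup.mem_center_iff.1 c.2 ⟨y, hy⟩)⟩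
  obtain ⟨v, hv, hv1, τ, hτY, hτ1, hτv⟩ :=
    hV.exists_component hYodd (le_sup_right.trans hYn) hY1
  have hτo := odd_orderOf_of_mem hYodd hτY
  have hv2 := hV.orderOf_eq hv hv1
  have hYv : ∀ y ∈ Y, Commute y v := fun y hy =>
    hT v τ y hv2 hτo hτ1 hτv (Subgroup.mem_centralizer_iff.1 hτY.2 y hy.1)
  refine ⟨v, hv, hv1, fun x hx => ?_⟩
  exact IsTI.commute_of_conj hK hT hv2 hτo hτ1 hτv
    (hYv _ (conj_mem_of_le_normalizer (le_sup_left.trans hYn) hx hτY)) rfl

end Good

end IsFour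

end Cfsg.Agent.DGroupPSL
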