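import Cfsg.Agent.DGroupPSL.Main
import Cfsg.Agent.S3277
import Cfsg.Agent.Invol.ZStarElt

/-!
# An involution with self-centralising four-group
-/

set_option autoImplicit false

namespace Cfsg.Agent.DGroupPSL

open Subgroup

universe u

theorem a5_one_class : ∀ a b : alternatingGroup (Fin 5), a * a = 1 → a ≠ 1 → b * b = 1 → b ≠ 1 →
    ∃ c, c * a * c⁻¹ = b := by
  decide +kernel

theorem a5_center_trivial : ∀ a : alternatingGroup (Fin 5), (∀ b, b * a = a * b) → a = 1 := by
  decide +kernel

/-- A central involution next to a self-centralising four-group leads to a smaller such group. -/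
theorem no_central_of_four {n : ℕ}
    (ih : ∀ m < n, ∀ (Y : Type u) [Group Y] [Finite Y], Nat.card Y = m → NoOdd Y → ¬ Group.IsSolvable Y →
      ∀ x e : Y, orderOf x = 2 → orderOf e = 2 → e ≠ x → Commute e x →
        (∀ c, Commute c x → c = 1 ∨ c = x ∨ c = e ∨ c = x * e) →
        Nonempty (Y ≃* alternatingGroup (Fin 5)))
    (X : Type u) [Group X] [Finite X] (hn : Nat.card X = n) (hO : NoOdd X) (hns : ¬ Group.IsSolvable X)
    {x e : X} (hx : orderOf x = 2) (he : orderOf e = 2) (hne : e ≠ x)
    (hC : ∀ c, Commute c x → c = 1 ∨ c = x ∨ c = e ∨ c = x * e)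
    (hcen : ∀ c, Commute c e) : False := by
  classical
  have : Fact (Nat.Prime 2) := ⟨Nat.prime_two⟩
  have hee := inv2_mul_self he
  have hxx := inv2_mul_self hx
  have hex : Commute e x := (hcen x).symm
  obtain ⟨V, hV, hxV, heV⟩ := exists_four hx he hne hex
  have hVC : ∀ c, Commute c x → c ∈ V := fun c hc => by
    rcases hC c hc with rfl | rfl | rfl | rfl
    exacts [V.one_mem, hxV, heV, V.mul_mem hxV heV]
  obtain ⟨T, hT⟩ := (IsPGroup.of_card (n := 2) (by rw [hV.card]; rfl) : IsPGroup 2 V).exists_le_sylow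
  by_cases hTV : (T : Subgroup X) ≤ V
  · refine hns (solvable_of_complement (Fusion.hasNormalPComplement_of_normalizer_le_centralizer
      (P := T) fun g hg => ?_))
    have eTV : (T : Subgroup X) = V := le_antisymm hTV hT
    have hgx : g * x * g⁻¹ = x ∨ g * x * g⁻¹ = x * e := by
      have hm : g * x * g⁻¹ ∈ V := hTV ((mem_normalizer_iff.1 hg x).1 (hT hxV))
      rcases hV.mem_cases hxV heV (inv2_ne_one hx) (inv2_ne_one he) hne.symm hm with h | h | h | h
      · exact absurd (conj_eq_one_iff.1 h) (inv2_ne_one hx)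
      · exact Or.inl h
      · refine absurd ?_ hne
        have := congrArg (fun y => g⁻¹ * y * g) h
        simp only [mul_assoc] at this
        rw [(hcen g).symm.eq] at this
        simpa using this.symm
      · exact Or.inr h
    refine Subgroup.mem_centralizer_iff.2 fun t ht => ?_
    have hgg : g ∈ (T : Subgroup X) := by
      rcases hgx with h | h
      · exact hT (hVC g (mul_inv_eq_iff_eq_mul.1 h))
      · have h2 : g * g ∈ V := hVC _ (by
          show g * g * x = x * (g * g)
          have h1 : g * x = x * e * g := mul_inv_eq_iff_eq_mul.1 h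
          calc g * g * x = g * (x * e * g) := by rw [mul_assoc, h1]
            _ = (g * x) * e * g := by group
            _ = x * (e * (g * e)) * g := by rw [h1]; group
            _ = x * ((e * e) * g) * g := by rw [(hcen g).eq]; group
            _ = x * (g * g) := by rw [hee]; group)
        have hp : IsPGroup 2 (zpowers g) := by
          have hd : orderOf g ∣ 4 := orderOf_dvd_of_pow_eq_one (by
            rw [show 4 = 2 * 2 from rfl, pow_mul, pow_two g, pow_two, hV.sq _ h2])
          obtain ⟨m, -, hm⟩ := (Nat.dvd_prime_pow Nat.prime_two (m := 2)).1 hd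
          exact IsPGroup.of_card (n := m) (by rw [Nat.card_zpowers, hm])
        exact ((hp.inf_normalizer_sylow T).le ⟨mem_zpowers g, hg⟩).2
    exact hV.commute (hTV ht) (hTV hgg)
  obtain ⟨g, hgT, hgV⟩ := SetLike.exists_of_lt (lt_inf_normalizer T.2 (lt_of_le_not_ge hT hTV))
  have hgx : g * x * g⁻¹ = x * e := by
    have hm : g * x * g⁻¹ ∈ V := (mem_normalizer_iff.1 hgT.2 x).1 hxV
    rcases hV.mem_cases hxV heV (inv2_ne_one hx) (inv2_ne_one he) hne.symm hm with h | h | h | h
    · exact absurd (conj_eq_one_iff.1 h) (inv2_ne_one hx)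
    · exact absurd (hVC g (mul_inv_eq_iff_eq_mul.1 h)) hgV
    · refine absurd ?_ hne
      have := congrArg (fun y => g⁻¹ * y * g) h
      simp only [mul_assoc] at this
      rw [(hcen g).symm.eq] at this
      simpa using this.symm
    · exact h
  set Z := zpowers e with hZdef
  have hZ : Z.Normal := ⟨fun z hz y => by
    obtain ⟨i, rfl⟩ := mem_zpowers_iff.1 hz
    rw [((hcen y).zpow_right i).eq, mul_inv_cancel_right]
    exact hz⟩
  have hZmem : ∀ z, z ∈ Z ↔ z = 1 ∨ z = e := fun z => by
    refine ⟨fun hz => ?_, fun h => h.elim (fun h' => h' ▸ Z.one_mem) (fun h' => h' ▸ mem_zpowers e)⟩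
    obtain ⟨i, rfl⟩ := mem_zpowers_iff.1 hz
    rw [← zpow_mod_orderOf, he]
    rcases Int.emod_two_eq i with h | h <;> simp [h]
  let π := QuotientGroup.mk' Z
  have hπe : π e = 1 := (QuotientGroup.eq_one_iff e).2 (mem_zpowers e)
  have hπeq : ∀ a b : X, π a = π b → a = b ∨ a = b * e := fun a b h => by
    rcases (hZmem _).1 (QuotientGroup.eq.1 h.symm) with h' | h'
    · exact Or.inl (inv_mul_eq_one.1 h').symm
    · exact Or.inr (by rw [← h', mul_inv_cancel_left])
  have hgne : ∀ a : X, a ∈ V → g ≠ a := fun a ha h => hgV (h ▸ ha)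
  have hgg : π g * π g = 1 := by
    have h2 : g * g ∈ V := hVC _ (by
      show g * g * x = x * (g * g)
      have h1 : g * x = x * e * g := mul_inv_eq_iff_eq_mul.1 hgx
      calc g * g * x = g * (x * e * g) := by rw [mul_assoc, h1]
        _ = (g * x) * e * g := by group
        _ = x * (e * (g * e)) * g := by rw [h1]; group
        _ = x * ((e * e) * g) * g := by rw [(hcen g).eq]; group
        _ = x * (g * g) := by rw [hee]; group)
    have hc : Commute g (g * g) := (Commute.refl g).mul_right (Commute.refl g)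
    rw [← map_mul]
    rcases hV.mem_cases hxV heV (inv2_ne_one hx) (inv2_ne_one he) hne.symm h2 with h | h | h | h
    · rw [h, map_one]
    · exact absurd (hVC g (h ▸ hc)) hgV
    · rw [h, hπe]
    · refine absurd (hVC g ?_) hgV
      have := (h ▸ hc : Commute g (x * e)).mul_right (hcen g)
      rwa [mul_assoc, hee, mul_one] at this
  have hx' : orderOf (π x) = 2 := Invol.orderOf_eq_two_iff.2 ⟨fun h => by
    rcases (hZmem x).1 ((QuotientGroup.eq_one_iff x).1 h) with h' | h'
    exacts [inv2_ne_one hx h', hne h'.symm], by rw [← map_mul, hxx, map_one]⟩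
  have hg' : orderOf (π g) = 2 := Invol.orderOf_eq_two_iff.2 ⟨fun h => by
    rcases (hZmem g).1 ((QuotientGroup.eq_one_iff g).1 h) with h' | h'
    exacts [hgne 1 V.one_mem h', hgne e heV h'], hgg⟩
  have hcomm : Commute (π g) (π x) := by
    show π g * π x = π x * π g
    rw [← map_mul, mul_inv_eq_iff_eq_mul.1 hgx, map_mul, map_mul, hπe, mul_one]
  have hgxne : π g ≠ π x := fun h => by
    rcases hπeq g x h with h' | h'
    exacts [hgne x hxV h', hgne _ (V.mul_mem hxV heV) h']
  have hC' : ∀ c : X ⧸ Z, Commute c (π x) → c = 1 ∨ c = π x ∨ c = π g ∨ c = π x * π g := by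
    intro c hc
    obtain ⟨c, rfl⟩ := QuotientGroup.mk'_surjective Z c
    have h1 : π (c * x * c⁻¹) = π x := by rw [map_mul, map_mul, map_inv, hc.eq, mul_inv_cancel_right]
    have key : ∀ d, Commute d x → π d = 1 ∨ π d = π x := fun d hd => by
      rcases hC d hd with rfl | rfl | rfl | rfl
      exacts [Or.inl (map_one π), Or.inr rfl, Or.inl hπe, Or.inr (by rw [map_mul, hπe, mul_one])]
    rcases hπeq _ _ h1 with h | h
    · rcases key c (mul_inv_eq_iff_eq_mul.1 h) with h' | h'
      exacts [Or.inl h', Or.inr (Or.inl h')]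
    · have hd : Commute (g⁻¹ * c) x := by
        show g⁻¹ * c * x = x * (g⁻¹ * c)
        rw [mul_assoc, mul_inv_eq_iff_eq_mul.1 h, ← hgx]
        group
      have ec : π c = π g * π (g⁻¹ * c) := by rw [← map_mul, mul_inv_cancel_left]
      rcases key _ hd with h' | h' <;> rw [ec, h']
      · exact Or.inr (Or.inr (Or.inl (mul_one _)))
      · exact Or.inr (Or.inr (Or.inr hcomm.eq))
  have hns' : ¬ Group.IsSolvable (X ⧸ Z) := fun h => hns (by
    have : Group.IsSolvable Z := Group.isSolvable_of_comm fun a b => mul_comm' a b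
    exact Group.isSolvable_of_ker_le_range Z.subtype (QuotientGroup.mk' Z) (by simp))
  have hO' : NoOdd (X ⧸ Z) := fun D hD hodd => le_bot_iff.1 ((Core.le_pPrimeCore hodd.coprime_two_right).trans
    (Invol.oddCore_quotient_eq_bot_of_central (hO _ inferInstance odd_card_oddCore)
      (Subgroup.mem_center_iff.2 fun y => (hcen y).eq) he).le)
  have hlt : Nat.card (X ⧸ Z) < n := by
    have h1 := Z.card_mul_index
    have h2 : Nat.card Z = 2 := by rw [hZdef, Nat.card_zpowers, he]
    rw [h2, hn] at h1
    have h3 : Z.index = Nat.card (X ⧸ Z) := Subgroup.index_eq_card Z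
    have h4 := Nat.card_pos (α := X ⧸ Z)
    omega
  obtain ⟨iso⟩ := ih _ hlt (X ⧸ Z) rfl hO' hns' (π x) (π g) hx' hg' hgxne hcomm hC'
  -- all lifts of involutions are involutions
  have lift : ∀ a : X, π a * π a = 1 → π a ≠ 1 → a * a = 1 := by
    intro a ha ha1
    obtain ⟨c, hc⟩ := a5_one_class (iso (π x)) (iso (π a)) (by rw [← map_mul, inv2_mul_self hx', map_one])
      (fun h => inv2_ne_one hx' (iso.injective (h.trans (map_one iso).symm)))
      (by rw [← map_mul, ha, map_one]) (fun h => ha1 (iso.injective (h.trans (map_one iso).symm)))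
    obtain ⟨d, hd⟩ := QuotientGroup.mk'_surjective Z (iso.symm c)
    have h1 : π (d * x * d⁻¹) = π a := by
      apply iso.injective
      rw [map_mul π, map_mul π, map_inv π, hd, map_mul, map_mul, map_inv, MulEquiv.apply_symm_apply, hc]
    have hsq : (d * x * d⁻¹) * (d * x * d⁻¹) = 1 := by
      have : d * x * d⁻¹ * (d * x * d⁻¹) = d * (x * x) * d⁻¹ := by group
      rw [this, hxx, mul_one, mul_inv_cancel]
    rcases hπeq _ _ h1 with h | h
    · rw [← h]; exact hsq
    · rw [h, (hcen a).symm.mul_mul_mul_comm a e, hee, mul_one] at hsq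
      exact hsq
  have hg2 : g * g = 1 := lift g hgg (inv2_ne_one hg')
  have hxg : x * g * (x * g) = 1 := lift (x * g) (by
    rw [map_mul, hcomm.mul_mul_mul_comm, inv2_mul_self hx', inv2_mul_self hg', one_mul]) fun h => by
      rw [map_mul, mul_eq_one_iff_eq_inv, inv2_inv hg'] at h
      exact hgxne h.symm
  refine hgV (hVC g ?_)
  show g * x = x * g
  rw [eq_inv_of_mul_eq_one_right hxg, mul_inv_rev, inv2_inv hx, inv_eq_of_mul_eq_one_right hg2]

/-- The group with a self-centralising four-group is `A₅`. -/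
theorem four_cent_eq_a5 : ∀ (n : ℕ) (X : Type u) [Group X] [Finite X], Nat.card X = n → NoOdd X →
    ¬ Group.IsSolvable X → ∀ x e : X, orderOf x = 2 → orderOf e = 2 → e ≠ x → Commute e x →
      (∀ c, Commute c x → c = 1 ∨ c = x ∨ c = e ∨ c = x * e) →
      Nonempty (X ≃* alternatingGroup (Fin 5)) := by
  intro n
  induction n using Nat.strong_induction_on with
  | _ n ih =>
  intro X _ _ hn hO hns x e hx he hne hc hC
  classical
  have : Fact (Nat.Prime 2) := ⟨Nat.prime_two⟩
  obtain ⟨V, hV, hxV, heV⟩ := exists_four hx he hne hc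
  have hCV : centralizer ({x} : Set X) = V := by
    refine le_antisymm (fun c hc' => ?_) fun c hc' => mem_centralizer_singleton_iff.2 (hV.commute hc' hxV).eq
    rcases hC c (mem_centralizer_singleton_iff.1 hc') with rfl | rfl | rfl | rfl
    exacts [V.one_mem, hxV, heV, V.mul_mem hxV heV]
  -- there is no central involution
  have hnc : ∀ c : X, orderOf c = 2 → (∀ y, Commute y c) → False := by
    intro c hc2 hcc
    have hcx : c ≠ x := fun h => hns (by
      have hall : ∀ y : X, y ∈ V := fun y => hCV ▸ mem_centralizer_singleton_iff.2 (h ▸ hcc y).eq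
      exact Group.isSolvable_of_comm fun a b => (hV.commute (hall a) (hall b)).eq)
    refine no_central_of_four ih X hn hO hns hx hc2 hcx (fun d hd => ?_) hcc
    have hcV : c ∈ V := hCV ▸ mem_centralizer_singleton_iff.2 (hcc x).symm.eq
    exact hV.mem_cases hxV hcV (inv2_ne_one hx) (inv2_ne_one hc2) (Ne.symm hcx)
      (hCV ▸ mem_centralizer_singleton_iff.2 hd.eq)
  refine S3277.result x hx (by rw [hCV, hV.card]) (fun c hc' => by
    rw [pow_two]; exact hV.sq c (hCV ▸ hc')) (fun h => hns (solvable_of_complement h)) fun E hE hEel => ?_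
  have hEcomm : ∀ a ∈ E, ∀ b ∈ E, Commute a b := fun a ha b hb =>
    congrArg Subtype.val (hEel.1.is_comm.comm ⟨a, ha⟩ ⟨b, hb⟩)
  have hEsq : ∀ a ∈ E, a * a = 1 := fun a ha => by rw [← pow_two]; exact hEel.2 a ha
  refine ⟨fun h2 => ?_, fun h4 => ?_⟩
  · obtain ⟨a, ha, hau⟩ := Nat.card_eq_two_iff.1 h2 |> fun ⟨p, q, hpq, _⟩ =>
      (if h : (p : X) = 1 then ⟨(q : X), q.2, fun e' => hpq (Subtype.ext (h.trans e'.symm))⟩
       else ⟨(p : X), p.2, h⟩ : ∃ a ∈ E, a ≠ 1)
    refine hnc a (Invol.orderOf_eq_two_iff.2 ⟨hau, hEsq a ha⟩) fun y => ?_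
    have hy := hE.conj_mem a ha y
    by_contra hne'
    have hne2 : y * a * y⁻¹ ≠ a := fun h => hne' (mul_inv_eq_iff_eq_mul.1 h)
    have hsub : ({1, a, y * a * y⁻¹} : Finset X).card ≤ 2 := by
      rw [← h2, ← Set.ncard_coe_finset, show Nat.card E = (E : Set X).ncard from Nat.card_coe_set_eq _]
      refine Set.ncard_le_ncard ?_ (Set.toFinite _)
      intro b hb
      simp only [Finset.coe_insert, Finset.coe_singleton, Set.mem_insert_iff, Set.mem_singleton_iff] at hb
      rcases hb with rfl | rfl | rfl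
      exacts [E.one_mem, ha, hy]
    rw [Finset.card_insert_of_notMem, Finset.card_pair (Ne.symm hne2)] at hsub
    · omega
    · simp only [Finset.mem_insert, Finset.mem_singleton, not_or]
      exact ⟨Ne.symm hau, fun h => hau (conj_eq_one_iff.1 h.symm)⟩
  set C := centralizer (E : Set X) with hCdef
  have : C.Normal := by rw [hCdef]; infer_instance
  let I := {a : E // a ≠ 1}
  have hI : Nat.card I = 3 := by
    have := Fintype.ofFinite E
    rw [Nat.card_eq_fintype_card, Fintype.card_subtype_compl, Fintype.card_subtype_eq,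
      ← Nat.card_eq_fintype_card, h4]
  let φ : X →* MulAut E := MulAut.conjNormal
  let ρ : MulAut E →* Equiv.Perm I :=
    MonoidHom.mk' (fun f => f.toEquiv.subtypeEquiv fun a => by simp) fun f g => by ext a; rfl
  have hker : (ρ.comp φ).ker ≤ C := fun y hy => Subgroup.mem_centralizer_iff.2 fun a ha => by
    by_cases ha1 : a = 1
    · rw [ha1, one_mul, mul_one]
    have h1 := congrArg (fun f : Equiv.Perm I => (((f ⟨⟨a, ha⟩, fun h => ha1 (congrArg Subtype.val h)⟩).1 : E) : X)) hy
    exact (mul_inv_eq_iff_eq_mul.1 h1).symm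
  have hCns : ¬ Group.IsSolvable C := fun h => hns (by
    let eI : I ≃ Fin 3 := (Finite.equivFin I).trans (finCongr hI)
    have : Group.IsSolvable (Equiv.Perm (Fin 3)) := Char.isSolvable_of_card_eq 2 3 Nat.prime_two
      Nat.prime_three _ (Equiv.Perm (Fin 3)) rfl
      ⟨1, 1, by rw [Nat.card_perm, Nat.card_eq_fintype_card, Fintype.card_fin]; rfl⟩
    have : Group.IsSolvable (Equiv.Perm I) :=
      Group.isSolvable_of_isSolvable_injective (f := eI.permCongrHom.toMonoidHom) eI.permCongrHom.injective
    have hK : Group.IsSolvable (ρ.comp φ).ker :=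
      Group.isSolvable_of_isSolvable_injective (f := Subgroup.inclusion hker) (Subgroup.inclusion_injective hker)
    exact Group.isSolvable_of_ker_le_range (ρ.comp φ).ker.subtype (ρ.comp φ) (by simp))
  have hxC : x ∉ C := fun hxC => by
    have hEV : E ≤ V := fun a ha => hCV ▸ mem_centralizer_singleton_iff.2 (Subgroup.mem_centralizer_iff.1 hxC a ha)
    have hxE : x ∈ E := (Subgroup.eq_of_le_of_card_ge hEV (by rw [hV.card, h4])).ge hxV
    refine hCns (Group.isSolvable_of_comm fun a b => Subtype.ext ?_)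
    exact (hV.commute (hCV ▸ mem_centralizer_singleton_iff.2 (Subgroup.mem_centralizer_iff.1 a.2 x hxE).symm)
      (hCV ▸ mem_centralizer_singleton_iff.2 (Subgroup.mem_centralizer_iff.1 b.2 x hxE).symm)).eq
  have hxx := inv2_mul_self hx
  obtain ⟨a, ha, ha1, hax⟩ : ∃ a ∈ E, a ≠ 1 ∧ Commute a x := by
    obtain ⟨a, ha, ha1⟩ : ∃ a ∈ E, a ≠ 1 := by
      by_contra h
      push Not at h
      rw [(Subgroup.eq_bot_iff_forall E).2 h, Subgroup.card_bot] at h4
      omega
    by_cases hax : Commute a x
    · exact ⟨a, ha, ha1, hax⟩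
    have hb : x * a * x⁻¹ ∈ E := hE.conj_mem a ha x
    refine ⟨a * (x * a * x⁻¹), E.mul_mem ha hb, fun h => hax ?_, ?_⟩
    · have e1 : x * a * x⁻¹ = a := (eq_inv_of_mul_eq_one_right h).trans
        (inv_eq_of_mul_eq_one_right (hEsq a ha))
      exact (mul_inv_eq_iff_eq_mul.1 e1).symm
    · show a * (x * a * x⁻¹) * x = x * (a * (x * a * x⁻¹))
      rw [(hEcomm a ha _ hb).eq, inv2_inv hx]
      calc x * a * x * a * x = (x * a * x * a) * x := rfl
        _ = (a * (x * a * x)) * x := by
          have h := (hEcomm _ hb a ha).eq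
          rw [inv2_inv hx] at h
          rw [h]
        _ = a * x * a * (x * x) := by group
        _ = (x * x) * (a * x * a) := by rw [hxx, mul_one, one_mul]
        _ = x * (x * a * x * a) := by group
  have ha2 : orderOf a = 2 := Invol.orderOf_eq_two_iff.2 ⟨ha1, hEsq a ha⟩
  set X1 := C ⊔ zpowers x with hX1
  have hac : X1 ≤ centralizer ({a} : Set X) := sup_le
    (fun c hc' => mem_centralizer_singleton_iff.2 (Subgroup.mem_centralizer_iff.1 hc' a ha).symm)
    (zpowers_le.2 (mem_centralizer_singleton_iff.2 hax.symm.eq))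
  have haC : a ∈ C := Subgroup.mem_centralizer_iff.2 fun b hb => (hEcomm b hb a ha).eq
  by_cases htop : X1 = ⊤
  · exact hnc a ha2 fun y => mem_centralizer_singleton_iff.1 (hac (htop ▸ Subgroup.mem_top y))
  have hlt : Nat.card X1 < n := by
    rw [← hn]
    exact lt_of_le_of_ne (Nat.le_of_dvd Nat.card_pos X1.card_subgroup_dvd_card)
      (fun h => htop (Subgroup.eq_top_of_card_eq _ h))
  have hns1 : ¬ Group.IsSolvable X1 := fun h => hCns
    (Group.isSolvable_of_isSolvable_injective (f := Subgroup.inclusion (le_sup_left : C ≤ X1))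
      (Subgroup.inclusion_injective _))
  have hO1 : NoOdd X1 := by
    intro D hD hodd
    rw [Subgroup.eq_bot_iff_forall]
    intro d hd
    have hdC : (d : X) ∈ C := by
      obtain ⟨c, hc', z, hz, hcz⟩ := Subgroup.mem_sup_of_normal_left.1 d.2
      obtain ⟨i, rfl⟩ := mem_zpowers_iff.1 hz
      rcases Int.even_or_odd i with ⟨m, rfl⟩ | ⟨m, rfl⟩
      · rw [← hcz, zpow_add, ← (Commute.refl x).mul_zpow, hxx, one_zpow, mul_one]; exact hc'
      · exfalso
        rw [zpow_add, zpow_mul, zpow_two, hxx, one_zpow, one_mul, zpow_one] at hcz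
        -- the square of an odd element generates it
        have ho := odd_orderOf_of_mem hodd hd
        rw [← orderOf_coe] at ho
        have h2 : (d : X) * d ∈ C := by
          rw [← hcz, show c * x * (c * x) = c * (x * c * x⁻¹) * (x * x) by group, hxx, mul_one]
          exact C.mul_mem hc' (‹C.Normal›.conj_mem c hc' x)
        obtain ⟨m', hm'⟩ := mem_zpowers_iff.1 (mem_zpowers_sq ho)
        have hdC : (d : X) ∈ C := hm' ▸ C.zpow_mem (by simpa [pow_two] using h2) m'
        refine hxC ?_
        have e1 : x = c⁻¹ * d := by rw [← hcz, inv_mul_cancel_left]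
        rw [e1]; exact C.mul_mem (C.inv_mem hc') hdC
    set DC := D.comap (Subgroup.inclusion (le_sup_left : C ≤ X1)) with hDC
    have h1 : DC = ⊥ := by
      refine hO.of_normal ‹C.Normal› DC inferInstance (hodd.of_dvd_nat ?_)
      exact Subgroup.card_comap_dvd_of_injective _ _ (Subgroup.inclusion_injective _)
    have h2 : (⟨(d : X), hdC⟩ : C) ∈ DC := by
      show Subgroup.inclusion _ _ ∈ D
      exact hd
    rw [h1, Subgroup.mem_bot] at h2
    have h3 := congrArg Subtype.val h2
    exact Subtype.ext h3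
  have hxX1 : x ∈ X1 := mem_sup_right (mem_zpowers x)
  have haX1 : a ∈ X1 := mem_sup_left haC
  have hanx : a ≠ x := fun h => hxC (h ▸ haC)
  have hcA5 := ih _ hlt X1 rfl hO1 hns1 ⟨x, hxX1⟩ ⟨a, haX1⟩ (by rwa [orderOf_mk]) (by rwa [orderOf_mk])
    (fun h => hanx (congrArg Subtype.val h)) (Subtype.ext hax.eq) fun c hc' => by
      have haV : a ∈ V := hCV ▸ mem_centralizer_singleton_iff.2 hax.eq
      have hcV : (c : X) ∈ V := hCV ▸ mem_centralizer_singleton_iff.2 (congrArg Subtype.val hc')
      rcases hV.mem_cases hxV haV (inv2_ne_one hx) ha1 (Ne.symm hanx) hcV with h | h | h | h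
      exacts [Or.inl (Subtype.ext h), Or.inr (Or.inl (Subtype.ext h)),
        Or.inr (Or.inr (Or.inl (Subtype.ext h))), Or.inr (Or.inr (Or.inr (Subtype.ext h)))]
  obtain ⟨iso⟩ := hcA5
  have := a5_center_trivial (iso ⟨a, haX1⟩) fun b => by
    obtain ⟨b, rfl⟩ := iso.surjective b
    rw [← map_mul, ← map_mul]
    exact congrArg iso (Subtype.ext (mem_centralizer_singleton_iff.1 (hac b.2)))
  exact ha1 (congrArg Subtype.val (iso.injective (this.trans (map_one iso).symm)))

end Cfsg.Agent.DGroupPSL
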