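import Cfsg.Agent.DGroupPSL.Step

/-!
# The normaliser of the pair subgroups contains an involution centraliser
-/

set_option autoImplicit false

namespace Cfsg.Agent.DGroupPSL

open Subgroup

universe u

variable {K : Type u} [Group K] [Finite K]

omit [Finite K] in
/-- Two commuting involutions span a four-group. -/
theorem exists_four {v u : K} (hv : orderOf v = 2) (hu : orderOf u = 2) (hne : u ≠ v) (hc : Commute u v) :
    ∃ V : Subgroup K, IsFour V ∧ v ∈ V ∧ u ∈ V := by
  classical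
  have hvv := inv2_mul_self hv
  have huu := inv2_mul_self hu
  have hv1 := inv2_ne_one hv
  have hu1 := inv2_ne_one hu
  have e1 : u * v = v * u := hc.eq
  have e2 : ∀ y, v * (v * y) = y := fun y => by rw [← mul_assoc, hvv, one_mul]
  have e3 : ∀ y, u * (u * y) = y := fun y => by rw [← mul_assoc, huu, one_mul]
  have e4 : ∀ y, u * (v * y) = v * (u * y) := fun y => by rw [← mul_assoc, e1, mul_assoc]
  let V : Subgroup K :=
    { carrier := {1, v, u, v * u}
      one_mem' := Or.inl rfl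
      mul_mem' := by
        intro a b ha hb
        simp only [Set.mem_insert_iff, Set.mem_singleton_iff] at ha hb ⊢
        rcases ha with rfl | rfl | rfl | rfl <;> rcases hb with rfl | rfl | rfl | rfl <;>
          simp [mul_assoc, hvv, huu, e1, e2, e3, e4]
      inv_mem' := by
        intro a ha
        simp only [Set.mem_insert_iff, Set.mem_singleton_iff] at ha ⊢
        rcases ha with rfl | rfl | rfl | rfl <;> simp [inv2_inv hv, inv2_inv hu, mul_inv_rev, e1] }
  refine ⟨V, ⟨?_, ?_⟩, Or.inr (Or.inl rfl), Or.inr (Or.inr (Or.inl rfl))⟩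
  · show Nat.card ({1, v, u, v * u} : Set K) = 4
    have h1 : v * u ≠ 1 := fun e => hne ((mul_eq_one_iff_inv_eq.1 e).symm.trans (inv2_inv hv))
    rw [Nat.card_coe_set_eq, Set.ncard_insert_of_notMem, Set.ncard_insert_of_notMem,
      Set.ncard_insert_of_notMem, Set.ncard_singleton]
    all_goals simp [hv1.symm, hu1.symm, h1.symm, hne.symm, hu1, hv1]
  · rintro x (rfl | rfl | rfl | rfl)
    · exact one_mul 1
    · exact hvv
    · exact huu
    · simp [mul_assoc, huu, e4]
      exact hvv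

/-- A subgroup containing full Sylow subgroups for all primes. -/
theorem le_of_full {W X : Subgroup K} (h : ∀ q : ℕ, q.Prime →
    ∃ Q : Subgroup K, Q ≤ W ∧ Q ≤ X ∧ Nat.card Q = q ^ (Nat.card W).factorization q) : W ≤ X := by
  have hd : Nat.card W ∣ Nat.card (W ⊓ X : Subgroup K) := by
    rw [← Nat.factorization_le_iff_dvd Nat.card_pos.ne' Nat.card_pos.ne']
    intro q
    by_cases hq : q.Prime
    · obtain ⟨Q, hQW, hQX, hQc⟩ := h q hq
      exact (hq.pow_dvd_iff_le_factorization Nat.card_pos.ne').1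
        (hQc ▸ Subgroup.card_dvd_of_le (le_inf hQW hQX))
    · rw [Nat.factorization_eq_zero_of_not_prime _ hq]; exact Nat.zero_le _
  exact (Subgroup.eq_of_le_of_card_ge inf_le_left (Nat.le_of_dvd Nat.card_pos hd)).ge.trans inf_le_right

variable (C : Ctx K)
include C

/-- A failure of the TI property gives a pair. -/
theorem Ctx.exists_pair {v τ g : K} {V : Subgroup K} (hV : IsFour V) (hv : v ∈ V) (hv1 : v ≠ 1)
    (hτ : Odd (orderOf τ)) (hτ1 : τ ≠ 1) (hτv : Commute τ v) (hgτ : Commute g τ)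
    (hgv : ¬ Commute g v) : ∃ q, Pair V q := by
  obtain ⟨W, hWodd, hW⟩ := C.good.exists_oddSubgroup hτ hτ1 (H := centralizer ({τ} : Set K))
    fun x hx => Subgroup.mem_centralizer_singleton_iff.1 hx
  have hWn := hV.le_normalizer_oddSet C.good hv hv1 hτv hτ hW
  have hv2 := hV.orderOf_eq hv hv1
  have hnc : ¬ W ≤ centralizer ({v} : Set K) := by
    intro hle
    set h := g * v * g⁻¹ with hh
    have hh2 : orderOf h = 2 := by rw [hh, Invol.orderOf_conj, hv2]
    have hhτ : Commute h τ := by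
      have h0 := (Commute.conj_iff g).2 hτv.symm
      rwa [hgτ.eq, mul_inv_cancel_right] at h0
    have hne : h ≠ v := fun e => hgv (mul_inv_eq_iff_eq_mul.1 e)
    have hodd := C.good.odd_mul_of_commute hτ hτ1 hv2 hh2 hτv.symm hhτ
    have hvh : Commute (v * h) v := Subgroup.mem_centralizer_singleton_iff.1 (hle ((hW _).2
      ⟨Subgroup.mem_centralizer_singleton_iff.2 (hτv.symm.mul_left hhτ), hodd⟩))
    have hhv : Commute h v := by
      have := ((Commute.refl v).inv_left).mul_left hvh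
      rwa [inv_mul_cancel_left] at this
    exact hτ1 (C.good.odd_eq_one hv2 hh2 hne hhv hτv hhτ.symm hτ)
  obtain ⟨q, hq, Q, hQW, hQq, hQn, hQmax, hQv⟩ : ∃ q, q.Prime ∧ ∃ Q : Subgroup K, Q ≤ W ∧ IsPGroup q Q ∧
      V ≤ normalizer (Q : Set K) ∧
      (∀ U : Subgroup K, U ≤ W → IsPGroup q U → V ≤ normalizer (U : Set K) → U ≤ Q) ∧
      ¬ ∀ y ∈ Q, Commute y v := by
    by_contra hcon
    push Not at hcon
    refine hnc (le_of_full fun q hq => ?_)
    have := Fact.mk hq
    obtain ⟨Q, hQW, hQq, hQn, hQmax, hQc⟩ := hV.exists_sylow C.good hWodd hWn q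
    exact ⟨Q, hQW, fun y hy => Subgroup.mem_centralizer_singleton_iff.2
      (hcon q hq Q hQW hQq hQn hQmax y hy), hQc⟩
  have := Fact.mk hq
  have hQodd : Odd (Nat.card Q) := hWodd.of_dvd_nat (Subgroup.card_dvd_of_le hQW)
  obtain ⟨u, hu, hu1, huv, x, hx, hx1, hxu⟩ := hV.exists_other_component hQodd hQn hQv
  have hq2 : q ≠ 2 := by
    rintro rfl
    obtain ⟨k, hk⟩ := IsPElt.of_mem hQq hx
    have := hk ▸ odd_orderOf_of_mem hQodd hx
    rcases k with _ | k
    · exact hx1 (orderOf_eq_one_iff.1 (by rw [hk, pow_zero]))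
    · exact absurd this (Nat.not_odd_iff_even.2 (by simp [pow_succ]))
  obtain ⟨n, -, hnu⟩ := C.auto V hV u hu hu1 v hv hv1
  have hy : Commute (n * x * n⁻¹) v := hnu ▸ (Commute.conj_iff n).2 hxu
  have hye := (IsPElt.of_mem hQq hx).conj n
  have hyW : zpowers (n * x * n⁻¹) ≤ W := zpowers_le.2 ((hW _).2
    ⟨Subgroup.mem_centralizer_singleton_iff.2 (C.good.odd_comm hv2 hy hτv (hye.odd hq2) hτ), hye.odd hq2⟩)
  have hyQ := hQmax _ hyW (isPGroup_zpowers hye)
    (hV.le_normalizer_zpowers C.good hv hv1 hy (hye.odd hq2)) (mem_zpowers _)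
  exact ⟨q, C.pair_of hV hq2 hQq hQn hv hv1 hyQ (fun e => hx1 (conj_eq_one_iff.1 e)) hy hQv⟩

/-- A failure of the TI property gives a proper subgroup with one class of involutions containing
the centraliser of an involution. -/
theorem Ctx.exists_strong [IsSimpleGroup K] (hone : ∀ x y : K, orderOf x = 2 → orderOf y = 2 → IsConj x y)
    (hfour : ∀ v : K, orderOf v = 2 → ∃ u, orderOf u = 2 ∧ u ≠ v ∧ Commute u v) (hT : ¬ IsTI K) :
    ∃ (L : Subgroup K) (v : K), orderOf v = 2 ∧ L ≠ ⊤ ∧ centralizer ({v} : Set K) ≤ L ∧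
      ∀ x ∈ L, orderOf x = 2 → ∃ l ∈ L, l * x * l⁻¹ = v := by
  classical
  have h2f : Fact (Nat.Prime 2) := ⟨Nat.prime_two⟩
  simp only [IsTI, not_forall] at hT
  obtain ⟨v, τ, g, hv2, hτ, hτ1, hτv, hgτ, hgv⟩ := hT
  obtain ⟨u, hu2, huv, hcuv⟩ := hfour v hv2
  obtain ⟨V, hV, hv, hu⟩ := exists_four hv2 hu2 huv hcuv
  have hv1 := inv2_ne_one hv2
  have hu1 := inv2_ne_one hu2
  obtain ⟨p₀, hp₀⟩ := C.exists_pair hV hv hv1 hτ hτ1 hτv hgτ hgv
  let π := (Nat.card K).primeFactors.filter fun q => Pair V q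
  let Pf : ℕ → Subgroup K := fun q => if h : Pair V q then Classical.choose (C.exists_core hV h) else ⊥
  have hPf : ∀ q, Pair V q → Core V q (Pf q) := fun q h => by
    simp only [Pf, dif_pos h]; exact Classical.choose_spec (C.exists_core hV h)
  have hPf1 : ∀ q, Pair V q → Pf q ≠ ⊥ := fun q h e => by
    obtain ⟨z, hz, hz1, -⟩ := (hPf q h).central v hv hv1
    rw [e, Subgroup.mem_bot] at hz; exact hz1 hz
  have hmem : ∀ q, Pair V q → q ∈ π := fun q h => Finset.mem_filter.2 ⟨Nat.mem_primeFactors.2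
    ⟨h.1, by
      have := Fact.mk h.1
      obtain ⟨n, hn⟩ := (hPf q h).maxP.isPGroup.exists_card_eq
      have hn0 : n ≠ 0 := by
        rintro rfl
        rw [pow_zero, Subgroup.card_eq_one] at hn
        exact hPf1 q h hn
      exact (dvd_pow_self q hn0).trans (hn ▸ Subgroup.card_subgroup_dvd_card (Pf q)),
      Nat.card_pos.ne'⟩, h⟩
  have hperm : ∀ a ∈ π, ∀ b ∈ π, a ≠ b → Perm (Pf a) (Pf b) := fun a ha b hb hab => by
    obtain ⟨-, hA⟩ := Finset.mem_filter.1 ha
    obtain ⟨-, hB⟩ := Finset.mem_filter.1 hb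
    have := Fact.mk hA.1
    have := Fact.mk hB.1
    exact C.perm hV hab hA.2.1 hB.2.1 (hPf a hA) (hPf b hB)
  have hsup : ∀ s : Finset ℕ, s ⊆ π →
      Odd (Nat.card (s.sup Pf : Subgroup K)) ∧ ∀ a ∈ π, a ∉ s → Perm (Pf a) (s.sup Pf) := by
    intro s
    induction s using Finset.induction with
    | empty =>
      intro _
      rw [Finset.sup_empty]
      exact ⟨by rw [Subgroup.card_bot]; exact odd_one, fun a _ _ => perm_bot_right _⟩
    | insert b s hbs ih =>
      intro hsub
      obtain ⟨hb, hs⟩ := Finset.insert_subset_iff.1 hsub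
      obtain ⟨hodd, hp⟩ := ih hs
      obtain ⟨-, hB⟩ := Finset.mem_filter.1 hb
      have := Fact.mk hB.1
      rw [Finset.sup_insert]
      refine ⟨(hp b hb hbs).odd_card (odd_card_of_isPGroup hB.2.1 (hPf b hB).maxP.isPGroup) hodd,
        fun a ha has => ?_⟩
      rw [Finset.mem_insert, not_or] at has
      exact (hperm a ha b hb has.1).sup (hp a ha has.2) (hp b hb hbs)
  set U := π.sup Pf with hUdef
  have hUodd := (hsup π subset_rfl).1
  set L := normalizer (U : Set K) with hL
  have hle : ∀ q, Pair V q → Pf q ≤ U := fun q h => Finset.le_sup (f := Pf) (hmem q h)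
  have hnormU : ∀ n : K, (∀ q, Pair V q → n ∈ normalizer (Pf q : Set K)) → n ∈ L := by
    intro n hn
    rw [hL, hUdef, Finset.sup_eq_iSup]
    exact iInf_normalizer_le_normalizer_iSup _ (mem_iInf.2 fun q =>
      iInf_normalizer_le_normalizer_iSup _ (mem_iInf.2 fun hq => hn q (Finset.mem_filter.1 hq).2))
  have hLtop : L ≠ ⊤ := by
    intro e
    have : U.Normal := normalizer_eq_top_iff.1 e
    rcases IsSimpleGroup.eq_bot_or_eq_top_of_normal U this with h | h
    · exact hPf1 p₀ hp₀ (le_bot_iff.1 (h ▸ hle p₀ hp₀))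
    · exact not_odd_two hv2 (odd_orderOf_of_mem hUodd (show v ∈ π.sup Pf by rw [← hUdef, h]; exact Subgroup.mem_top v))
  have hNV : normalizer (V : Set K) ≤ L := fun n hn => hnormU n fun q hq => (hPf q hq).auto hn
  obtain ⟨A, hA⟩ := C.good v hv2
  have hAL : A ≤ L := le_of_full fun q hq => by
    have := Fact.mk hq
    obtain ⟨S⟩ : Nonempty (Sylow q A) := inferInstance
    refine ⟨(S : Subgroup A).map A.subtype, map_subtype_le _, ?_, by
      rw [card_map_of_injective A.subtype_injective, S.card_eq_multiplicity]⟩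
    rintro _ ⟨x, hx, rfl⟩
    have hxe : IsPElt q (x : K) := IsPElt.of_mem (S.2.map A.subtype) ⟨x, hx, rfl⟩
    by_cases hq2 : q = 2
    · subst hq2
      exact hnormU _ fun r hr => by
        have := Fact.mk hr.1
        exact C.two_mem_normalizer hV hr.2.1 (hPf r hr) hv hv1 hA x.2 hxe
    · by_cases hpair : Pair V q
      · exact le_normalizer (hle q hpair ((hPf q hpair).full v hv hv1 _ (hA.cent _ x.2) hxe))
      · exact hnormU _ fun r hr => by
          have := Fact.mk hr.1
          exact (C.factor hV (fun e => hpair (by rw [← e]; exact hr)) hr.2.1 hq2 (hPf r hr) hv hv1).1 hpair _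
            (hA.cent _ x.2) hxe
  have hCv : centralizer ({v} : Set K) ≤ L := by
    intro r hr
    by_cases hrA : r ∈ A
    · exact hAL hrA
    have h1 : r * u ∈ A := hA.index_two r u (Subgroup.mem_centralizer_singleton_iff.1 hr) hcuv hrA
      (hA.other_notMem hu2 huv)
    have h2 : r = r * u * u := by rw [mul_assoc, inv2_mul_self hu2, mul_one]
    rw [h2]
    exact L.mul_mem (hAL h1) (hNV (le_normalizer hu))
  refine ⟨L, v, hv2, hLtop, hCv, fun x hx hx2 => ?_⟩
  -- the centraliser of `v` contains a Sylow subgroup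
  obtain ⟨S, hS⟩ : ∃ S : Sylow 2 K, (S : Subgroup K) ≤ centralizer ({v} : Set K) := by
    obtain ⟨S⟩ : Nonempty (Sylow 2 K) := inferInstance
    have : Nontrivial S := by
      rw [Subgroup.nontrivial_iff_ne_bot]
      intro e
      have h1 := S.card_eq_multiplicity
      have h2 : 2 ∣ Nat.card K := hv2 ▸ orderOf_dvd_natCard v
      have h3 := Nat.prime_two.factorization_pos_of_dvd Nat.card_pos.ne' h2
      rw [e, Subgroup.card_bot] at h1
      exact absurd h1.symm (Nat.one_lt_pow h3.ne' one_lt_two).ne'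
    have := S.2.center_nontrivial
    obtain ⟨c, hc⟩ := exists_prime_orderOf_dvd_card' (G := center S) 2 (by
      obtain ⟨n, hn⟩ := (S.2.to_subgroup (center S)).exists_card_eq
      rw [hn]
      refine dvd_pow_self 2 fun e => ?_
      rw [e, pow_zero] at hn
      exact absurd (Nat.card_eq_one_iff_unique.1 hn).1 (not_subsingleton _))
    obtain ⟨k, hk⟩ := isConj_iff.1 (hone ((c : S) : K) v (by rwa [orderOf_coe, orderOf_coe]) hv2)
    refine ⟨MulAut.conj k • S, fun y hy => ?_⟩
    rw [Sylow.pointwise_smul_def, Subgroup.mem_pointwise_smul_iff_inv_smul_mem] at hy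
    rw [Subgroup.mem_centralizer_singleton_iff, ← hk]
    have hcm : Commute (k⁻¹ * y * k) ((c : S) : K) := by
      have := congrArg Subtype.val (Subgroup.mem_center_iff.1 c.2
        ⟨k⁻¹ * y * k, by simpa [← map_inv] using hy⟩)
      exact this
    have := (Commute.conj_iff k).2 hcm
    simpa [mul_assoc] using this.eq
  -- conjugate into the centraliser of `v`
  obtain ⟨l, hl, r, hrS, hlr⟩ : ∃ l ∈ L, ∃ r ∈ (S : Subgroup K), l * x * l⁻¹ = r := by
    have hSL : (S : Subgroup K) ≤ L := hS.trans hCv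
    obtain ⟨T, hT⟩ := ((IsPGroup.of_card (n := 1) (by rw [Nat.card_zpowers, orderOf_mk, hx2, pow_one]) :
      IsPGroup 2 (zpowers (⟨x, hx⟩ : L)))).exists_le_sylow
    obtain ⟨l, hl⟩ := MulAction.exists_smul_eq L T (S.subtype hSL)
    have h1 : MulAut.conj l (⟨x, hx⟩ : L) ∈ ((l • T : Sylow 2 L) : Subgroup L) := by
      rw [Sylow.coe_subgroup_smul]
      exact Subgroup.smul_mem_pointwise_smul _ _ _ (hT (mem_zpowers _))
    rw [hl, Sylow.coe_subtype, Subgroup.mem_subgroupOf] at h1
    exact ⟨l, l.2, _, h1, by simp⟩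
  have hr2 : orderOf r = 2 := by rw [← hlr, Invol.orderOf_conj, hx2]
  have hrv : Commute r v := Subgroup.mem_centralizer_singleton_iff.1 (hS hrS)
  by_cases hev : r = v
  · exact ⟨l, hl, hlr.trans hev⟩
  -- remove the odd part
  set a := r * u with ha
  have haA : a ∈ A := hA.index_two r u hrv hcuv (hA.other_notMem hr2 hev) (hA.other_notMem hu2 huv)
  obtain ⟨k, m, hm, hkm⟩ := Nat.exists_eq_two_pow_mul_odd (orderOf_pos a).ne'
  obtain ⟨i, hi⟩ := id hm
  set b := a ^ i with hb
  have hbA : b ∈ A := A.pow_mem haA i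
  set r' := b * r * b⁻¹ with hr'def
  have hr'2 : orderOf r' = 2 := by rw [hr'def, Invol.orderOf_conj, hr2]
  have hr'v : Commute r' v :=
    ((hA.cent b hbA).mul_left hrv).mul_left (hA.cent b hbA).inv_left
  have hr'A : r' ∉ A := fun h => hA.other_notMem hr2 hev (by
    simpa [hr'def, mul_assoc] using A.mul_mem (A.mul_mem (A.inv_mem hbA) h) hbA)
  have hr'ne : r' ≠ v := fun e => hr'A (e ▸ hA.mem)
  have hr'eq : r' = a ^ m * u := by
    have huA := hA.other_notMem hu2 huv
    have hub : u * b⁻¹ = b * u := by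
      have := hA.invert hcuv huA hbA
      rw [← this, inv2_inv hu2, ← mul_assoc, ← mul_assoc, inv2_mul_self hu2, one_mul]
    have hre : r = a * u := by rw [ha, mul_assoc, inv2_mul_self hu2, mul_one]
    rw [hr'def, hre, mul_assoc, mul_assoc, hub, hb, hi]
    simp only [← mul_assoc]
    rw [← pow_succ, ← pow_add]
    congr 2; omega
  have ham : IsPElt 2 (a ^ m) := ⟨k, by
    rw [orderOf_pow' _ (by omega : m ≠ 0), hkm, Nat.gcd_eq_right (dvd_mul_left _ _),
      Nat.mul_div_cancel _ (by omega : 0 < m)]⟩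
  obtain ⟨V', hV', hv', hr'⟩ := exists_four hv2 hr'2 hr'ne hr'v
  have hNV' : normalizer (V' : Set K) ≤ L := fun n hn => hnormU n fun q hq => by
    have := Fact.mk hq.1
    set P := Pf q
    have hP : Core V q P := hPf q hq
    have hr'P : r' ∈ normalizer (P : Set K) := hr'eq ▸
      mul_mem (C.two_mem_normalizer hV hq.2.1 hP hv hv1 hA (A.pow_mem haA m) ham) (hP.maxP.norm hu)
    have hV'P : V' ≤ normalizer (P : Set K) := fun w hw => by
      rcases hV'.mem_cases hv' hr' hv1 (inv2_ne_one hr'2) hr'ne.symm hw with e | e | e | e <;> rw [e]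
      exacts [Subgroup.one_mem _, hP.maxP.norm hv, hr'P, mul_mem (hP.maxP.norm hv) hr'P]
    obtain ⟨z, hz, hz1, hzv, -⟩ := hP.central v hv hv1
    have hnP : ¬ ∀ y ∈ P, Commute y v := fun h => by
      obtain ⟨z', hz', hz1', hzu', -⟩ := hP.central u hu hu1
      exact hz1' (hV.odd_eq_one C.good hv hu hv1 hu1 huv.symm (h z' hz') hzu'
        ((IsPElt.of_mem hP.maxP.isPGroup hz').odd hq.2.1))
    obtain ⟨P2, hP2⟩ := C.exists_core hV'
      (C.pair_of hV' hq.2.1 hP.maxP.isPGroup hV'P hv' hv1 hz hz1 hzv hnP)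
    have hPP2 : P ≤ P2 := C.le_of_common hV' hq.2.1 hP2.maxP hP.maxP.isPGroup hV'P hz
      (hP2.full v hv' hv1 z hzv (IsPElt.of_mem hP.maxP.isPGroup hz)) hz1
    have huP2 : u ∈ normalizer (P2 : Set K) := by
      have e : u = (a ^ m)⁻¹ * r' := by rw [hr'eq, inv_mul_cancel_left]
      rw [e]
      exact mul_mem (inv_mem (C.two_mem_normalizer hV' hq.2.1 hP2 hv' hv1 hA (A.pow_mem haA m) ham))
        (hP2.maxP.norm hr')
    have hVP2 : V ≤ normalizer (P2 : Set K) := fun w hw => by
      rcases hV.mem_cases hv hu hv1 hu1 huv.symm hw with e | e | e | e <;> rw [e]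
      exacts [Subgroup.one_mem _, hP2.maxP.norm hv', huP2, mul_mem (hP2.maxP.norm hv') huP2]
    exact (hP.maxP.max P2 hP2.maxP.isPGroup hVP2 hPP2) ▸ hP2.auto hn
  obtain ⟨n, hn, hnr⟩ := C.auto V' hV' r' hr' (inv2_ne_one hr'2) v hv' hv1
  refine ⟨n * b * l, L.mul_mem (L.mul_mem (hNV' hn) (hAL hbA)) hl, ?_⟩
  rw [← hnr, hr'def, ← hlr]
  group

end Cfsg.Agent.DGroupPSL
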