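import Cfsg.Agent.BlockThms.Dihedral.Principal
import Cfsg.Agent.Char.Gen
import Cfsg.Agent.S4479
import Cfsg.Agent.S4482
import Cfsg.Agent.Char.KleinSection
import Cfsg.Agent.Blocks.Idempotent
import Cfsg.Agent.DGroupPSL.Local

/-!
# Order formula bound on the index of a subgroup containing an involution centraliser
-/

set_option autoImplicit false

namespace Cfsg.Agent.DGroupPSL

open Subgroup DihedralGroup Cfsg.Agent.Invol Cfsg.Agent.BlockThms.Dihedral

universe u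

variable {X : Type u} [Group X]

/-- The involution `v` is the central one of the dihedral or four Sylow `2`-subgroup generated by
the rotation `σ` and the reflection `τ`. -/
structure DihAt (v : X) (P : Sylow 2 X) (σ τ : X) (k : ℕ) : Prop where
  pos : 1 ≤ k
  σ_mem : σ ∈ (P : Subgroup X)
  τ_mem : τ ∈ (P : Subgroup X)
  σ_ord : orderOf σ = 2 ^ k
  τ_ord : orderOf τ = 2
  rel : τ * σ * τ⁻¹ = σ⁻¹
  τ_notMem : τ ∉ zpowers σ
  gen : closure ({σ, τ} : Set X) = (P : Subgroup X)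
  val : σ ^ 2 ^ (k - 1) = v

/-- Two commuting involutions lie in a subgroup of order four. -/
theorem exists_card_four {s t : X} (hs : s * s = 1) (ht : t * t = 1) (hc : Commute s t) (hs1 : s ≠ 1)
    (ht1 : t ≠ 1) (hne : s ≠ t) : ∃ V : Subgroup X, Nat.card V = 4 ∧ s ∈ V ∧ t ∈ V := by
  obtain ⟨V, hV, h1, h2⟩ := exists_four (K := X)
    (Invol.orderOf_eq_two_iff.2 ⟨hs1, hs⟩) (Invol.orderOf_eq_two_iff.2 ⟨ht1, ht⟩) hne.symm hc.symm
  exact ⟨V, hV.card, h1, h2⟩

namespace DihAt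

variable {v : X} {P : Sylow 2 X} {σ τ : X} {k : ℕ} (D : DihAt v P σ τ k)
include D

theorem mem : v ∈ (P : Subgroup X) := D.val ▸ pow_mem D.σ_mem _

theorem orderOf_v : orderOf v = 2 := by
  have hk := D.pos
  rw [← D.val, orderOf_pow' _ (pow_ne_zero _ two_ne_zero), D.σ_ord,
    Nat.gcd_eq_right (pow_dvd_pow 2 (by omega)), Nat.pow_div (by omega) two_pos,
    show k - (k - 1) = 1 by omega, pow_one]

theorem mul_ord : orderOf (σ * τ) = 2 := by
  refine orderOf_eq_prime ?_ fun h => D.τ_notMem ?_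
  · rw [pow_two, mul_assoc, ← mul_assoc τ σ, show τ * σ = σ⁻¹ * τ by rw [← D.rel]; group,
      mul_assoc, ← pow_two τ, ← D.τ_ord, pow_orderOf_eq_one, mul_one, mul_inv_cancel]
  · rw [eq_inv_of_mul_eq_one_right h]
    exact inv_mem (mem_zpowers σ)

theorem commute_τ : Commute v τ := by
  have h : τ * v * τ⁻¹ = v := by
    rw [← D.val, ← conj_pow, D.rel, inv_pow, D.val]
    exact inv_eq_of_mul_eq_one_right (by rw [← pow_two, ← D.orderOf_v, pow_orderOf_eq_one])
  exact (mul_inv_eq_iff_eq_mul.1 h).symm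

theorem le_centralizer : (P : Subgroup X) ≤ centralizer ({v} : Set X) := by
  rw [← D.gen, closure_le]
  rintro x (rfl | rfl)
  · exact mem_centralizer_singleton_iff.2 (by rw [← D.val]; exact (Commute.self_pow x _).eq)
  · exact mem_centralizer_singleton_iff.2 D.commute_τ.eq.symm

theorem inr {L : Subgroup X} (hP : (P : Subgroup X) ≤ L) :
    DihAt (⟨v, hP D.mem⟩ : L) (P.subtype hP) ⟨σ, hP D.σ_mem⟩ ⟨τ, hP D.τ_mem⟩ k where
  pos := D.pos
  σ_mem := D.σ_mem
  τ_mem := D.τ_mem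
  σ_ord := by rw [← orderOf_coe]; exact D.σ_ord
  τ_ord := by rw [← orderOf_coe]; exact D.τ_ord
  rel := Subtype.ext D.rel
  τ_notMem := fun h => by
    obtain ⟨i, hi⟩ := mem_zpowers_iff.1 h
    exact D.τ_notMem ⟨i, by simpa using congrArg Subtype.val hi⟩
  gen := by
    refine map_injective L.subtype_injective ?_
    rw [MonoidHom.map_closure, Set.image_pair, Sylow.coe_subtype, subgroupOf_map_subtype,
      inf_eq_left.2 hP]
    exact D.gen
  val := Subtype.ext D.val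

/-- The dihedral case of the order formula, with bounds on the degree term. -/
theorem order_dihedral [Finite X] (hk : 2 ≤ k) (hone : ∀ x : X, orderOf x = 2 → IsConj v x) :
    ∃ f : ℚ, 3 / 8 ≤ f ∧ f ≤ 15 / 8 ∧ (Nat.card X : ℚ) =
      2 * f * (Nat.card (centralizer ({v} : Set X)) : ℚ) ^ 3 *
        (1 / (Nat.card (centralizer ({v, τ} : Set X)) : ℚ) +
          1 / (Nat.card (centralizer ({v, σ * τ} : Set X)) : ℚ)) ^ 2 := by
  classical
  have := Fintype.ofFinite X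
  obtain ⟨M, hM⟩ := Blocks.exists_isPModular 2 Nat.prime_two
  have hrange : ∀ ι : DihedralGroup (2 ^ k) →* X, Function.Injective ι → ι (r 1) = σ →
      ι (sr 0) = τ → (P : Subgroup X) ≤ ι.range := by
    intro ι _ h1 h0
    rw [← D.gen, Subgroup.closure_le]
    rintro x (rfl | rfl)
    · exact ⟨_, h1⟩
    · exact ⟨_, h0⟩
  obtain ⟨ι, DD, h1, -⟩ := ddata_of_gen hk D.σ_mem D.τ_mem D.σ_ord D.τ_ord D.rel hrange
  obtain ⟨π, h⟩ := exists_proj DD
  have hζ := Complex.isPrimitiveRoot_exp (2 ^ k) (pow_ne_zero k two_ne_zero)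
  have he : (AddChar.zmodChar (2 ^ k) hζ.pow_eq_one).IsPrimitive :=
    AddChar.zmodChar_primitive_of_primitive_root _ hζ
  obtain ⟨χ₁, χ₂, χ₃, η, δ, δ₂, δ₃, hL⟩ := exists_labels h DD hk he
  have hval : ∀ l : ℕ, 0 < l → l < 2 ^ k → (χ₁ : X → ℂ) (σ ^ l) = δ := by
    intro l hl0 hl
    rw [← h1, map_natCast_rotation]
    refine hL.value₁ h DD hM he ?_
    rw [Ne, ZMod.natCast_eq_zero_iff]
    exact fun hd => absurd (Nat.le_of_dvd hl0 hd) (by omega)
  obtain ⟨hxδ, key⟩ := S4482.result M hM (k + 1) (by omega) P σ τ D.σ_mem D.τ_mem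
    (by simpa using D.σ_ord) D.τ_ord D.rel D.gen
    (by
      have e : k + 1 - 2 = k - 1 := by omega
      rw [e, D.val]; exact ⟨hone τ D.τ_ord, hone _ D.mul_ord⟩)
    χ₁ (hL.mem₁ h DD hM) (fun e => hL.ne_one₁ (Subtype.ext e)) δ hL.sign₁ (by simpa using hval)
  rw [show k + 1 - 2 = k - 1 by omega, D.val] at key
  set x := Cfsg.charDegree (χ₁ : X → ℂ) with hx
  have hx1 : (χ₁ : X → ℂ) 1 = x := by
    obtain ⟨n, -, hn⟩ := Char.IsIrr.degree χ₁.2
    rw [hn, hx, Blocks.charDegree_eq hn]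
  -- congruence modulo four
  obtain ⟨m, hm⟩ : ∃ m : ℤ, (x : ℤ) + (2 ^ k - 1) * δ = 2 ^ k * m := by
    let Z := zpowers σ
    have hgen : Cfsg.IsGeneralizedCharacter Z (fun z : Z => (χ₁ : X → ℂ) z) :=
      Char.isGeneralized_of_isCharacter (Char.isCharacter_res Z (Char.IsIrr.isCharacter χ₁.2))
    obtain ⟨m, hm⟩ := Char.classInner_generalized_int hgen
      (Char.isGeneralized_of_isCharacter Char.isCharacter_one)
    refine ⟨m, ?_⟩
    have hcZ : Nat.card Z = 2 ^ k := by rw [Nat.card_zpowers, D.σ_ord]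
    rw [Cfsg.classInner, hcZ] at hm
    have hsum : ∑ z : Z, (χ₁ : X → ℂ) z * (starRingEnd ℂ) 1 = x + (2 ^ k - 1 : ℂ) * δ := by
      simp only [map_one, mul_one]
      rw [← Finset.add_sum_erase _ _ (Finset.mem_univ (1 : Z)), Subgroup.coe_one, hx1]
      congr 1
      rw [Finset.sum_congr rfl (g := fun _ => (δ : ℂ)) fun z hz => ?_, Finset.sum_const,
        Finset.card_erase_of_mem (Finset.mem_univ _), Finset.card_univ, ← Nat.card_eq_fintype_card,
        hcZ, nsmul_eq_mul, Nat.cast_sub Nat.one_le_two_pow]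
      · push_cast; ring
      · have hz1 : (z : X) ≠ 1 := fun e => Finset.ne_of_mem_erase hz (Subtype.ext e)
        obtain ⟨l, hl⟩ := mem_zpowers_iff.1 z.2
        rw [← zpow_mod_orderOf] at hl
        obtain ⟨l', hl'⟩ := Int.eq_ofNat_of_zero_le (Int.emod_nonneg l
          (b := (orderOf σ : ℤ)) (by exact_mod_cast (orderOf_pos σ).ne'))
        rw [hl', zpow_natCast] at hl
        rw [← hl]
        refine hval l' (Nat.pos_of_ne_zero fun e => hz1 (by rw [← hl, e, pow_zero])) ?_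
        have := Int.emod_lt_of_pos l (b := (orderOf σ : ℤ)) (by exact_mod_cast orderOf_pos σ)
        rw [hl', D.σ_ord] at this
        exact_mod_cast this
    rw [hsum] at hm
    have h2 : (x : ℂ) + (2 ^ k - 1 : ℂ) * δ = (2 ^ k : ℂ) * m := by
      rw [← hm]; push_cast
      field_simp
    exact_mod_cast h2
  have hx0 : 0 < x := Blocks.charDegree_pos χ₁.2
  have h4 : (4 : ℤ) ∣ (x : ℤ) - δ :=
    ⟨2 ^ (k - 2) * (m - δ), by
      have : (2 : ℤ) ^ k = 4 * 2 ^ (k - 2) := by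
        rw [show (4 : ℤ) = 2 ^ 2 by norm_num, ← pow_add]; congr 1; omega
      linear_combination hm + (m - δ) * this⟩
  set f : ℚ := (x : ℚ) * ((x : ℚ) + δ) / ((x : ℚ) - δ) ^ 2 with hf
  have hne : (x : ℚ) - δ ≠ 0 := sub_ne_zero.2 (by exact_mod_cast hxδ)
  have hsq : (0 : ℚ) < ((x : ℚ) - δ) ^ 2 := by positivity
  refine ⟨f, ?_, ?_, ?_⟩
  · rw [hf, le_div_iff₀ hsq]
    rcases hL.sign₁ with rfl | rfl
    · obtain ⟨c, hc⟩ := h4
      have h5 : (5 : ℚ) ≤ x := by exact_mod_cast (show 5 ≤ x by omega)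
      push_cast; nlinarith
    · obtain ⟨c, hc⟩ := h4
      have h3 : (3 : ℚ) ≤ x := by exact_mod_cast (show 3 ≤ x by omega)
      push_cast; nlinarith
  · rw [hf, div_le_iff₀ hsq]
    rcases hL.sign₁ with rfl | rfl
    · obtain ⟨c, hc⟩ := h4
      have h5 : (5 : ℚ) ≤ x := by exact_mod_cast (show 5 ≤ x by omega)
      push_cast; nlinarith
    · obtain ⟨c, hc⟩ := h4
      have h3 : (3 : ℚ) ≤ x := by exact_mod_cast (show 3 ≤ x by omega)
      push_cast; nlinarith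
  · rw [hf]
    generalize (1 / (Nat.card (centralizer ({v, τ} : Set X)) : ℚ) +
      1 / (Nat.card (centralizer ({v, σ * τ} : Set X)) : ℚ)) ^ 2 = R at key ⊢
    field_simp
    linear_combination key

omit D in
theorem klein_bounds {a b c : ℕ} {e₁ e₂ e₃ : ℤ} (ha : Odd a) (hb : Odd b) (hc : Odd c)
    (h1 : e₁ = 1 ∨ e₁ = -1) (h2 : e₂ = 1 ∨ e₂ = -1) (h3 : e₃ = 1 ∨ e₃ = -1)
    (hrel : (1 : ℤ) + e₁ * a + e₂ * b + e₃ * c = 0)
    (n1 : (a : ℤ) + e₁ ≠ 0) (n2 : (b : ℤ) + e₂ ≠ 0) (n3 : (c : ℤ) + e₃ ≠ 0) :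
    3 / 8 ≤ ((a : ℚ) * b * c) / ((a + e₁) * (b + e₂) * (c + e₃)) ∧
      ((a : ℚ) * b * c) / ((a + e₁) * (b + e₂) * (c + e₃)) ≤ 15 / 8 := by
  have key1 : ∀ a b : ℚ, 1 ≤ a → 1 ≤ b →
      3 / 8 ≤ a * b * (1 + a + b) / ((a + 1) * (b + 1) * (a + b)) ∧
        a * b * (1 + a + b) / ((a + 1) * (b + 1) * (a + b)) ≤ 15 / 8 := by
    intro a b ha hb
    obtain ⟨i, hi, rfl⟩ : ∃ i, 0 ≤ i ∧ a = 1 + i := ⟨a - 1, by linarith, by ring⟩
    obtain ⟨j, hj, rfl⟩ : ∃ j, 0 ≤ j ∧ b = 1 + j := ⟨b - 1, by linarith, by ring⟩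
    rw [le_div_iff₀ (by positivity), div_le_iff₀ (by positivity)]
    constructor <;> nlinarith [mul_nonneg hi hj, mul_nonneg (mul_nonneg hi hj) hi,
      mul_nonneg (mul_nonneg hi hj) hj, mul_nonneg hi hi, mul_nonneg hj hj]
  have key2 : ∀ a b : ℚ, 3 ≤ a → 3 ≤ b →
      3 / 8 ≤ a * b * (a + b - 1) / ((a - 1) * (b - 1) * (a + b)) ∧
        a * b * (a + b - 1) / ((a - 1) * (b - 1) * (a + b)) ≤ 15 / 8 := by
    intro a b ha hb
    obtain ⟨i, hi, rfl⟩ : ∃ i, 0 ≤ i ∧ a = 3 + i := ⟨a - 3, by linarith, by ring⟩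
    obtain ⟨j, hj, rfl⟩ : ∃ j, 0 ≤ j ∧ b = 3 + j := ⟨b - 3, by linarith, by ring⟩
    have e1 : (3 + i) - 1 = 2 + i := by ring
    have e2 : (3 + j) - 1 = 2 + j := by ring
    have e3 : (3 + i) + (3 + j) - 1 = 5 + i + j := by ring
    rw [e1, e2, e3, le_div_iff₀ (by positivity), div_le_iff₀ (by positivity)]
    constructor <;> nlinarith [mul_nonneg hi hj, mul_nonneg (mul_nonneg hi hj) hi,
      mul_nonneg (mul_nonneg hi hj) hj, mul_nonneg hi hi, mul_nonneg hj hj]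
  obtain ⟨a', ha'⟩ := ha
  obtain ⟨b', hb'⟩ := hb
  obtain ⟨c', hc'⟩ := hc
  have q1 : (1 : ℚ) ≤ a := by exact_mod_cast (show 1 ≤ a by omega)
  have q2 : (1 : ℚ) ≤ b := by exact_mod_cast (show 1 ≤ b by omega)
  have q3 : (1 : ℚ) ≤ c := by exact_mod_cast (show 1 ≤ c by omega)
  have hrelQ : (1 : ℚ) + e₁ * a + e₂ * b + e₃ * c = 0 := by exact_mod_cast hrel
  rcases h1 with rfl | rfl <;> rcases h2 with rfl | rfl <;> rcases h3 with rfl | rfl <;>
    push_cast at hrelQ ⊢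
  · linarith
  · have e : (c : ℚ) = 1 + a + b := by linarith
    rw [e]; convert key1 a b q1 q2 using 3 <;> ring
  · have e : (b : ℚ) = 1 + a + c := by linarith
    rw [e]; convert key1 a c q1 q3 using 3 <;> ring
  · obtain ⟨r2, r3⟩ : (3 : ℚ) ≤ b ∧ (3 : ℚ) ≤ c := by
      constructor <;> norm_cast <;> omega
    have e : (a : ℚ) = b + c - 1 := by linarith
    rw [e]; convert key2 b c r2 r3 using 3 <;> ring
  · have e : (a : ℚ) = 1 + b + c := by linarith
    rw [e]; convert key1 b c q2 q3 using 3 <;> ring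
  · obtain ⟨r1, r3⟩ : (3 : ℚ) ≤ a ∧ (3 : ℚ) ≤ c := by
      constructor <;> norm_cast <;> omega
    have e : (b : ℚ) = a + c - 1 := by linarith
    rw [e]; convert key2 a c r1 r3 using 3 <;> ring
  · obtain ⟨r1, r2⟩ : (3 : ℚ) ≤ a ∧ (3 : ℚ) ≤ b := by
      constructor <;> norm_cast <;> omega
    have e : (c : ℚ) = a + b - 1 := by linarith
    rw [e]; convert key2 a b r1 r2 using 3 <;> ring
  · exfalso; omega

/-- The four-group case of the order formula, with bounds on the degree term. -/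
theorem order_klein [Finite X] (hk : k = 1) (hone : ∀ x : X, orderOf x = 2 → IsConj v x) :
    ∃ f : ℚ, 3 / 8 ≤ f ∧ f ≤ 15 / 8 ∧ (Nat.card X : ℚ) =
      8 * f * (Nat.card (centralizer ({v} : Set X)) : ℚ) ^ 3 /
        (Nat.card (centralizer ((P : Subgroup X) : Set X)) : ℚ) ^ 2 := by
  classical
  have := Fintype.ofFinite X
  subst hk
  have hv : σ = v := by simpa using D.val
  obtain ⟨V, hV, hσV, hτV⟩ : ∃ V : Subgroup X, Nat.card V = 4 ∧ σ ∈ V ∧ τ ∈ V := by
    have hσ2 : σ * σ = 1 := by rw [← pow_two, ← pow_one 2, ← D.σ_ord, pow_orderOf_eq_one]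
    have hτ2 : τ * τ = 1 := by rw [← pow_two, ← D.τ_ord, pow_orderOf_eq_one]
    obtain ⟨V, h1, h2, h3⟩ := exists_card_four hσ2 hτ2 (by rw [hv]; exact D.commute_τ)
      (fun e => by have := D.σ_ord; rw [e, orderOf_one] at this; omega)
      (fun e => by have := D.τ_ord; rw [e, orderOf_one] at this; omega)
      (fun e => D.τ_notMem (e ▸ mem_zpowers σ))
    exact ⟨V, h1, h2, h3⟩
  have hPV : (P : Subgroup X) = V := by
    refine Subgroup.eq_of_le_of_card_ge ?_ ?_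
    · rw [← D.gen, closure_le]; rintro x (rfl | rfl); exacts [hσV, hτV]
    · rw [hV]
      obtain ⟨n, hn⟩ := P.2.exists_card_eq
      have h2 : 2 ∣ Nat.card (P : Subgroup X) := by
        have := Subgroup.orderOf_dvd_natCard (P : Subgroup X) D.τ_mem
        rwa [D.τ_ord] at this
      by_contra hlt
      push Not at hlt
      have hne : Nat.card (P : Subgroup X) = 2 := by
        rw [hn] at h2 hlt ⊢
        rcases n with _ | _ | n
        · simp at h2
        · rfl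
        · rw [pow_succ, pow_succ] at hlt; have := Nat.one_le_two_pow (n := n); omega
      have h3 : Nat.card (zpowers σ) = Nat.card (P : Subgroup X) := by
        rw [Nat.card_zpowers, D.σ_ord, hne]; rfl
      exact D.τ_notMem ((Subgroup.eq_of_le_of_card_ge (zpowers_le.2 D.σ_mem) h3.ge).ge D.τ_mem)
  obtain ⟨g₀, hG⟩ : 4 ∣ Nat.card X := hV ▸ hPV ▸ Subgroup.card_subgroup_dvd_card (P : Subgroup X)
  have hg₀ : Odd g₀ := by
    rw [← Nat.not_even_iff_odd, even_iff_two_dvd]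
    intro h2
    have h8 : 2 ^ 3 ∣ Nat.card X := by rw [hG]; exact Nat.mul_dvd_mul_left 4 h2
    have := (Nat.prime_two.pow_dvd_iff_le_factorization Nat.card_pos.ne').1 h8
    have h4 : 2 ^ (Nat.card X).factorization 2 = 2 ^ 2 := by
      rw [← P.card_eq_multiplicity, hPV, hV]; rfl
    have := Nat.pow_right_injective le_rfl h4
    omega
  have hnc : ¬ ∃ N : Subgroup X, N.Normal ∧ Nat.card N = g₀ := by
    rintro ⟨N, hN, hNc⟩
    have hidx : N.index = 4 := by
      have := N.card_mul_index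
      rw [hNc, hG, mul_comm] at this
      exact Nat.eq_of_mul_eq_mul_right hg₀.pos this
    have hcomm : ∀ x y : X ⧸ N, Commute x y := by
      have : Fact (Nat.Prime 2) := ⟨Nat.prime_two⟩
      intro x y
      exact (IsPGroup.isMulCommutative_of_card_eq_prime_sq (p := 2) (G := X ⧸ N)
        (by rw [← Subgroup.index_eq_card, hidx]; rfl)).is_comm.comm x y
    obtain ⟨g, hg⟩ := isConj_iff.1 (hone τ D.τ_ord)
    have h : (τ : X ⧸ N) = (v : X ⧸ N) := by
      rw [← hg, QuotientGroup.mk_mul, QuotientGroup.mk_mul, QuotientGroup.mk_inv, (hcomm _ _).eq,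
        inv_mul_cancel_left]
    have hmem : v⁻¹ * τ ∈ N := QuotientGroup.eq.1 h.symm
    have hodd : Odd (orderOf (v⁻¹ * τ)) := (hNc.symm ▸ hg₀ : Odd (Nat.card N)).of_dvd_nat
      (Subgroup.orderOf_dvd_natCard N hmem)
    have hne : v⁻¹ * τ ≠ 1 := fun e => D.τ_notMem (by
      rw [inv_mul_eq_one] at e; rw [← e, ← hv]; exact mem_zpowers σ)
    have hsq : (v⁻¹ * τ) * (v⁻¹ * τ) = 1 := by
      have hc := D.commute_τ.inv_left
      rw [hc.symm.mul_mul_mul_comm, ← pow_two, ← pow_two, inv_pow, ← D.τ_ord, pow_orderOf_eq_one,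
        D.τ_ord, ← D.orderOf_v, pow_orderOf_eq_one, inv_one, one_mul]
    have : orderOf (v⁻¹ * τ) = 2 := orderOf_eq_prime (by rw [pow_two, hsq]) hne
    rw [this] at hodd
    exact absurd hodd (by decide)
  obtain ⟨M, hM⟩ := Blocks.exists_isPModular 2 Nat.prime_two
  obtain ⟨a, ha, hsum⟩ := Char.klein_section M hM g₀ hg₀ hG hnc P v D.mem D.orderOf_v
  let B : Finset (Cfsg.IrrCharacter X) := Finset.univ.filter fun χ => χ ∈ Cfsg.principalBlock M X
  have hB : ∀ χ, χ ∈ B ↔ χ ∈ Cfsg.principalBlock M X := fun χ => by simp [B]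
  rw [← Finset.sum_filter] at hsum
  change ∑ χ ∈ B, a χ ^ 2 = 4 at hsum
  have htriv : Blocks.triv X ∈ B := (hB _).2 (Blocks.triv_mem_principalBlock hM)
  have ha1 : a (Blocks.triv X) = 1 := by
    have h : (1 : ℂ) = a (Blocks.triv X) := (ha _ ((hB _).1 htriv)).2
    exact_mod_cast h.symm
  rw [← Finset.add_sum_erase _ _ htriv, ha1] at hsum
  have hsq : ∀ χ ∈ B.erase (Blocks.triv X), a χ ^ 2 = 1 := by
    intro χ hχ
    have h0 := (ha χ ((hB χ).1 (Finset.mem_of_mem_erase hχ))).1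
    have hle := Finset.single_le_sum (f := fun ψ => a ψ ^ 2) (fun ψ _ => sq_nonneg _) hχ
    have h2 : a χ ^ 2 ≤ 3 := by linarith
    have h3 : -1 ≤ a χ := by nlinarith
    have h4 : a χ ≤ 1 := by nlinarith
    rcases (by omega : a χ = 1 ∨ a χ = -1) with h | h <;> rw [h] <;> norm_num
  have hcard : (B.erase (Blocks.triv X)).card = 3 := by
    rw [Finset.sum_congr rfl hsq, Finset.sum_const, nsmul_eq_mul, mul_one] at hsum
    omega
  obtain ⟨χ₁, χ₂, χ₃, h12, h13, h23, he⟩ := Finset.card_eq_three.1 hcard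
  have hm : ∀ χ, (χ = χ₁ ∨ χ = χ₂ ∨ χ = χ₃) ↔ χ ∈ B.erase (Blocks.triv X) := fun χ => by
    rw [he]; simp
  have hne : ∀ χ, χ ∈ B.erase (Blocks.triv X) → (χ : X → ℂ) ≠ (fun _ => 1) := fun χ hχ h =>
    Finset.ne_of_mem_erase hχ (Subtype.ext h)
  have m1 := (hm χ₁).1 (Or.inl rfl)
  have m2 := (hm χ₂).1 (Or.inr (Or.inl rfl))
  have m3 := (hm χ₃).1 (Or.inr (Or.inr rfl))
  have hset : Cfsg.principalBlock M X =
      {χ : Cfsg.IrrCharacter X | (χ : X → ℂ) = (fun _ => 1) ∨ χ = χ₁ ∨ χ = χ₂ ∨ χ = χ₃} := by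
    ext χ
    rw [← hB]
    show χ ∈ B ↔ _ ∨ _
    constructor
    · intro hχ
      by_cases h : χ = Blocks.triv X
      · exact Or.inl (by rw [h]; rfl)
      · exact Or.inr ((hm χ).2 (Finset.mem_erase.2 ⟨h, hχ⟩))
    · rintro (h | h)
      · rwa [show χ = Blocks.triv X from Subtype.ext h]
      · exact Finset.mem_of_mem_erase ((hm χ).1 h)
  have hv' : ∀ χ ∈ B.erase (Blocks.triv X), (a χ = 1 ∨ a χ = -1) ∧ (χ : X → ℂ) v = a χ := fun χ hχ =>
    ⟨sq_eq_one_iff.1 (hsq χ hχ), (ha χ ((hB χ).1 (Finset.mem_of_mem_erase hχ))).2⟩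
  have hdist := And.intro (hne χ₁ m1) (And.intro (hne χ₂ m2) (And.intro (hne χ₃ m3)
    (And.intro h12 (And.intro h13 h23))))
  have heps := And.intro (hv' χ₁ m1).1 (And.intro (hv' χ₂ m2).1 (hv' χ₃ m3).1)
  have hval := And.intro (hv' χ₁ m1).2 (And.intro (hv' χ₂ m2).2 (hv' χ₃ m3).2)
  obtain ⟨-, x₁, x₂, x₃, -, ⟨d1, d2, d3⟩, ⟨o1, o2, o3⟩, -, hrel, -, -, -⟩ :=
    Char.klein_data M hM g₀ hg₀ hG hnc P v D.mem D.orderOf_v χ₁ χ₂ χ₃ _ _ _ hset hdist heps hval
  have hord := S4479.result M hM g₀ hg₀ hG hnc P v D.mem D.orderOf_v χ₁ χ₂ χ₃ _ _ _ hset hdist heps hval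
  rw [Blocks.charDegree_eq d1, Blocks.charDegree_eq d2, Blocks.charDegree_eq d3] at hord
  have hD : ((x₁ : ℚ) + a χ₁) * ((x₂ : ℚ) + a χ₂) * ((x₃ : ℚ) + a χ₃) ≠ 0 := by
    intro h
    rw [h, div_zero, mul_zero, zero_mul, zero_div] at hord
    have : (0 : ℚ) < Nat.card X := by exact_mod_cast Nat.card_pos
    linarith
  obtain ⟨⟨n1, n2⟩, n3⟩ := (mul_ne_zero_iff.1 hD).imp_left mul_ne_zero_iff.1
  obtain ⟨hlo, hhi⟩ := klein_bounds o1 o2 o3 heps.1 heps.2.1 heps.2.2 hrel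
    (fun e => n1 (by exact_mod_cast e)) (fun e => n2 (by exact_mod_cast e))
    (fun e => n3 (by exact_mod_cast e))
  exact ⟨_, hlo, hhi, hord⟩

omit D in
theorem card_centralizer_eq {L : Subgroup X} (s : Set L) {w : X}
    (hw : w ∈ ((↑) '' s : Set X)) (hC : centralizer ({w} : Set X) ≤ L) :
    Nat.card (centralizer s) = Nat.card (centralizer ((↑) '' s : Set X)) := by
  refine Nat.card_congr
    { toFun := fun x => ⟨(x : L), mem_centralizer_iff.2 ?_⟩
      invFun := fun x => ⟨⟨x, hC (Subgroup.centralizer_le (Set.singleton_subset_iff.2 hw) x.2)⟩,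
        mem_centralizer_iff.2 fun y hy => Subtype.ext (mem_centralizer_iff.1 x.2 _ ⟨y, hy, rfl⟩)⟩
      left_inv := fun x => rfl
      right_inv := fun x => rfl }
  rintro _ ⟨y, hy, rfl⟩
  exact congrArg Subtype.val (mem_centralizer_iff.1 x.2 y hy)

/-- A subgroup containing the centraliser of `v`, with one class of involutions, has index at
most five. -/
theorem index_le_five [Finite X] (hone : ∀ x : X, orderOf x = 2 → IsConj v x) {L : Subgroup X}
    (hC : centralizer ({v} : Set X) ≤ L)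
    (honeL : ∀ x ∈ L, orderOf x = 2 → ∃ l ∈ L, l * x * l⁻¹ = v) : L.index ≤ 5 := by
  have hPL : (P : Subgroup X) ≤ L := D.le_centralizer.trans hC
  have hvL := hPL D.mem
  have D' := D.inr hPL
  have hone' : ∀ x : L, orderOf x = 2 → IsConj (⟨v, hvL⟩ : L) x := by
    intro x hx
    obtain ⟨l, hl, e⟩ := honeL x x.2 (by rwa [orderOf_coe])
    exact (isConj_iff.2 ⟨⟨l, hl⟩, Subtype.ext e⟩ : IsConj x ⟨v, hvL⟩).symm
  have hidx := L.card_mul_index
  suffices h : ∃ a b Q : ℚ, 3 / 8 ≤ a ∧ a ≤ 15 / 8 ∧ 3 / 8 ≤ b ∧ b ≤ 15 / 8 ∧ 0 < Q ∧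
      (Nat.card X : ℚ) = a * Q ∧ (Nat.card L : ℚ) = b * Q by
    obtain ⟨a, b, Q, -, ha, hb, -, hQ, hX, hL⟩ := h
    have h1 : (L.index : ℚ) * (b * Q) = a * Q := by
      rw [← hX, ← hL, ← hidx]; push_cast; ring
    have h2 : (L.index : ℚ) * b = a := by
      have := mul_right_cancel₀ hQ.ne' ((mul_assoc _ _ _).trans h1)
      exact this
    have h3 : (L.index : ℚ) ≤ 5 := by nlinarith
    exact_mod_cast h3
  rcases Nat.lt_or_ge k 2 with hk | hk
  · have hk1 : k = 1 := by have := D.pos; omega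
    obtain ⟨a, a1, a2, hX⟩ := D.order_klein hk1 hone
    obtain ⟨b, b1, b2, hL⟩ := D'.order_klein hk1 hone'
    rw [card_centralizer_eq ({(⟨v, hvL⟩ : L)} : Set L) (w := v) (by simp) hC, Set.image_singleton] at hL
    rw [card_centralizer_eq ((P.subtype hPL : Subgroup L) : Set L) (w := v)
      ⟨⟨v, hvL⟩, D.mem, rfl⟩ hC, show ((↑) '' ((P.subtype hPL : Subgroup L) : Set L) : Set X) =
        ((P : Subgroup X) : Set X) from by
        rw [Sylow.coe_subtype]; ext x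
        exact ⟨fun ⟨y, hy, e⟩ => e ▸ hy, fun hx => ⟨⟨x, hPL hx⟩, hx, rfl⟩⟩] at hL
    refine ⟨a, b, 8 * (Nat.card (centralizer ({v} : Set X)) : ℚ) ^ 3 /
      (Nat.card (centralizer ((P : Subgroup X) : Set X)) : ℚ) ^ 2, a1, a2, b1, b2, ?_, ?_, ?_⟩
    · have := Nat.card_pos (α := centralizer ({v} : Set X))
      have := Nat.card_pos (α := centralizer ((P : Subgroup X) : Set X))
      positivity
    · rw [hX]; ring
    · rw [hL]; ring
  · obtain ⟨a, a1, a2, hX⟩ := D.order_dihedral hk hone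
    obtain ⟨b, b1, b2, hL⟩ := D'.order_dihedral hk hone'
    rw [card_centralizer_eq ({(⟨v, hvL⟩ : L)} : Set L) (w := v) (by simp) hC, Set.image_singleton,
      card_centralizer_eq ({⟨v, hvL⟩, ⟨τ, hPL D.τ_mem⟩} : Set L) (w := v) (by simp) hC, Set.image_pair,
      card_centralizer_eq
        ({⟨v, hvL⟩, (⟨σ, hPL D.σ_mem⟩ : L) * (⟨τ, hPL D.τ_mem⟩ : L)} : Set L) (w := v) (by simp) hC,
      Set.image_pair] at hL
    refine ⟨a, b, 2 * (Nat.card (centralizer ({v} : Set X)) : ℚ) ^ 3 *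
      (1 / (Nat.card (centralizer ({v, τ} : Set X)) : ℚ) +
        1 / (Nat.card (centralizer ({v, σ * τ} : Set X)) : ℚ)) ^ 2, a1, a2, b1, b2, ?_, ?_, ?_⟩
    · have := Nat.card_pos (α := centralizer ({v} : Set X))
      have := Nat.card_pos (α := centralizer ({v, τ} : Set X))
      have := Nat.card_pos (α := centralizer ({v, σ * τ} : Set X))
      positivity
    · rw [hX]; ring
    · rw [hL]; push_cast; ring

end DihAt

end Cfsg.Agent.DGroupPSL
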