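import Cfsg.Agent.DGroupPSL.Basic
import Mathlib.LinearAlgebra.Matrix.GeneralLinearGroup.Projective
import Mathlib.LinearAlgebra.Matrix.GeneralLinearGroup.Defs
import Mathlib.FieldTheory.Finite.Basic

/-!
# Involution centralisers in `PGL(2, q)`, `q` odd
-/

set_option autoImplicit false

namespace Cfsg.Agent.DGroupPSL

open Matrix

namespace Pgl2

variable {F : Type*} [Field F]

/-- A two by two matrix is scalar. -/
def IsScal (M : Matrix (Fin 2) (Fin 2) F) : Prop := M 0 1 = 0 ∧ M 1 0 = 0 ∧ M 0 0 = M 1 1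

theorem trace_eq_zero_of_sq {M : Matrix (Fin 2) (Fin 2) F} {c : F} (h : M * M = c • 1)
    (hM : ¬ IsScal M) : M 0 0 + M 1 1 = 0 := by
  have e00 := congrFun (congrFun h 0) 0
  have e01 := congrFun (congrFun h 0) 1
  have e10 := congrFun (congrFun h 1) 0
  have e11 := congrFun (congrFun h 1) 1
  simp [Matrix.mul_apply, Fin.sum_univ_two] at e00 e01 e10 e11
  by_contra ht
  apply hM
  have h01 : M 0 1 * (M 0 0 + M 1 1) = 0 := by linear_combination e01
  have h10 : M 1 0 * (M 0 0 + M 1 1) = 0 := by linear_combination e10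
  have h00 : (M 0 0 - M 1 1) * (M 0 0 + M 1 1) = 0 := by linear_combination e00 - e11
  exact ⟨(mul_eq_zero.1 h01).resolve_right ht, (mul_eq_zero.1 h10).resolve_right ht,
    sub_eq_zero.1 ((mul_eq_zero.1 h00).resolve_right ht)⟩

theorem sq_eq_smul_of_trace {T : Matrix (Fin 2) (Fin 2) F} (h : T 0 0 + T 1 1 = 0) :
    T * T = (T 0 0 * T 0 0 + T 0 1 * T 1 0) • (1 : Matrix (Fin 2) (Fin 2) F) := by
  have h' : T 1 1 = -T 0 0 := by linear_combination h
  ext i j
  fin_cases i <;> fin_cases j <;> simp [Matrix.mul_apply, Fin.sum_univ_two, h'] <;> ring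

theorem comm_of_comm_nonscalar {T A B : Matrix (Fin 2) (Fin 2) F} (hT : ¬ IsScal T)
    (hA : A * T = T * A) (hB : B * T = T * B) : A * B = B * A := by
  have a0 := congrFun (congrFun hA 0) 0
  have a1 := congrFun (congrFun hA 0) 1
  have a2 := congrFun (congrFun hA 1) 0
  have b0 := congrFun (congrFun hB 0) 0
  have b1 := congrFun (congrFun hB 0) 1
  have b2 := congrFun (congrFun hB 1) 0
  simp [Matrix.mul_apply, Fin.sum_univ_two] at a0 a1 a2 b0 b1 b2
  suffices h : A 0 1 * B 1 0 = A 1 0 * B 0 1 ∧ (A 0 0 - A 1 1) * B 0 1 = A 0 1 * (B 0 0 - B 1 1) ∧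
      (A 0 0 - A 1 1) * B 1 0 = A 1 0 * (B 0 0 - B 1 1) by
    obtain ⟨h1, h2, h3⟩ := h
    ext i j
    fin_cases i <;> fin_cases j <;> simp [Matrix.mul_apply, Fin.sum_univ_two]
    · linear_combination h1
    · linear_combination h2
    · linear_combination -h3
    · linear_combination -h1
  by_cases hb : T 0 1 = 0
  · by_cases hc : T 1 0 = 0
    · have hd : T 0 0 - T 1 1 ≠ 0 := fun h => hT ⟨hb, hc, sub_eq_zero.1 h⟩
      have x1 : A 0 1 = 0 := (mul_eq_zero.1 (show A 0 1 * (T 0 0 - T 1 1) = 0 by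
        linear_combination -a1 + (A 0 0 - A 1 1) * hb)).resolve_right hd
      have x2 : A 1 0 = 0 := (mul_eq_zero.1 (show A 1 0 * (T 0 0 - T 1 1) = 0 by
        linear_combination a2 + (A 0 0 - A 1 1) * hc)).resolve_right hd
      have y1 : B 0 1 = 0 := (mul_eq_zero.1 (show B 0 1 * (T 0 0 - T 1 1) = 0 by
        linear_combination -b1 + (B 0 0 - B 1 1) * hb)).resolve_right hd
      have y2 : B 1 0 = 0 := (mul_eq_zero.1 (show B 1 0 * (T 0 0 - T 1 1) = 0 by
        linear_combination b2 + (B 0 0 - B 1 1) * hc)).resolve_right hd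
      simp [x1, x2, y1, y2]
    · refine ⟨?_, ?_, ?_⟩ <;> apply mul_left_cancel₀ hc
      · linear_combination B 1 0 * a0 - A 1 0 * b0
      · linear_combination (A 0 0 - A 1 1) * b0 - (B 0 0 - B 1 1) * a0 +
          ((A 0 0 - A 1 1) * B 1 0 - (B 0 0 - B 1 1) * A 1 0) * hb
      · linear_combination A 1 0 * b2 - B 1 0 * a2
  · have h1 : A 0 1 * B 1 0 = A 1 0 * B 0 1 := by
      apply mul_left_cancel₀ hb
      linear_combination B 0 1 * a0 - A 0 1 * b0
    refine ⟨h1, ?_, ?_⟩ <;> apply mul_left_cancel₀ hb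
    · linear_combination B 0 1 * a1 - A 0 1 * b1
    · linear_combination B 1 0 * a1 - A 1 0 * b1 + (T 0 0 - T 1 1) * h1

theorem two_ne_zero' [Fintype F] (hodd : Odd (Fintype.card F)) : (2 : F) ≠ 0 := by
  intro h0
  have : ringChar F = 2 := (Nat.prime_two.eq_one_or_self_of_dvd _
    ((ringChar.spec F 2).1 (by exact_mod_cast h0))).resolve_left (CharP.ringChar_ne_one (R := F))
  exact (Nat.not_even_iff_odd.2 hodd) (Nat.even_iff.2 (FiniteField.even_card_iff_char_two.1 this))

theorem isScal_iff {M : GL (Fin 2) F} : IsScal (M : Matrix (Fin 2) (Fin 2) F) ↔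
    ProjGenLinGroup.mk M = 1 := by
  rw [ProjGenLinGroup.mk_eq_one, GeneralLinearGroup.center_eq_range_scalar, MonoidHom.mem_range]
  constructor
  · rintro ⟨h1, h2, h3⟩
    have hne : (M : Matrix (Fin 2) (Fin 2) F) 0 0 ≠ 0 := by
      intro h
      have hd := M.det_ne_zero
      rw [Matrix.det_fin_two, h, h1] at hd
      simp at hd
    refine ⟨Units.mk0 _ hne, Units.ext ?_⟩
    ext i j
    fin_cases i <;> fin_cases j <;> simp [GeneralLinearGroup.coe_scalar, h1, h2, h3]
  · rintro ⟨u, rfl⟩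
    simp [IsScal, GeneralLinearGroup.coe_scalar]

theorem smul_of_mk_eq {A B : GL (Fin 2) F} (h : ProjGenLinGroup.mk A = ProjGenLinGroup.mk B) :
    ∃ r : F, r ≠ 0 ∧ (B : Matrix (Fin 2) (Fin 2) F) = r • (A : Matrix (Fin 2) (Fin 2) F) := by
  obtain ⟨u, hu⟩ := ProjGenLinGroup.mk_eq_mk_iff.1 h
  refine ⟨u, u.ne_zero, ?_⟩
  rw [← hu, Units.val_mul, GeneralLinearGroup.coe_scalar]
  ext i j
  fin_cases i <;> fin_cases j <;> simp [Matrix.mul_apply, Fin.sum_univ_two, mul_comm]

theorem mk_eq_of_smul {A B : GL (Fin 2) F} {r : F} (hr : r ≠ 0)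
    (h : (B : Matrix (Fin 2) (Fin 2) F) = r • (A : Matrix (Fin 2) (Fin 2) F)) :
    ProjGenLinGroup.mk A = ProjGenLinGroup.mk B := by
  refine ProjGenLinGroup.mk_eq_mk_iff.2 ⟨Units.mk0 r hr, Units.ext ?_⟩
  rw [Units.val_mul, GeneralLinearGroup.coe_scalar, h]
  ext i j
  fin_cases i <;> fin_cases j <;> simp [Matrix.mul_apply, Fin.sum_univ_two, mul_comm]

/-- Commuting classes come from commuting or anticommuting matrices. -/
theorem comm_or_anti {A B : GL (Fin 2) F}
    (h : Commute (ProjGenLinGroup.mk A) (ProjGenLinGroup.mk B)) :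
    (A : Matrix (Fin 2) (Fin 2) F) * B = B * A ∨
      (A : Matrix (Fin 2) (Fin 2) F) * B = -((B : Matrix (Fin 2) (Fin 2) F) * A) := by
  have h1 : ProjGenLinGroup.mk (B * A) = ProjGenLinGroup.mk (A * B) := by
    rw [map_mul, map_mul]; exact h.symm.eq
  obtain ⟨r, -, hr⟩ := smul_of_mk_eq h1
  rw [Units.val_mul, Units.val_mul] at hr
  have hd := congrArg Matrix.det hr
  rw [Matrix.det_smul, Matrix.det_mul, Matrix.det_mul, Fintype.card_fin] at hd
  have hne : (A : Matrix (Fin 2) (Fin 2) F).det * (B : Matrix (Fin 2) (Fin 2) F).det ≠ 0 :=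
    mul_ne_zero A.det_ne_zero B.det_ne_zero
  have hr2 : r * r = 1 := mul_right_cancel₀ hne (by linear_combination -hd)
  rcases mul_self_eq_one_iff.1 hr2 with e | e
  · left; rw [hr, e, one_smul]
  · right; rw [hr, e, neg_smul, one_smul]

theorem trace_zero_of_anti {M T : GL (Fin 2) F} (h2 : (2 : F) ≠ 0)
    (h : (T : Matrix (Fin 2) (Fin 2) F) * M = -((M : Matrix (Fin 2) (Fin 2) F) * T)) :
    (T : Matrix (Fin 2) (Fin 2) F) 0 0 + (T : Matrix (Fin 2) (Fin 2) F) 1 1 = 0 := by
  have h1 : (M : Matrix (Fin 2) (Fin 2) F) * T * ((M⁻¹ : GL (Fin 2) F) : Matrix (Fin 2) (Fin 2) F) =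
      -(T : Matrix (Fin 2) (Fin 2) F) := by
    rw [eq_neg_iff_add_eq_zero.2 (show (M : Matrix (Fin 2) (Fin 2) F) * T + T * M = 0 by
      rw [h]; abel), Matrix.neg_mul, Matrix.mul_assoc, Units.mul_inv, Matrix.mul_one]
  have h3 := congrArg Matrix.trace h1
  rw [Matrix.trace_units_conj, Matrix.trace_neg, Matrix.trace_fin_two] at h3
  exact (mul_eq_zero.1 (show (2 : F) * _ = 0 by linear_combination h3)).resolve_left h2

theorem mk_mul_self_of_trace {T : GL (Fin 2) F}
    (h : (T : Matrix (Fin 2) (Fin 2) F) 0 0 + (T : Matrix (Fin 2) (Fin 2) F) 1 1 = 0) :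
    ProjGenLinGroup.mk T * ProjGenLinGroup.mk T = 1 := by
  rw [← map_mul]
  refine isScal_iff.1 ?_
  rw [Units.val_mul, sq_eq_smul_of_trace h]
  simp [IsScal]

theorem lift_involution {x : ProjGenLinGroup (Fin 2) F} (hx : orderOf x = 2) :
    ∃ M : GL (Fin 2) F, ProjGenLinGroup.mk M = x ∧ ¬ IsScal (M : Matrix (Fin 2) (Fin 2) F) ∧
      (M : Matrix (Fin 2) (Fin 2) F) 0 0 + (M : Matrix (Fin 2) (Fin 2) F) 1 1 = 0 := by
  obtain ⟨M, rfl⟩ := ProjGenLinGroup.mk_surjective x
  have h1 : ¬ IsScal (M : Matrix (Fin 2) (Fin 2) F) := fun h => by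
    rw [isScal_iff.1 h, orderOf_one] at hx; omega
  have h2 : IsScal ((M * M : GL (Fin 2) F) : Matrix (Fin 2) (Fin 2) F) := by
    rw [isScal_iff, map_mul]; exact inv2_mul_self hx
  rw [Units.val_mul] at h2
  refine ⟨M, rfl, h1, trace_eq_zero_of_sq
    (c := ((M : Matrix (Fin 2) (Fin 2) F) * (M : Matrix (Fin 2) (Fin 2) F)) 0 0) ?_ h1⟩
  obtain ⟨e1, e2, e3⟩ := h2
  ext i j
  fin_cases i <;> fin_cases j <;> simp [e1, e2, ← e3]

end Pgl2

open Pgl2

/-- In `PGL(2, q)` the centraliser of an odd element centralising an involution centralises it. -/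
theorem isTI_pgl2 (F : Type) [Field F] [Fintype F] (hodd : Odd (Fintype.card F))
    (_hq : 3 < Fintype.card F) : IsTI (Matrix.ProjGenLinGroup (Fin 2) F) := by
  intro v τ g hv ho hne hc hg
  obtain ⟨M, rfl, hM1, -⟩ := lift_involution hv
  obtain ⟨T, rfl⟩ := ProjGenLinGroup.mk_surjective τ
  obtain ⟨A, rfl⟩ := ProjGenLinGroup.mk_surjective g
  have h2 := two_ne_zero' hodd
  have htr : (T : Matrix (Fin 2) (Fin 2) F) 0 0 + (T : Matrix (Fin 2) (Fin 2) F) 1 1 ≠ 0 := fun h =>
    hne (eq_one_of_sq ho (mk_mul_self_of_trace h))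
  have hTM : (T : Matrix (Fin 2) (Fin 2) F) * M = M * T :=
    (comm_or_anti hc).resolve_right fun h => htr (trace_zero_of_anti h2 h)
  have hAT : (A : Matrix (Fin 2) (Fin 2) F) * T = T * A :=
    (comm_or_anti hg).resolve_right fun h => htr (trace_zero_of_anti h2 (by rw [h, neg_neg]))
  have hT : ¬ IsScal (T : Matrix (Fin 2) (Fin 2) F) := fun h => hne (isScal_iff.1 h)
  have h := comm_of_comm_nonscalar hT hAT hTM.symm
  show ProjGenLinGroup.mk A * ProjGenLinGroup.mk M = ProjGenLinGroup.mk M * ProjGenLinGroup.mk A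
  rw [← map_mul, ← map_mul]
  congr 1
  exact Units.ext (by rw [Units.val_mul, Units.val_mul]; exact h)

/-- Involution centralisers in `PGL(2, q)` have at least five elements. -/
theorem five_le_centralizer_pgl2 (F : Type) [Field F] [Fintype F] (hodd : Odd (Fintype.card F))
    (hq : 3 < Fintype.card F) :
    ∀ x : Matrix.ProjGenLinGroup (Fin 2) F, orderOf x = 2 →
      5 ≤ Nat.card (Subgroup.centralizer ({x} : Set (Matrix.ProjGenLinGroup (Fin 2) F))) := by
  classical
  intro x hx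
  obtain ⟨M, rfl, hM1, hMt⟩ := lift_involution hx
  have h2 := two_ne_zero' hodd
  set m := (M : Matrix (Fin 2) (Fin 2) F) with hm
  have hm11 : m 1 1 = -m 0 0 := by linear_combination hMt
  have hdet : ∀ s : F, (1 + s • m).det = 1 + s * s * m.det := by
    intro s
    simp [Matrix.det_fin_two, hm11]
    ring
  -- an element anticommuting with `M`
  obtain ⟨N, hN⟩ : ∃ N : GL (Fin 2) F,
      (N : Matrix (Fin 2) (Fin 2) F) * m = -(m * (N : Matrix (Fin 2) (Fin 2) F)) := by
    have mkN : ∀ p r t : F, -(p * p) - r * t ≠ 0 → 2 * m 0 0 * p + m 0 1 * t + m 1 0 * r = 0 →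
        ∃ N : GL (Fin 2) F,
          (N : Matrix (Fin 2) (Fin 2) F) * m = -(m * (N : Matrix (Fin 2) (Fin 2) F)) := by
      intro p r t hd he
      refine ⟨GeneralLinearGroup.mkOfDetNeZero !![p, r; t, -p]
        (by rw [Matrix.det_fin_two_of]; intro h; exact hd (by linear_combination h)), ?_⟩
      show !![p, r; t, -p] * m = -(m * !![p, r; t, -p])
      ext i j
      fin_cases i <;> fin_cases j <;> simp [Matrix.mul_apply, Fin.sum_univ_two, hm11] <;>
        first | ring1 | linear_combination he | linear_combination -he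
    by_cases hb : m 0 1 = 0
    · by_cases he : m 1 0 = 0
      · exact mkN 0 1 1 (by simp) (by rw [hb, he]; ring)
      · exact mkN (m 1 0) (-2 * m 0 0) 0 (by simp [he]) (by rw [hb]; ring)
    · by_cases he : m 1 0 = 0
      · exact mkN (m 0 1) 0 (-2 * m 0 0) (by simp [hb]) (by rw [he]; ring)
      · exact mkN 0 (m 0 1) (-m 1 0) (by simp [hb, he]) (by ring)
  let W : Finset F := Finset.univ.filter fun s => (1 + s • m).det ≠ 0
  have hW : Fintype.card F ≤ W.card + 2 := by
    have hc : (Finset.univ \ W).card ≤ 2 := by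
      rcases (Finset.univ \ W).eq_empty_or_nonempty with h | ⟨s₀, hs₀⟩
      · rw [h]; simp
      · refine le_trans (Finset.card_le_card (t := {s₀, -s₀}) ?_) (Finset.card_le_two)
        intro s hs
        simp [W] at hs hs₀
        rw [hdet] at hs hs₀
        have hd : m.det ≠ 0 := fun h => by rw [h] at hs; simp at hs
        have : s * s = s₀ * s₀ := mul_right_cancel₀ hd (by linear_combination hs - hs₀)
        rcases mul_self_eq_mul_self_iff.1 this with e | e <;> simp [e]
    have := Finset.card_sdiff_add_card_eq_card (Finset.subset_univ W)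
    rw [Finset.card_univ] at this
    omega
  have hcomm : ∀ A : GL (Fin 2) F, ((A : Matrix (Fin 2) (Fin 2) F) * m = m * A ∨
      (A : Matrix (Fin 2) (Fin 2) F) * m = -(m * (A : Matrix (Fin 2) (Fin 2) F))) →
      ProjGenLinGroup.mk A ∈
        Subgroup.centralizer ({ProjGenLinGroup.mk M} : Set (ProjGenLinGroup (Fin 2) F)) := by
    intro A hA
    refine Subgroup.mem_centralizer_singleton_iff.2 ?_
    rw [← map_mul, ← map_mul]
    rcases hA with h | h
    · congr 1
      exact Units.ext (by rw [Units.val_mul, Units.val_mul]; exact h)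
    · refine (mk_eq_of_smul (neg_ne_zero.2 one_ne_zero) ?_)
      rw [Units.val_mul, Units.val_mul, neg_smul, one_smul]
      rw [h, neg_neg]
  let u : ↥W → GL (Fin 2) F := fun s =>
    GeneralLinearGroup.mkOfDetNeZero (1 + (s : F) • m) (Finset.mem_filter.1 s.2).2
  have huv : ∀ s : ↥W, ((u s : GL (Fin 2) F) : Matrix (Fin 2) (Fin 2) F) = 1 + (s : F) • m :=
    fun s => rfl
  let z : ↥W ⊕ Bool → GL (Fin 2) F := Sum.elim u fun b => if b then M else N
  have hz : ∀ w, ((z w : Matrix (Fin 2) (Fin 2) F) * m = m * z w ∨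
      (z w : Matrix (Fin 2) (Fin 2) F) * m = -(m * (z w : Matrix (Fin 2) (Fin 2) F))) := by
    rintro (s | _ | _)
    · left
      show (1 + (s : F) • m) * m = m * (1 + (s : F) • m)
      rw [Matrix.add_mul, Matrix.mul_add, Matrix.one_mul, Matrix.mul_one, Matrix.smul_mul,
        Matrix.mul_smul]
    · exact Or.inr hN
    · exact Or.inl rfl
  let f : ↥W ⊕ Bool → ↥(Subgroup.centralizer
      ({ProjGenLinGroup.mk M} : Set (ProjGenLinGroup (Fin 2) F))) :=
    fun w => ⟨ProjGenLinGroup.mk (z w), hcomm _ (hz w)⟩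
  -- elements commuting with `m` are not proportional to `N`
  have hsep : ∀ A : GL (Fin 2) F, (A : Matrix (Fin 2) (Fin 2) F) * m = m * A →
      ProjGenLinGroup.mk A ≠ ProjGenLinGroup.mk N := by
    intro A hA h
    obtain ⟨r, -, hr⟩ := smul_of_mk_eq h
    have h3 : (N : Matrix (Fin 2) (Fin 2) F) * m = m * N := by
      rw [hr, Matrix.smul_mul, Matrix.mul_smul, hA]
    have h4 : (2 : F) • (m * (N : Matrix (Fin 2) (Fin 2) F)) = 0 := by
      rw [two_smul]; nth_rw 1 [← h3]; rw [hN, neg_add_cancel]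
    have h5 := (smul_eq_zero.1 h4).resolve_left h2
    have h6 := congrArg Matrix.det h5
    rw [Matrix.det_mul, Matrix.det_zero] at h6
    exact mul_ne_zero M.det_ne_zero N.det_ne_zero h6
  have hoff : ¬ (m 0 1 = 0 ∧ m 1 0 = 0 ∧ m 0 0 = m 1 1) := hM1
  have hline : ∀ a b : F, a • (1 : Matrix (Fin 2) (Fin 2) F) + b • m = 0 → a = 0 ∧ b = 0 := by
    intro a b h
    have e00 := congrFun (congrFun h 0) 0
    have e01 := congrFun (congrFun h 0) 1
    have e10 := congrFun (congrFun h 1) 0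
    have e11 := congrFun (congrFun h 1) 1
    simp at e00 e01 e10 e11
    have hb : b = 0 := by
      by_contra hb
      exact hoff ⟨e01.resolve_left hb, e10.resolve_left hb,
        mul_left_cancel₀ hb (by linear_combination e00 - e11)⟩
    exact ⟨by rw [hb] at e00; simpa using e00, hb⟩
  have hMu : ∀ s : ↥W, ProjGenLinGroup.mk (u s) ≠ ProjGenLinGroup.mk M := by
    intro s h
    obtain ⟨r, hr0, hr⟩ := smul_of_mk_eq h
    rw [huv, smul_add, smul_smul] at hr
    exact hr0 (hline r (r * (s : F) - 1) (by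
      rw [sub_smul, one_smul]
      calc r • (1 : Matrix (Fin 2) (Fin 2) F) + ((r * (s : F)) • m - m)
          = (r • 1 + (r * (s : F)) • m) - m := by abel
        _ = 0 := sub_eq_zero.2 hr.symm)).1
  have hcu : ∀ s : ↥W, (u s : Matrix (Fin 2) (Fin 2) F) * m = m * u s := fun s => by
    rw [huv, Matrix.add_mul, Matrix.mul_add, Matrix.one_mul, Matrix.mul_one, Matrix.smul_mul,
      Matrix.mul_smul]
  have hf : Function.Injective f := by
    intro w w' h
    have h' : ProjGenLinGroup.mk (z w) = ProjGenLinGroup.mk (z w') := congrArg Subtype.val h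
    rcases w with s | _ | _ <;> rcases w' with s' | _ | _
    · obtain ⟨r, -, hr⟩ := smul_of_mk_eq h'
      change (1 + (s' : F) • m) = r • (1 + (s : F) • m) at hr
      rw [smul_add, smul_smul] at hr
      obtain ⟨h1, h3⟩ := hline (r - 1) (r * (s : F) - (s' : F))
        (by rw [sub_smul, sub_smul, one_smul]
            calc r • (1 : Matrix (Fin 2) (Fin 2) F) - 1 + ((r * (s : F)) • m - (s' : F) • m)
                = (r • 1 + (r * (s : F)) • m) - (1 + (s' : F) • m) := by abel
              _ = 0 := sub_eq_zero.2 hr.symm)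
      rw [sub_eq_zero] at h1
      rw [h1, one_mul, sub_eq_zero] at h3
      exact congrArg Sum.inl (Subtype.ext h3)
    · exact absurd h' (hsep _ (hcu s))
    · exact absurd h' (hMu s)
    · exact absurd h'.symm (hsep _ (hcu s'))
    · rfl
    · exact absurd h'.symm (hsep _ rfl)
    · exact absurd h'.symm (hMu s')
    · exact absurd h' (hsep _ rfl)
    · rfl
  haveI : Finite (ProjGenLinGroup (Fin 2) F) :=
    Finite.of_surjective _ ProjGenLinGroup.mk_surjective
  have := Nat.card_le_card_of_injective f hf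
  rw [Nat.card_eq_fintype_card, Fintype.card_sum, Fintype.card_bool, Fintype.card_coe] at this
  have hq5 : 5 ≤ Fintype.card F := by
    obtain ⟨k, hk⟩ := hodd
    omega
  omega

end Cfsg.Agent.DGroupPSL
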