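import Cfsg.Prelude.Def_CaseTheorems
import Mathlib.GroupTheory.SpecificGroups.Alternating
import Mathlib.GroupTheory.Solvable

/-!
# A simple group with a proper subgroup of index at most five
-/

set_option autoImplicit false

namespace Cfsg.Agent.DGroupPSL

universe u

/-- In the alternating group of degree five an element commuting with an involution has square one. -/
theorem sq_eq_one_of_commute_a5 : ∀ v : Equiv.Perm (Fin 5), v * v = 1 → v ≠ 1 →
    Equiv.Perm.sign v = 1 → ∀ τ : Equiv.Perm (Fin 5), v * τ = τ * v → Equiv.Perm.sign τ = 1 →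
      τ * τ = 1 := by
  decide +kernel

/-- A simple group with a proper subgroup of index at most five has no odd element other than
the identity commuting with an involution. -/
theorem odd_eq_one_of_index_le_five {G : Type u} [Group G] [Finite G] [IsSimpleGroup G]
    (hns : ¬ Group.IsSolvable G) (L : Subgroup G) (hL : L ≠ ⊤) (hi : L.index ≤ 5) {v τ : G}
    (hv : orderOf v = 2) (ho : Odd (orderOf τ)) (hc : Commute τ v) : τ = 1 := by
  classical
  haveI := Fintype.ofFinite (G ⧸ L)
  let f : G →* Equiv.Perm (G ⧸ L) := MulAction.toPermHom G (G ⧸ L)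
  have hker : f.ker = L.normalCore := L.normalCore_eq_ker.symm
  have hcore : L.normalCore = ⊥ := by
    rcases IsSimpleGroup.eq_bot_or_eq_top_of_normal L.normalCore inferInstance with h | h
    · exact h
    · exact absurd (top_le_iff.1 (h ▸ L.normalCore_le)) hL
  have hf : Function.Injective f := (MonoidHom.ker_eq_bot_iff f).1 (hker.trans hcore)
  have hn : Fintype.card (G ⧸ L) ≤ Fintype.card (Fin 5) := by
    rw [← Nat.card_eq_fintype_card, Fintype.card_fin]; exact hi
  obtain ⟨i⟩ := Function.Embedding.nonempty_of_card_le hn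
  let ψ : G →* Equiv.Perm (Fin 5) := (Equiv.Perm.viaEmbeddingHom i).comp f
  have hψ : Function.Injective ψ := (Equiv.Perm.viaEmbeddingHom_injective i).comp hf
  have hsign : ∀ g : G, Equiv.Perm.sign (ψ g) = 1 := by
    intro g
    by_contra hg
    apply hns
    let s : G →* ℤˣ := Equiv.Perm.sign.comp ψ
    rcases IsSimpleGroup.eq_bot_or_eq_top_of_normal s.ker inferInstance with h | h
    · exact solvable_of_solvable_injective ((MonoidHom.ker_eq_bot_iff s).1 h)
    · exact absurd (show g ∈ s.ker by rw [h]; trivial) hg
  have hv1 : v ≠ 1 := fun e => by rw [e, orderOf_one] at hv; omega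
  have hvv : v * v = 1 := by rw [← pow_two, ← hv, pow_orderOf_eq_one]
  have hsq := sq_eq_one_of_commute_a5 (ψ v) (by rw [← map_mul, hvv, map_one])
    (fun e => hv1 (hψ (e.trans (map_one ψ).symm))) (hsign v) (ψ τ)
    (by rw [← map_mul, ← map_mul, hc.eq]) (hsign τ)
  have hττ : τ * τ = 1 := hψ (by rw [map_mul, map_one]; exact hsq)
  have hd : orderOf τ ∣ 2 := orderOf_dvd_of_pow_eq_one (by rw [pow_two]; exact hττ)
  rcases (Nat.dvd_prime Nat.prime_two).1 hd with e | e
  · exact orderOf_eq_one_iff.1 e
  · rw [e] at ho; exact absurd ho (by decide)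

end Cfsg.Agent.DGroupPSL
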