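import Cfsg.Agent.DGroupPSL.Struct
import Cfsg.Agent.DGroupPSL.Small
import Cfsg.Agent.DGroupPSL.Pgl
import Cfsg.Agent.DGroupPSL.Ext
import Cfsg.Agent.BSWAbstract.Main
import Cfsg.Agent.BSWAbstract.Recognition
import Cfsg.Agent.Classical.A5InPSL
import Cfsg.Agent.Char.Integral

/-!
# Reduced groups with all involution centralisers shaped
-/

set_option autoImplicit false

namespace Cfsg.Agent.DGroupPSL

open Subgroup

universe u

/-- `X` is `PSL(2, q)` for an odd `q > 3`. -/
def IsPSL2 (X : Type u) [Group X] : Prop :=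
  ∃ (F : Type) (_ : Field F) (_ : Fintype F), Odd (Fintype.card F) ∧ 3 < Fintype.card F ∧
    Nonempty (X ≃* Matrix.ProjectiveSpecialLinearGroup (Fin 2) F)

/-- `X` is `PGL(2, q)` for an odd `q > 3`. -/
def IsPGL2 (X : Type u) [Group X] : Prop :=
  ∃ (F : Type) (_ : Field F) (_ : Fintype F), Odd (Fintype.card F) ∧ 3 < Fintype.card F ∧
    Nonempty (X ≃* Matrix.ProjGenLinGroup (Fin 2) F)

/-- The TI property passes through isomorphisms. -/
theorem IsTI.of_equiv {X : Type u} [Group X] {Y : Type*} [Group Y] (e : X ≃* Y)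
    (h : ∀ v τ g : Y, orderOf v = 2 → Odd (orderOf τ) → τ ≠ 1 → Commute τ v → Commute g τ → Commute g v) :
    IsTI X := fun v τ g hv ho h1 hc hg => by
  have := h (e v) (e τ) (e g) (by rwa [MulEquiv.orderOf_eq]) (by rwa [MulEquiv.orderOf_eq])
    (fun he => h1 (e.injective (he.trans (map_one e).symm))) (hc.map e) (hg.map e)
  exact e.injective (by rw [map_mul, map_mul]; exact this)

variable {X : Type u} [Group X] [Finite X]

theorem noOdd_mod_oddCore : NoOdd (X ⧸ Cfsg.oddCore X) := fun D hD hodd =>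
  le_bot_iff.1 ((Core.le_pPrimeCore hodd.coprime_two_right).trans
    (Core.pPrimeCore_quotient_eq_bot (p := 2) (G := X)).le)

/-- An odd normal subgroup is trivial also in a normal subgroup. -/
theorem NoOdd.of_normal (hO : NoOdd X) {M : Subgroup X} (hM : M.Normal) : NoOdd M := by
  intro D hD hodd
  have h : (Cfsg.oddCore M).map M.subtype = ⊥ := by
    rw [Cfsg.oddCore, Core.map_pPrimeCore_normal M, hO (Cfsg.pPrimeCore 2 X) inferInstance
      (Nat.coprime_two_right.1 Core.coprime_card_pPrimeCore), bot_inf_eq]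
  rw [map_eq_bot_iff_of_injective _ M.subtype_injective] at h
  exact le_bot_iff.1 ((Core.le_pPrimeCore hodd.coprime_two_right).trans h.le)

/-- The index two case. -/
theorem pgl_of_index_two' (hns : ¬ Group.IsSolvable X) {M : Subgroup X} [M.Normal] [IsSimpleGroup M]
    (hi : M.index = 2) (hr : ∃ r, r ∉ M ∧ r * r = 1) (hE : ∀ E : Subgroup X, Nat.card E = 8 → ∃ y ∈ E, y * y ≠ 1)
    (hcen : ∀ c : X, c ∉ M → orderOf c = 2 → (∀ x, Commute x c) → False) (hpsl : IsPSL2 M) : IsPGL2 X := by
  obtain ⟨F, _, _, hodd, hq, he⟩ := hpsl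
  refine ⟨F, _, _, hodd, hq, pgl2_of_index_two M hi F hodd hq he ?_ hr hE⟩
  set C := centralizer (M : Set X) with hC
  have hMns : ¬ Group.IsSolvable M := fun h => hns (by
    have : Group.IsSolvable (X ⧸ M) := by
      have : Fact (Nat.Prime 2) := ⟨Nat.prime_two⟩
      have := (IsPGroup.of_card (n := 1) (by rw [← Subgroup.index_eq_card, hi]; rfl) :
        IsPGroup 2 (X ⧸ M)).isNilpotent
      infer_instance
    exact Group.isSolvable_of_ker_le_range M.subtype (QuotientGroup.mk' M) (by simp))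
  have hdis : ∀ c ∈ C, c ∈ M → c = 1 := by
    intro c hc hcM
    rcases IsSimpleGroup.eq_bot_or_eq_top_of_normal (center M) inferInstance with h | h
    · have : (⟨c, hcM⟩ : M) ∈ center M := Subgroup.mem_center_iff.2 fun m =>
        Subtype.ext (Subgroup.mem_centralizer_iff.1 hc m m.2)
      rw [h, Subgroup.mem_bot] at this
      exact congrArg Subtype.val this
    · exact absurd (Group.isSolvable_of_comm fun a b =>
        (Subgroup.mem_center_iff.1 (h ▸ Subgroup.mem_top b) a)) hMns
  rw [Subgroup.eq_bot_iff_forall]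
  intro c hc
  by_contra hc1
  have hcM : c ∉ M := fun h => hc1 (hdis c hc h)
  have hmul := fun a b => Subgroup.mul_mem_iff_of_index_two hi (a := a) (b := b)
  have hcc : c * c = 1 := hdis _ (mul_mem hc hc) ((hmul c c).2 Iff.rfl)
  refine hcen c hcM (Invol.orderOf_eq_two_iff.2 ⟨hc1, hcc⟩) fun x => ?_
  by_cases hx : x ∈ M
  · exact Subgroup.mem_centralizer_iff.1 hc x hx
  · have hcx : c * x ∈ M := (hmul c x).2 (iff_of_false hcM hx)
    have h1 : Commute (c * x) c := Subgroup.mem_centralizer_iff.1 hc _ hcx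
    have h2 := ((Commute.refl c).inv_left).mul_left h1
    rwa [inv_mul_cancel_left] at h2

namespace Good

variable (hX : Good X)
include hX

omit [Finite X] in
/-- A central involution forces solvability. -/
theorem solvable_of_central {c : X} (hc : orderOf c = 2) (hcc : ∀ x, Commute x c) :
    Group.IsSolvable X := by
  obtain ⟨A, hA⟩ := hX c hc
  have hn : A.Normal := ⟨fun a ha x => by
    by_cases hx : x ∈ A
    · exact A.mul_mem (A.mul_mem hx ha) (A.inv_mem hx)
    · rw [hA.invert (hcc x) hx ha]; exact A.inv_mem ha⟩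
  have : Group.IsSolvable A := Group.isSolvable_of_comm fun a b => Subtype.ext (hA.comm _ a.2 _ b.2).eq
  have : Group.IsSolvable (X ⧸ A) := by
    refine Group.isSolvable_of_comm fun p q => ?_
    obtain ⟨x, rfl⟩ := QuotientGroup.mk_surjective p
    obtain ⟨y, rfl⟩ := QuotientGroup.mk_surjective q
    by_cases hx : x ∈ A
    · rw [(QuotientGroup.eq_one_iff x).2 hx, one_mul, mul_one]
    by_cases hy : y ∈ A
    · rw [(QuotientGroup.eq_one_iff y).2 hy, one_mul, mul_one]
    have e : ((x : X) : X ⧸ A) = (y : X ⧸ A) := QuotientGroup.eq.2 <| by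
      rw [inv_eq_of_mul_eq_one_right (hA.sq x (hcc x) hx)]
      exact hA.index_two x y (hcc x) (hcc y) hx hy
    rw [e]
  exact Group.isSolvable_of_ker_le_range A.subtype (QuotientGroup.mk' A) (by simp)

/-- No elementary abelian subgroup of order eight. -/
theorem exists_sq_ne_one (E : Subgroup X) (hE : Nat.card E = 8) : ∃ y ∈ E, y * y ≠ 1 := by
  classical
  by_contra hcon
  push Not at hcon
  have hfin := Fintype.ofFinite E
  have hcomm : ∀ x ∈ E, ∀ y ∈ E, Commute x y := fun x hx y hy => by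
    have h := hcon (x * y) (E.mul_mem hx hy)
    have hxi : x⁻¹ = x := inv_eq_of_mul_eq_one_right (hcon x hx)
    have hyi : y⁻¹ = y := inv_eq_of_mul_eq_one_right (hcon y hy)
    show x * y = y * x
    rw [eq_inv_of_mul_eq_one_right h, mul_inv_rev, hxi, hyi]
  have key : ∀ s : Finset E, s.card < 8 → ∃ y : E, y ∉ s := fun s hs => by
    by_contra h
    push Not at h
    have := Finset.eq_univ_iff_forall.2 h
    rw [this, Finset.card_univ, ← Nat.card_eq_fintype_card, hE] at hs
    omega
  obtain ⟨v, hv⟩ := key {1} (by simp)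
  obtain ⟨w, hw⟩ := key {1, v} (lt_of_le_of_lt Finset.card_le_two (by omega))
  simp only [Finset.mem_insert, Finset.mem_singleton, not_or] at hv hw
  obtain ⟨x, hx⟩ := key {1, v, w, v * w} (lt_of_le_of_lt Finset.card_le_four (by omega))
  simp only [Finset.mem_insert, Finset.mem_singleton, not_or] at hx
  have o : ∀ y : E, y ≠ 1 → orderOf (y : X) = 2 := fun y hy =>
    Invol.orderOf_eq_two_iff.2 ⟨fun e => hy (Subtype.ext e), hcon y y.2⟩
  rcases hX.four_cent (o v hv) (o w hw.1) (fun e => hw.2 (Subtype.ext e)) (hcomm _ w.2 _ v.2)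
    (hcomm _ x.2 _ v.2) (hcomm _ x.2 _ w.2) with e | e | e | e
  exacts [hx.1 (Subtype.ext e), hx.2.1 (Subtype.ext e), hx.2.2.1 (Subtype.ext e), hx.2.2.2 (Subtype.ext e)]

/-- Recognition of `PSL(2, q)` from the TI property. -/
theorem psl_of_isTI (hO : NoOdd X) (hns : ¬ Group.IsSolvable X)
    (hone : ∀ x y : X, orderOf x = 2 → orderOf y = 2 → IsConj x y) (hT : IsTI X) : IsPSL2 X := by
  have : Fact (Nat.Prime 2) := ⟨Nat.prime_two⟩
  have := hX.isSimpleGroup hone hO hns
  obtain ⟨P⟩ : Nonempty (Sylow 2 X) := inferInstance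
  have h2 : 2 ∣ Nat.card X := by
    by_contra h
    exact hns (S0205.result (Nat.odd_iff.2 (Nat.two_dvd_ne_zero.1 h)))
  obtain ⟨t, htP, ht, htc⟩ := exists_central_involution P h2
  obtain ⟨σ, s, k, D⟩ := hX.exists_dihAt hns P ht htP htc
  obtain ⟨A, hA⟩ := hX t ht
  have hst : Commute s t := D.commute_τ.symm
  have hsne : s ≠ t := fun e => D.τ_notMem (e ▸ D.val ▸ pow_mem (mem_zpowers σ) _)
  have hsA : s ∉ A := hA.other_notMem D.τ_ord hsne
  have H : BSWAbstract.Hyp t s A :=
    { ht := ht
      comm := fun a ha b hb => (hA.comm a ha b hb).eq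
      htK := hA.mem
      hs := D.τ_ord
      hsK := hsA
      hH := by
        refine le_antisymm (sup_le (fun a ha => mem_centralizer_singleton_iff.2 (hA.cent a ha).eq)
          (zpowers_le.2 (mem_centralizer_singleton_iff.2 hst.eq))) fun x hx => ?_
        have hxt : Commute x t := mem_centralizer_singleton_iff.1 hx
        by_cases hxA : x ∈ A
        · exact mem_sup_left hxA
        · have e : x = x * s * s := by rw [mul_assoc, inv2_mul_self D.τ_ord, mul_one]
          rw [e]
          exact mul_mem (mem_sup_left (hA.index_two x s hxt hst hxA hsA)) (mem_sup_right (mem_zpowers s))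
      hCK := by
        refine le_antisymm (fun a ha => ?_) (zpowers_le.2 ⟨hA.mem, mem_centralizer_singleton_iff.2 hst.symm.eq⟩)
        rcases hA.eq_of_commute D.τ_ord hsne hst ha.1 (mem_centralizer_singleton_iff.1 ha.2 :
          Commute a s).symm with e | e <;> rw [e]
        exacts [one_mem _, mem_zpowers t]
      hinv := fun x hx => hA.other_inverts D.τ_ord hsne hst hx
      hTI := fun g hg => by
        refine (Subgroup.eq_bot_iff_forall _).2 ?_
        rintro _ ⟨hxA, a, ha, rfl⟩
        by_contra hx1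
        refine hg (mem_centralizer_singleton_iff.2 ?_)
        have e : (MulAut.conj g).toMonoidHom a = g * a * g⁻¹ := rfl
        rw [e] at hxA hx1
        have ha1 : a ≠ 1 := fun h => hx1 (by rw [h, mul_one, mul_inv_cancel])
        by_cases ho : Odd (orderOf a)
        · exact (IsTI.commute_of_conj hX hT ht ho ha1 (hA.cent a ha) (hA.cent _ hxA) rfl).eq
        · have hd : 2 ∣ orderOf a := by
            rwa [← even_iff_two_dvd, ← Nat.not_odd_iff_even]
          set b := a ^ (orderOf a / 2) with hb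
          have hb2 : orderOf b = 2 := orderOf_pow_orderOf_div (orderOf_pos a).ne' hd
          have hbt : b = t := (hA.two _ (A.pow_mem ha _) (inv2_mul_self hb2)).resolve_left (inv2_ne_one hb2)
          have hc : g * b * g⁻¹ ∈ A := by rw [hb, ← conj_pow]; exact A.pow_mem hxA _
          have hc2 : orderOf (g * b * g⁻¹) = 2 := by rw [Invol.orderOf_conj, hb2]
          have := (hA.two _ hc (inv2_mul_self hc2)).resolve_left (inv2_ne_one hc2)
          rw [hbt] at this
          exact mul_inv_eq_iff_eq_mul.1 this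
      hconj := hone }
  have := Fintype.ofFinite X
  have hna : ¬ IsMulCommutative X := fun h => hns (Group.isSolvable_of_comm fun a b => h.is_comm.comm a b)
  obtain ⟨F, iF, iFt, hodd, ⟨e⟩⟩ := BSWAbstract.psl_of_concl hna (BSWAbstract.concl H)
  refine ⟨F, iF, iFt, hodd, ?_, ⟨e⟩⟩
  by_contra hlt
  have h3 : Fintype.card F = 3 := by
    have := Fintype.one_lt_card (α := F)
    obtain ⟨m, hm⟩ := hodd
    omega
  have hc := Classical.A5InPSL.card_psl (F := F)
  rw [h3, ← Nat.card_congr e.toEquiv] at hc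
  exact hns (Char.isSolvable_of_card_eq 2 3 Nat.prime_two Nat.prime_three _ X rfl
    ⟨2, 1, by norm_num at hc ⊢; omega⟩)

/-- The index two case. -/
theorem pgl_of_index_two (hns : ¬ Group.IsSolvable X) {M : Subgroup X} [M.Normal] [IsSimpleGroup M]
    (hi : M.index = 2) (hr : ∃ r, r ∉ M ∧ r * r = 1) (hpsl : IsPSL2 M) : IsPGL2 X :=
  pgl_of_index_two' hns hi hr hX.exists_sq_ne_one
    (fun _ _ hc hcc => hns (hX.solvable_of_central hc hcc)) hpsl

end Good

/-- The induction. -/
theorem Good.main_aux : ∀ (n : ℕ) (X : Type u) [Group X] [Finite X], Nat.card X = n → Good X → NoOdd X →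
    IsTI X ∧ (¬ Group.IsSolvable X →
      ((∀ x y : X, orderOf x = 2 → orderOf y = 2 → IsConj x y) → IsPSL2 X) ∧ (IsPSL2 X ∨ IsPGL2 X)) := by
  intro n
  induction n using Nat.strong_induction_on with
  | _ n ih =>
  intro X _ _ hn hX hO
  have : Fact (Nat.Prime 2) := ⟨Nat.prime_two⟩
  by_cases hs : Group.IsSolvable X
  · exact ⟨fun v τ g hv ho h1 hc _ => absurd (hX.eq_one_of_solvable hs hO hv ho hc) h1, fun h => absurd hs h⟩
  have h2 : 2 ∣ Nat.card X := by
    by_contra h
    exact hs (S0205.result (Nat.odd_iff.2 (Nat.two_dvd_ne_zero.1 h)))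
  obtain ⟨P⟩ : Nonempty (Sylow 2 X) := inferInstance
  obtain ⟨z, hzP, hz, hzc⟩ := exists_central_involution P h2
  obtain ⟨σ, τ₀, k, D⟩ := hX.exists_dihAt hs P hz hzP hzc
  by_cases hone : ∀ x y : X, orderOf x = 2 → orderOf y = 2 → IsConj x y
  · have := hX.isSimpleGroup hone hO hs
    have hfour : ∀ v : X, orderOf v = 2 → ∃ u, orderOf u = 2 ∧ u ≠ v ∧ Commute u v := by
      intro v hv
      obtain ⟨g, hg⟩ := isConj_iff.1 (hone z v hz hv)
      refine ⟨g * τ₀ * g⁻¹, by rw [Invol.orderOf_conj, D.τ_ord], fun e => D.τ_notMem ?_,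
        hg ▸ (Commute.conj_iff g).2 D.commute_τ.symm⟩
      rw [← hg] at e
      rw [mul_left_cancel (mul_right_cancel e), ← D.val]
      exact pow_mem (mem_zpowers σ) _
    have hC : Ctx X :=
      { good := hX
        ind := fun L hL => by
          have hlt : Nat.card (L ⧸ Cfsg.oddCore L) < n := by
            refine lt_of_le_of_lt (Nat.card_le_card_of_surjective _ QuotientGroup.mk_surjective) ?_
            rw [← hn]
            exact lt_of_le_of_ne (Nat.le_of_dvd Nat.card_pos L.card_subgroup_dvd_card)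
              (fun e => hL (Subgroup.eq_top_of_card_eq L e))
          exact (ih _ hlt (L ⧸ Cfsg.oddCore L) rfl (hX.subgroup L).mod_oddCore noOdd_mod_oddCore).1
        noOdd := hO
        auto := fun V hV v hv hv1 u hu hu1 => hX.auto hone hV hv hv1 hu hu1 }
    have hT : IsTI X := by
      by_contra hT
      obtain ⟨L, v, hv, hL, hCv, honeL⟩ := hC.exists_strong hone hfour hT
      obtain ⟨g, hg⟩ := isConj_iff.1 (hone v z hv hz)
      have hcl : ∀ a, a ∈ L.map (MulAut.conj g).toMonoidHom ↔ g⁻¹ * a * g ∈ L := fun a =>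
        ⟨fun ⟨b, hb, e⟩ => e ▸ by simpa [mul_assoc] using hb, fun h => ⟨_, h, by simp [mul_assoc]⟩⟩
      have hidx := D.index_le_five (L := L.map (MulAut.conj g).toMonoidHom) (fun x hx => hone z x hz hx)
        (fun x hx => (hcl x).2 (hCv (mem_centralizer_singleton_iff.2 (by
          have h0 := (Commute.conj_iff g⁻¹).2 (mem_centralizer_singleton_iff.1 hx : Commute x z)
          rw [← hg] at h0
          simpa [mul_assoc] using h0.eq))))
        (fun x hx hx2 => by
          obtain ⟨l, hl, e⟩ := honeL _ ((hcl x).1 hx) (by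
            have := Invol.orderOf_conj g⁻¹ x
            rwa [inv_inv, hx2] at this)
          refine ⟨g * l * g⁻¹, (hcl _).2 (by simpa [mul_assoc] using hl), ?_⟩
          rw [← hg, ← e]; group)
      rw [Subgroup.index_map_of_bijective (f := (MulAut.conj g).toMonoidHom) (MulAut.conj g).bijective] at hidx
      simp only [IsTI, not_forall] at hT
      obtain ⟨w, t, g', hw, hto, ht1, htw, -⟩ := hT
      exact ht1 (odd_eq_one_of_index_le_five hs L hL hidx hw hto htw)
    exact ⟨hT, fun _ => ⟨fun _ => hX.psl_of_isTI hO hs hone hT, Or.inl (hX.psl_of_isTI hO hs hone hT)⟩⟩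
  obtain ⟨ι, DD, hιz, -⟩ := D.ddata
  obtain ⟨M, hM, hMi, ⟨a, haM⟩, hzM, honeM⟩ := exists_one_class_index_two DD hs hone
  have hMcard : Nat.card M < n := by
    have := M.card_mul_index
    rw [hMi] at this
    have := Nat.card_pos (α := M)
    omega
  have hMns : ¬ Group.IsSolvable M := fun h => hs (by
    have : Group.IsSolvable (X ⧸ M) := by
      have := (IsPGroup.of_card (n := 1) (by rw [← Subgroup.index_eq_card, hMi]; rfl) :
        IsPGroup 2 (X ⧸ M)).isNilpotent
      infer_instance
    exact Group.isSolvable_of_ker_le_range M.subtype (QuotientGroup.mk' M) (by simp))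
  have hconjM : ∀ x y : M, orderOf x = 2 → orderOf y = 2 → IsConj x y := by
    intro x y hx hy
    have key : ∀ w : M, orderOf w = 2 → IsConj w ⟨_, hzM⟩ := fun w hw => by
      obtain ⟨g, hg, e⟩ := honeM w w.2 (by rwa [orderOf_coe])
      exact isConj_iff.2 ⟨⟨g, hg⟩, Subtype.ext e⟩
    exact (key x hx).trans (key y hy).symm
  have hpsl := ((ih _ hMcard M rfl (hX.subgroup M) (hO.of_normal hM)).2 hMns).1 hconjM
  have hr : ∃ r, r ∉ M ∧ r * r = 1 := ⟨_, haM, inv2_mul_self (DD.sr_order a)⟩
  have := (hX.subgroup M).isSimpleGroup hconjM (hO.of_normal hM) hMns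
  have hpgl := hX.pgl_of_index_two hs hMi hr hpsl
  refine ⟨?_, fun _ => ⟨fun h => absurd h hone, Or.inr hpgl⟩⟩
  obtain ⟨F, _, _, hodd, hq, ⟨e⟩⟩ := hpgl
  exact IsTI.of_equiv e (isTI_pgl2 F hodd hq)

variable {X : Type u} [Group X] [Finite X]

theorem Good.isTI (hX : Good X) (hO : NoOdd X) : IsTI X := (Good.main_aux _ X rfl hX hO).1

theorem Good.psl (hX : Good X) (hO : NoOdd X) (hns : ¬ Group.IsSolvable X)
    (hone : ∀ x y : X, orderOf x = 2 → orderOf y = 2 → IsConj x y) : IsPSL2 X :=
  ((Good.main_aux _ X rfl hX hO).2 hns).1 hone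

theorem Good.psl_or_pgl (hX : Good X) (hO : NoOdd X) (hns : ¬ Group.IsSolvable X) :
    IsPSL2 X ∨ IsPGL2 X :=
  ((Good.main_aux _ X rfl hX hO).2 hns).2

end Cfsg.Agent.DGroupPSL
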