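import Cfsg.Agent.DGroupPSL.Four
import Cfsg.Agent.HSub.Basic

/-!
# Subgroups of odd elements
-/

set_option autoImplicit false

namespace Cfsg.Agent.DGroupPSL

open Subgroup

universe u

variable {K : Type u} [Group K]

/-- The odd order elements of the centraliser of an involution. -/
def Good.oddPart (hK : Good K) {v : K} (hv : orderOf v = 2) : Subgroup K where
  carrier := {x | Commute x v ∧ Odd (orderOf x)}
  one_mem' := ⟨Commute.one_left v, by rw [orderOf_one]; exact odd_one⟩
  mul_mem' := fun {a b} ha hb => ⟨ha.1.mul_left hb.1,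
    (ha.2.mul hb.2).of_dvd_nat (hK.odd_comm hv ha.1 hb.1 ha.2 hb.2).orderOf_mul_dvd_mul_orderOf⟩
  inv_mem' := fun {a} ha => ⟨ha.1.inv_left, by rw [orderOf_inv]; exact ha.2⟩

theorem Good.mem_oddPart {hK : Good K} {v x : K} {hv : orderOf v = 2} :
    x ∈ hK.oddPart hv ↔ Commute x v ∧ Odd (orderOf x) := Iff.rfl

variable [Finite K]

theorem odd_card_of_forall {X : Subgroup K} (h : ∀ x ∈ X, Odd (orderOf x)) : Odd (Nat.card X) := by
  rw [← Nat.not_even_iff_odd, even_iff_two_dvd]
  intro hd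
  have : Fact (Nat.Prime 2) := ⟨Nat.prime_two⟩
  obtain ⟨x, hx⟩ := exists_prime_orderOf_dvd_card' (G := X) 2 hd
  exact not_odd_two (by rwa [orderOf_coe]) (h x x.2)

theorem Good.odd_card_oddPart (hK : Good K) {v : K} (hv : orderOf v = 2) :
    Odd (Nat.card (hK.oddPart hv)) := odd_card_of_forall fun _ hx => hx.2

/-- The normal `2`-complement, as the set of odd elements. -/
theorem odd_subgroup_of_complement {G : Type u} [Group G] [Finite G]
    (h : Cfsg.HasNormalPComplement 2 G) :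
    ∃ W : Subgroup G, W.Normal ∧ ∀ x, x ∈ W ↔ Odd (orderOf x) := by
  obtain ⟨P, N, hN, hc⟩ := h
  have hi : N.index = Nat.card P := hc.symm.index_eq_card
  have hodd : Odd (Nat.card N) := by
    rw [← hc.index_eq_card, ← Nat.not_even_iff_odd, even_iff_two_dvd]
    exact P.not_dvd_index
  refine ⟨N, hN, fun x => ⟨fun hx => odd_orderOf_of_mem hodd hx, fun hx => ?_⟩⟩
  obtain ⟨n, hn⟩ := P.2.exists_card_eq
  have h1 : x ^ 2 ^ n ∈ N := by
    have h2 := N.pow_index_mem x
    rwa [hi, hn] at h2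
  obtain ⟨m, hm⟩ : x ∈ zpowers (x ^ 2 ^ n) := by
    rw [← zpow_natCast, mem_zpowers_zpow_iff, Int.gcd_natCast_natCast]
    exact hx.coprime_two_left.pow_left n
  exact hm ▸ N.zpow_mem h1 m

/-- In the centraliser of a nontrivial odd element the odd elements form a subgroup. -/
theorem Good.exists_oddSubgroup (hK : Good K) {τ : K} (ho : Odd (orderOf τ)) (h1 : τ ≠ 1)
    {H : Subgroup K} (hH : ∀ x ∈ H, Commute x τ) :
    ∃ W : Subgroup K, Odd (Nat.card W) ∧ ∀ x, x ∈ W ↔ x ∈ H ∧ Odd (orderOf x) := by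
  have : Fact (Nat.Prime 2) := ⟨Nat.prime_two⟩
  let S : Sylow 2 H := default
  have hcyc : IsCyclic (S : Subgroup H) := by
    have := hK.cyclic_two_subgroup ho h1 (S.2.map H.subtype) fun x hx => by
      obtain ⟨y, -, rfl⟩ := hx; exact hH y y.2
    exact isCyclic_of_surjective _
      ((S : Subgroup H).equivMapOfInjective H.subtype H.subtype_injective).symm.surjective
  obtain ⟨N, -, hN⟩ := odd_subgroup_of_complement
    (HSub.hasNormalPComplement_of_cyclic S (fun q hq _ => hq.two_le) hcyc)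
  have key : ∀ x, x ∈ N.map H.subtype ↔ x ∈ H ∧ Odd (orderOf x) := fun x => by
    constructor
    · rintro ⟨y, hy, rfl⟩; exact ⟨y.2, by rw [Subgroup.coe_subtype, orderOf_coe]; exact (hN y).1 hy⟩
    · rintro ⟨hx, hxo⟩
      exact ⟨⟨x, hx⟩, (hN _).2 (by rw [← orderOf_coe]; exact hxo), rfl⟩
  exact ⟨_, odd_card_of_forall fun x hx => ((key x).1 hx).2, key⟩

/-- Two involutions centralising a nontrivial odd element have a product of odd order. -/
theorem Good.odd_mul_of_commute (hK : Good K) {τ x y : K} (ho : Odd (orderOf τ)) (h1 : τ ≠ 1)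
    (hx : orderOf x = 2) (hy : orderOf y = 2) (hxτ : Commute x τ) (hyτ : Commute y τ) :
    Odd (orderOf (x * y)) := by
  rw [← Nat.not_even_iff_odd, even_iff_two_dvd]
  intro hd
  set c := (x * y) ^ (orderOf (x * y) / 2) with hc
  have hc2 : orderOf c = 2 := orderOf_pow_orderOf_div (orderOf_pos _).ne' hd
  have hcx : Commute c x := by
    rw [hc]
    show (x * y) ^ (orderOf (x * y) / 2) * x = _
    have e : x * (x * y) ^ (orderOf (x * y) / 2) * x⁻¹ = ((x * y) ^ (orderOf (x * y) / 2))⁻¹ := by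
      rw [← conj_pow, ← inv_pow]
      congr 1
      rw [inv2_inv hx, mul_inv_rev, inv2_inv hx, inv2_inv hy, ← mul_assoc, inv2_mul_self hx, one_mul]
    rw [← hc] at e ⊢
    rw [inv2_inv hc2] at e
    exact (mul_inv_eq_iff_eq_mul.1 e).symm
  have hm : c ∈ zpowers (x * y) := pow_mem (mem_zpowers _) _
  have hne : c ≠ x := fun e => Invol.self_notMem_zpowers hx hy (by rwa [e] at hm)
  exact h1 (hK.odd_eq_one hx hc2 hne hcx hxτ.symm ((hxτ.mul_left hyτ).pow_left _).symm ho)

end Cfsg.Agent.DGroupPSL
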