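import Cfsg.Agent.DGroupPSL.Rotation
import Cfsg.Agent.Core.Frattini

/-!
# Invariant groups of order divisible by two odd primes
-/

set_option autoImplicit false

namespace Cfsg.Agent.DGroupPSL

open Subgroup
open scoped commutatorElement

universe u

variable {K : Type u} [Group K]

theorem IsFour.map {V : Subgroup K} (hV : IsFour V) [Finite K] {L : Type u} [Group L] {f : K →* L}
    (hodd : Odd (Nat.card f.ker)) : IsFour (V.map f) := by
  refine ⟨?_, ?_⟩
  · have hinj : Function.Injective (f.comp V.subtype) := by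
      refine (injective_iff_map_eq_one _).2 fun x hx => Subtype.ext ?_
      exact eq_one_of_sq (odd_orderOf_of_mem hodd (show (x : K) ∈ f.ker from hx)) (hV.sq x x.2)
    have h := Subgroup.card_map_of_injective (K := (⊤ : Subgroup V)) hinj
    rw [← map_map, ← MonoidHom.range_eq_map, range_subtype, Subgroup.card_top, hV.card] at h
    exact h
  · rintro _ ⟨x, hx, rfl⟩
    rw [← map_mul, hV.sq x hx, map_one]

theorem not_dvd_of_isPGroup [Finite K] {p q : ℕ} [hp : Fact p.Prime] [hq : Fact q.Prime] (hpq : p ≠ q)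
    {X : Subgroup K} (hX : IsPGroup p X) : ¬ q ∣ Nat.card X := by
  obtain ⟨n, hn⟩ := hX.exists_card_eq
  rw [hn]
  exact fun h => hpq ((Nat.prime_dvd_prime_iff_eq hq.out hp.out).1 (hq.out.dvd_of_dvd_pow h)).symm

theorem eq_one_of_two_pgroups [Finite K] {p q : ℕ} [hp : Fact p.Prime] [hq : Fact q.Prime]
    (hpq : p ≠ q) {x : K} {X Y : Subgroup K} (hX : IsPGroup p X) (hY : IsPGroup q Y) (hx : x ∈ X)
    (hy : x ∈ Y) : x = 1 :=
  Subgroup.mem_bot.1 ((disjoint_iff.1 (hX.disjoint_of_ne p q hpq _ _ hY)).le ⟨hx, hy⟩)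

variable [Finite K] {X : Subgroup K} [X.Normal]

/-- The largest normal `p`-subgroup inside `X` contains its centraliser in `X`. -/
theorem pq_self_cent {p q : ℕ} [Fact p.Prime] [hq : Fact q.Prime] (hpq : p ≠ q)
    (hsol : Group.IsSolvable X) (hdiv : ∀ r : ℕ, r.Prime → r ∣ Nat.card X → r = p ∨ r = q)
    (hbot : Cfsg.pCore q K ⊓ X = ⊥) :
    X ⊓ centralizer ((Cfsg.pCore p K ⊓ X : Subgroup K) : Set K) ≤ Cfsg.pCore p K ⊓ X := by
  set P1 := Cfsg.pCore p K ⊓ X with hP1
  have : P1.Normal := inferInstance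
  set C := X ⊓ centralizer (P1 : Set K) with hC
  have : C.Normal := inferInstance
  set f := QuotientGroup.mk' P1 with hf
  have hker : f.ker = P1 := QuotientGroup.ker_mk' P1
  by_contra hnot
  have hne : C.map f ≠ ⊥ := fun h => hnot fun x hx => by
    have : f x ∈ C.map f := mem_map_of_mem f hx
    rwa [h, Subgroup.mem_bot, ← MonoidHom.mem_ker, hker] at this
  have hCn : (C.map f).Normal := Subgroup.Normal.map inferInstance f (QuotientGroup.mk'_surjective _)
  obtain ⟨r, hr, M, hMC, hM1, hMr, hMn⟩ := Coprime.exists_normal_pSubgroup_le (A := (⊤ : Subgroup (K ⧸ P1)))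
    (K := C.map f) (le_normalizer_of_normal)
    (Coprime.isSolvable_map f (Coprime.isSolvable_of_le inf_le_left hsol)) hne
  have : Fact r.Prime := ⟨hr⟩
  have hMnor : M.Normal := by
    rw [← normalizer_eq_top_iff]
    exact eq_top_iff.2 (le_sup_right.trans hMn)
  set R' := C ⊓ M.comap f with hR'
  have hR'n : R'.Normal := inferInstance
  have hR'map : R'.map f = M := by
    refine le_antisymm ((map_mono inf_le_right).trans (map_comap_le _ _)) fun y hy => ?_
    obtain ⟨x, hx, rfl⟩ := hMC hy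
    exact ⟨x, ⟨hx, hy⟩, rfl⟩
  rcases hdiv r hr (by
    have h1 : r ∣ Nat.card M := by
      have : Nontrivial M := (Subgroup.nontrivial_iff_ne_bot M).2 hM1
      obtain ⟨n, hn, hn'⟩ := hMr.nontrivial_iff_card.1 this
      rw [hn']; exact dvd_pow_self r hn.ne'
    exact h1.trans (((Subgroup.card_dvd_of_le hMC).trans (Subgroup.card_map_dvd C f)).trans
      (Subgroup.card_dvd_of_le inf_le_left))) with rfl | rfl
  · refine hM1 ?_
    have hp' : IsPGroup r (M.comap f) := hMr.comap_of_ker_isPGroup f (by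
      rw [hker]; exact (Core.pCore_isPGroup).to_le inf_le_left)
    have hle : R' ≤ P1 := le_inf (Core.le_pCore (hp'.to_le inf_le_right)) (inf_le_left.trans inf_le_left)
    rw [← hR'map, (Subgroup.map_eq_bot_iff R').2 (hle.trans hker.ge)]
  · -- a central extension of a `q`-group
    let g : R' →* M := (f.comp R'.subtype).codRestrict M fun x => hR'map ▸ mem_map_of_mem f x.2
    have hgker : g.ker ≤ center R' := by
      intro x hx
      have hxP : (x : K) ∈ P1 := by
        rw [← hker, MonoidHom.mem_ker]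
        exact congrArg Subtype.val (MonoidHom.mem_ker.1 hx)
      refine Subgroup.mem_center_iff.2 fun y => Subtype.ext ?_
      exact ((Subgroup.mem_centralizer_iff.1 y.2.1.2) _ hxP).symm
    have := hMr.isNilpotent
    have hnil : Group.IsNilpotent R' := Subgroup.isNilpotent_of_ker_le_center g hgker
    let Q : Sylow r R' := default
    have htf := (Group.isNilpotent_of_finite_tfae (G := R')).out 0 3
    have hQn : (Q : Subgroup R').Normal := htf.1 hnil r inferInstance Q
    have hQc : (Q : Subgroup R').Characteristic := Q.characteristic_of_normal hQn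
    have hQK : ((Q : Subgroup R').map R'.subtype).Normal := ConjAct.normal_of_characteristic_of_normal
    have hle : (Q : Subgroup R').map R'.subtype ≤ Cfsg.pCore r K ⊓ X :=
      le_inf (Core.le_pCore (Q.2.map _))
        ((map_subtype_le _).trans (inf_le_left.trans inf_le_left))
    rw [hbot, le_bot_iff, Subgroup.map_eq_bot_iff_of_injective _ R'.subtype_injective] at hle
    have hdvd : r ∣ Nat.card R' := by
      have h1 : r ∣ Nat.card M := by
        have : Nontrivial M := (Subgroup.nontrivial_iff_ne_bot M).2 hM1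
        obtain ⟨n, hn, hn'⟩ := hMr.nontrivial_iff_card.1 this
        rw [hn']; exact dvd_pow_self r hn.ne'
      exact h1.trans (hR'map ▸ Subgroup.card_map_dvd R' f)
    exact Q.ne_bot_of_dvd_card hdvd hle

theorem conj_frattini_mem {L : Type u} [Group L] (P : Subgroup L) {a x : L}
    (ha : a ∈ normalizer (P : Set L)) (hx : x ∈ (frattini P).map P.subtype) :
    a * x * a⁻¹ ∈ (frattini P).map P.subtype := by
  obtain ⟨y, hy, rfl⟩ := hx
  let e : MulAut P := P.normalizerMonoidHom ⟨a, ha⟩
  have h := mem_map_of_mem e.toMonoidHom hy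
  rw [Subgroup.characteristic_iff_map_eq.1 (inferInstance : (frattini P).Characteristic) e] at h
  exact ⟨e y, h, rfl⟩

/-- Without a normal `q`-subgroup the invariant Sylow `p`-subgroup is normal. -/
theorem pq_core (hK : Good K) {V : Subgroup K} (hV : IsFour V) (hX : Odd (Nat.card X))
    {p q : ℕ} [Fact p.Prime] [hq : Fact q.Prime] (hpq : p ≠ q) (hq2 : q ≠ 2)
    (hdiv : ∀ r : ℕ, r.Prime → r ∣ Nat.card X → r = p ∨ r = q)
    (hbot : Cfsg.pCore q K ⊓ X = ⊥) {P : Subgroup K} (hPX : P ≤ X) (hP : IsPGroup p P)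
    (hPc : Nat.card P = p ^ (Nat.card X).factorization p) : P.Normal := by
  have hsol : Group.IsSolvable X := S0205.result hX
  set P1 := Cfsg.pCore p K ⊓ X with hP1
  have : P1.Normal := inferInstance
  have hP1X : P1 ≤ X := inf_le_right
  have hP1p : IsPGroup p P1 := Core.pCore_isPGroup.to_le inf_le_left
  have hP1odd : Odd (Nat.card P1) := hX.of_dvd_nat (Subgroup.card_dvd_of_le hP1X)
  set f := QuotientGroup.mk' P1 with hf
  have hker : f.ker = P1 := QuotientGroup.ker_mk' P1
  have hsurj : Function.Surjective f := QuotientGroup.mk'_surjective _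
  have : (X.map f).Normal := Subgroup.Normal.map inferInstance f hsurj
  have hbot' : Cfsg.pCore p (K ⧸ P1) ⊓ X.map f = ⊥ := by
    rw [eq_bot_iff]
    intro y hy
    obtain ⟨x, hx, rfl⟩ := (Subgroup.mem_inf.1 hy).2
    have hpg : IsPGroup p ((Cfsg.pCore p (K ⧸ P1)).comap f) :=
      Core.pCore_isPGroup.comap_of_ker_isPGroup f (hker.symm ▸ hP1p)
    have : ((Cfsg.pCore p (K ⧸ P1)).comap f).Normal := inferInstance
    have hmem : x ∈ P1 := ⟨Core.le_pCore hpg (Subgroup.mem_inf.1 hy).1, hx⟩
    rw [Subgroup.mem_bot, ← MonoidHom.mem_ker, hker]; exact hmem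
  have hsc' := pq_self_cent (X := X.map f) hpq.symm (Coprime.isSolvable_map f hsol)
    (fun r hr hd => (hdiv r hr (hd.trans (Subgroup.card_map_dvd X f))).symm) hbot'
  have hsc := pq_self_cent hpq hsol hdiv hbot
  set Rb := Cfsg.pCore q (K ⧸ P1) ⊓ X.map f with hRb
  have hRbn : Rb.Normal := inferInstance
  set Y := Rb.comap f ⊓ X with hY
  have hYn : Y.Normal := inferInstance
  have hYodd : Odd (Nat.card Y) := hX.of_dvd_nat (Subgroup.card_dvd_of_le inf_le_right)
  obtain ⟨R, hRY, hRq, hRV, -, hRc⟩ := hV.exists_sylow hK hYodd le_normalizer_of_normal q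
  have hYmap : Y.map f = Rb := by
    refine le_antisymm ((map_mono inf_le_left).trans (map_comap_le _ _)) fun y hy => ?_
    obtain ⟨x, hx, rfl⟩ := (Subgroup.mem_inf.1 hy).2
    exact ⟨x, ⟨hy, hx⟩, rfl⟩
  -- `f R` is all of `Rb`
  have hRmap : R.map f = Rb := by
    refine Subgroup.eq_of_le_of_card_ge (hYmap ▸ map_mono hRY) ?_
    have hinj : Nat.card (R.map f) = Nat.card R := by
      have hi : Function.Injective (f.comp R.subtype) := by
        refine (injective_iff_map_eq_one _).2 fun x hx => Subtype.ext ?_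
        exact eq_one_of_two_pgroups hpq (x := (x : K)) hP1p hRq
          (by rw [← hker]; exact hx) x.2
      have h := Subgroup.card_map_of_injective (K := (⊤ : Subgroup R)) hi
      rwa [← map_map, ← MonoidHom.range_eq_map, range_subtype, Subgroup.card_top] at h
    rw [hinj, hRc]
    obtain ⟨n, hn⟩ := ((Core.pCore_isPGroup (p := q) (G := K ⧸ P1)).to_le
      (inf_le_left : Rb ≤ _)).exists_card_eq
    rw [hn]
    refine Nat.pow_le_pow_right hq.out.pos ?_
    rw [← hq.out.pow_dvd_iff_le_factorization Nat.card_pos.ne', ← hn]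
    exact (Subgroup.card_dvd_of_le hYmap.ge).trans (Subgroup.card_map_dvd Y f)
  set N := X ⊓ normalizer (R : Set K) with hN
  have hVN : V ≤ normalizer (N : Set K) :=
    Coprime.le_normalizer_inf_of_le le_normalizer_of_normal hRV
  have hNodd : Odd (Nat.card N) := hX.of_dvd_nat (Subgroup.card_dvd_of_le inf_le_left)
  obtain ⟨Pn, hPnN, hPnp, hPnV, -, hPnc⟩ := hV.exists_sylow hK hNodd hVN p
  -- Frattini argument
  have hfrat : ∀ x ∈ X, ∃ y ∈ Y, y * x ∈ N := by
    intro x hx
    let R0 : Sylow q Y := Sylow.ofCard (R.subgroupOf Y) (by rw [Coprime.card_subgroupOf hRY, hRc])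
    have hR0 : (R0 : Subgroup Y) = R.subgroupOf Y := Sylow.coe_ofCard _ _
    let α : MulAut Y := MulAut.conjNormal x
    obtain ⟨y, hy⟩ := MulAction.exists_smul_eq Y (α • R0) R0
    have hmap : ∀ r ∈ R, (y : K) * x * r * ((y : K) * x)⁻¹ ∈ R := by
      intro r hr
      have h0 : (⟨r, hRY hr⟩ : Y) ∈ (R0 : Subgroup Y) := by
        rw [hR0, Subgroup.mem_subgroupOf]; exact hr
      have h1 : MulAut.conj y (α ⟨r, hRY hr⟩) ∈ ((y • α • R0 : Sylow q Y) : Subgroup Y) := by
        rw [Sylow.coe_subgroup_smul, Sylow.pointwise_smul_def]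
        exact Subgroup.smul_mem_pointwise_smul _ _ _ (Subgroup.smul_mem_pointwise_smul _ _ _ h0)
      rw [hy, hR0, Subgroup.mem_subgroupOf] at h1
      simpa [α, MulAut.conjNormal_apply, mul_assoc] using h1
    refine ⟨y, y.2, X.mul_mem ((Subgroup.mem_inf.1 y.2).2) hx, ?_⟩
    have hle : zpowers ((y : K) * x) ≤ normalizer (R : Set K) := by
      refine zpowers_le.2 (mem_normalizer_iff.2 fun r => ⟨hmap r, fun hr => ?_⟩)
      have hbij : Function.Surjective (fun r : R => (⟨_, hmap r r.2⟩ : R)) :=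
        Finite.surjective_of_injective fun a b e => Subtype.ext (by
          simpa using congrArg Subtype.val e)
      obtain ⟨r', e⟩ := hbij ⟨_, hr⟩
      have e' := congrArg Subtype.val e
      simp only at e'
      have : (r' : K) = r := mul_left_cancel (mul_right_cancel e')
      exact this ▸ r'.2
    exact hle (mem_zpowers _)
  -- if `Pn` is in `P1` then `P = P1`
  by_cases hle : Pn ≤ P1
  · have hp : p.Prime := Fact.out
    set v := (Nat.card X).factorization p with hv
    have hP1Y : P1 ≤ Y := fun x hx => ⟨by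
      show f x ∈ Rb
      rw [MonoidHom.mem_ker.1 (hker.symm ▸ hx : x ∈ f.ker)]; exact Rb.one_mem, hP1X hx⟩
    have hXsup : X = N ⊔ Y := by
      refine le_antisymm (fun x hx => ?_) (sup_le inf_le_left inf_le_right)
      obtain ⟨y, hy, hyx⟩ := hfrat x hx
      rw [show x = y⁻¹ * (y * x) by group]
      exact mul_mem (mem_sup_right (inv_mem hy)) (mem_sup_left hyx)
    have hcard : Nat.card Y * (Y.subgroupOf N).index = Nat.card X := by
      have h1 := (Y.subgroupOf X).card_mul_index
      rw [Coprime.card_subgroupOf (show Y ≤ X from inf_le_right)] at h1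
      rw [← h1]
      show Nat.card Y * Y.relIndex N = Nat.card Y * Y.relIndex X
      rw [hXsup, Subgroup.relIndex_sup_right]
    have hidx : ¬ p ∣ (Y.subgroupOf N).index := by
      intro hd
      have h1 := (Y.subgroupOf N).card_mul_index
      obtain ⟨c, hc⟩ := hd
      have h2 : Nat.card Pn ∣ Nat.card (Y.subgroupOf N) := by
        rw [← Coprime.card_subgroupOf hPnN]
        exact Subgroup.card_dvd_of_le fun x hx => hP1Y (hle hx)
      rw [hPnc] at h2
      refine Nat.pow_succ_factorization_not_dvd (Nat.card_pos (α := N)).ne' hp ?_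
      rw [pow_succ]
      conv_rhs => rw [← h1, hc]
      exact Nat.mul_dvd_mul h2 (Dvd.intro c rfl)
    have hYd : p ^ v ∣ Nat.card Y := by
      have hcp : (p ^ v).Coprime (Y.subgroupOf N).index :=
        Nat.Coprime.pow_left _ (hp.coprime_iff_not_dvd.2 hidx)
      exact hcp.dvd_of_dvd_mul_right (hcard ▸ Nat.ordProj_dvd _ p)
    have hP1d : p ^ v ∣ Nat.card P1 := by
      have h1 : Nat.card Y = Nat.card P1 * Nat.card Rb := by
        have h3 := (f.comp Y.subtype).ker.card_mul_index
        rw [Subgroup.index_ker, MonoidHom.range_comp, range_subtype, hYmap] at h3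
        have h4 : (f.comp Y.subtype).ker = P1.subgroupOf Y := by
          ext y
          rw [MonoidHom.mem_ker, Subgroup.mem_subgroupOf]
          refine Iff.trans ?_ (SetLike.ext_iff.1 hker (y : K))
          rw [MonoidHom.mem_ker]
          rfl
        rw [h4, Coprime.card_subgroupOf hP1Y] at h3
        exact h3.symm
      have hcp : (p ^ v).Coprime (Nat.card Rb) := Nat.Coprime.pow_left _ (hp.coprime_iff_not_dvd.2
        (not_dvd_of_isPGroup hpq.symm (Core.pCore_isPGroup.to_le inf_le_left)))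
      exact hcp.dvd_of_dvd_mul_right (h1 ▸ hYd)
    have hsup : IsPGroup p (P ⊔ P1 : Subgroup K) := IsPGroup.to_sup_of_normal_right hP hP1p
    obtain ⟨n, hn⟩ := hsup.exists_card_eq
    have hle' : Nat.card (P ⊔ P1 : Subgroup K) ≤ p ^ v := by
      rw [hn]
      refine Nat.pow_le_pow_right hp.pos ((hp.pow_dvd_iff_le_factorization Nat.card_pos.ne').1 ?_)
      rw [← hn]
      exact Subgroup.card_dvd_of_le (sup_le hPX hP1X)
    have e1 : P = P ⊔ P1 := Subgroup.eq_of_le_of_card_ge le_sup_left (hPc ▸ hle')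
    have e2 : P1 = P ⊔ P1 := Subgroup.eq_of_le_of_card_ge le_sup_right
      (hle'.trans (Nat.le_of_dvd Nat.card_pos hP1d))
    rw [e1, ← e2]
    infer_instance
  exfalso
  have hPnodd : Odd (Nat.card Pn) := hNodd.of_dvd_nat (Subgroup.card_dvd_of_le hPnN)
  obtain ⟨v, hv, hv1, τ, hτ, hτP1, hτv⟩ : ∃ v ∈ V, v ≠ 1 ∧ ∃ τ ∈ Pn, τ ∉ P1 ∧ Commute τ v := by
    by_contra h
    push Not at h
    exact hle (hV.le_of_components hPnodd hPnV fun v hv hv1 x hx hc => by
      by_contra hx1
      exact h v hv hv1 x hx hx1 hc)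
  set F := (frattini P1).map P1.subtype with hF
  have hFn : F.Normal := ⟨fun x hx a => conj_frattini_mem P1 (le_normalizer_of_normal (mem_top a)) hx⟩
  have hFP1 : F ≤ P1 := map_subtype_le _
  have hFodd : Odd (Nat.card F) := hP1odd.of_dvd_nat (Subgroup.card_dvd_of_le hFP1)
  set g := QuotientGroup.mk' F with hg
  have hgker : g.ker = F := QuotientGroup.ker_mk' F
  have hgodd : Odd (Nat.card g.ker) := by rw [hgker]; exact hFodd
  set M := P1.map g with hM
  have hMn : M.Normal := Subgroup.Normal.map inferInstance g (QuotientGroup.mk'_surjective _)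
  have hMc : ∀ x ∈ M, ∀ y ∈ M, Commute x y := by
    rintro _ ⟨a, ha, rfl⟩ _ ⟨b, hb, rfl⟩
    have := hP1p.isNilpotent
    have hc : ⁅(⟨a, ha⟩ : P1), ⟨b, hb⟩⁆ ∈ frattini P1 :=
      Core.commutator_le_frattini (commutator_mem_commutator (mem_top _) (mem_top _))
    have h1 : g ⁅a, b⁆ = 1 := by
      rw [← MonoidHom.mem_ker, hgker]
      exact ⟨_, hc, by simp [commutatorElement_def]⟩
    rw [map_commutatorElement] at h1
    exact commutatorElement_eq_one_iff_mul_comm.1 h1
  have hRP1 : ∀ r ∈ R, (∀ x ∈ P1, Commute r x) → r = 1 := by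
    intro r hr hc
    refine eq_one_of_two_pgroups hpq hP1p hRq (hsc ⟨(Subgroup.mem_inf.1 (hRY hr)).2, ?_⟩) hr
    exact Subgroup.mem_centralizer_iff.2 fun y hy => (hc y hy).symm.eq
  have hRfaith : ∀ r ∈ R, (∀ x ∈ M, Commute (g r) x) → g r = 1 := by
    intro r hr hc
    have h := Coprime.le_centralizer_of_trivial_mod_frattini (A := zpowers r) (K := P1)
      le_normalizer_of_normal (by
        rw [Nat.card_zpowers]
        refine Nat.Coprime.coprime_dvd_left (Subgroup.orderOf_dvd_natCard R hr) ?_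
        obtain ⟨a, ha⟩ := hRq.exists_card_eq
        obtain ⟨b, hb⟩ := (hP1p.to_subgroup (frattini P1)).exists_card_eq
        rw [ha, hb]
        exact Nat.Coprime.pow _ _ ((Nat.coprime_primes Fact.out Fact.out).2 hpq.symm))
      (fun a ha k hk => by
        rw [← hF, ← hgker, MonoidHom.mem_ker, map_mul, map_mul, map_mul, map_inv, map_inv]
        obtain ⟨i, rfl⟩ := Subgroup.mem_zpowers_iff.1 ha
        rw [map_zpow, ((hc _ (mem_map_of_mem g hk)).zpow_left i).eq, mul_inv_cancel_right,
          mul_inv_cancel])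
    rw [hRP1 r hr fun x hx => ((Subgroup.mem_centralizer_iff.1 (h (mem_zpowers r))) x hx).symm,
      map_one]
  have hτX : τ ∈ X := (Subgroup.mem_inf.1 (hPnN hτ)).1
  have hτR : τ ∈ normalizer (R : Set K) := (Subgroup.mem_inf.1 (hPnN hτ)).2
  obtain ⟨kτ, hkτ⟩ := IsPGroup.iff_orderOf.1 hPnp ⟨τ, hτ⟩
  rw [← orderOf_coe] at hkτ
  have hτo : Odd (orderOf τ) := odd_orderOf_of_mem hX hτX
  have hVg : IsFour (V.map g) := hV.map hgodd
  have hgv1 : g v ≠ 1 := fun e => hv1 (eq_one_of_sq
    (odd_orderOf_of_mem hgodd (MonoidHom.mem_ker.2 e)) (hV.sq v hv))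
  have hcomm := component_centralizes (K := K ⧸ F) (hK.of_surjective hgodd (QuotientGroup.mk'_surjective _))
    hVg (M := M) (hP1odd.of_dvd_nat (Subgroup.card_map_dvd P1 g)) hMc le_normalizer_of_normal
    hpq hq2 (hP1p.map g) (mem_map_of_mem g hv) hgv1 (hτv.map g) (hτo.of_dvd_nat (orderOf_map_dvd g τ))
    (by
      obtain ⟨j, -, hj⟩ := (Nat.dvd_prime_pow (Fact.out : p.Prime)).1 (hkτ ▸ orderOf_map_dvd g τ)
      exact ⟨j, hj⟩)
    (le_normalizer_of_normal (mem_top _)) (R.map g) (hRq.map g) le_normalizer_of_normal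
    (le_normalizer_of_conj_mem (by
      rintro _ ⟨a, ha, rfl⟩ _ ⟨x, hx, rfl⟩
      rw [← map_inv, ← map_mul, ← map_mul]
      exact mem_map_of_mem g (conj_mem_of_le_normalizer hRV ha hx)))
    (le_normalizer_of_conj_mem (A := zpowers (g τ)) (by
      rintro a ha _ ⟨x, hx, rfl⟩
      obtain ⟨i, rfl⟩ := Subgroup.mem_zpowers_iff.1 ha
      rw [← map_zpow, ← map_inv, ← map_mul, ← map_mul]
      exact mem_map_of_mem g ((mem_normalizer_iff.1 (zpow_mem hτR i) x).1 hx)) (mem_zpowers _))
    (fun r hr h => by obtain ⟨x, hx, rfl⟩ := hr; exact hRfaith x hx h)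
  -- so `f τ` centralises `Rb`
  have hcR : ∀ r ∈ R, Commute τ r := by
    intro r hr
    have h1 : g ⁅τ, r⁆ = 1 := by
      rw [map_commutatorElement]
      exact commutatorElement_eq_one_iff_mul_comm.2 (hcomm _ (mem_map_of_mem g hr)).eq
    rw [← MonoidHom.mem_ker, hgker] at h1
    have h2 : ⁅τ, r⁆ ∈ R := by
      rw [commutatorElement_def]
      exact R.mul_mem ((mem_normalizer_iff.1 hτR r).1 hr) (R.inv_mem hr)
    exact commutatorElement_eq_one_iff_mul_comm.1 (eq_one_of_two_pgroups hpq hP1p hRq (hFP1 h1) h2)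
  have hfτ : f τ ∈ Rb := by
    refine hsc' ⟨mem_map_of_mem f hτX, Subgroup.mem_centralizer_iff.2 fun y hy => ?_⟩
    have hy' : y ∈ R.map f := hRmap.symm ▸ hy
    obtain ⟨r, hr, rfl⟩ := hy'
    exact ((hcR r hr).map f).symm.eq
  refine hτP1 ?_
  rw [← hker, MonoidHom.mem_ker]
  exact eq_one_of_two_pgroups hpq (hPnp.map f) (Core.pCore_isPGroup.to_le inf_le_left)
    (mem_map_of_mem f hτ) hfτ

omit [X.Normal] in
/-- In an invariant `{p,q}`-group the invariant Sylow `p`-subgroup is normal modulo the `q`-core. -/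
theorem pq_normal (hK : Good K) {V : Subgroup K} (hV : IsFour V) (hX : Odd (Nat.card X))
    (hVX : V ≤ normalizer (X : Set K))
    {p q : ℕ} [Fact p.Prime] [hq : Fact q.Prime] (hpq : p ≠ q) (hq2 : q ≠ 2)
    (hdiv : ∀ r : ℕ, r.Prime → r ∣ Nat.card X → r = p ∨ r = q)
    {P : Subgroup K} (hPX : P ≤ X) (hP : IsPGroup p P) (hPV : V ≤ normalizer (P : Set K))
    (hPc : Nat.card P = p ^ (Nat.card X).factorization p) :
    ∃ O : Subgroup K, O ≤ X ∧ IsPGroup q O ∧ V ≤ normalizer (O : Set K) ∧
      X ≤ normalizer (O : Set K) ∧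
      ∀ x ∈ X, ∃ o ∈ O, ∃ n ∈ X, n ∈ normalizer (P : Set K) ∧ x = o * n := by
  set Γ := X ⊔ V with hΓ
  set X' := X.subgroupOf Γ with hX'
  have hXn : X'.Normal := normal_subgroupOf_of_le_normalizer (sup_le le_normalizer hVX)
  have hX'odd : Odd (Nat.card X') := by rw [Coprime.card_subgroupOf le_sup_left]; exact hX
  set O' := Cfsg.pCore q Γ ⊓ X' with hO'
  have hO'n : O'.Normal := inferInstance
  have hO'q : IsPGroup q O' := Core.pCore_isPGroup.to_le inf_le_left
  have hO'odd : Odd (Nat.card O') := hX'odd.of_dvd_nat (Subgroup.card_dvd_of_le inf_le_right)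
  set g := QuotientGroup.mk' O' with hg
  have hgker : g.ker = O' := QuotientGroup.ker_mk' O'
  have hgodd : Odd (Nat.card g.ker) := by rw [hgker]; exact hO'odd
  have hgs : Function.Surjective g := QuotientGroup.mk'_surjective _
  have : (X'.map g).Normal := Subgroup.Normal.map hXn g hgs
  have hV' : IsFour (V.subgroupOf Γ) := by
    refine ⟨by rw [Coprime.card_subgroupOf le_sup_right, hV.card], fun x hx => Subtype.ext ?_⟩
    exact hV.sq x (Subgroup.mem_subgroupOf.1 hx)
  have hbot : Cfsg.pCore q (Γ ⧸ O') ⊓ X'.map g = ⊥ := by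
    rw [eq_bot_iff]
    intro y hy
    obtain ⟨x, hx, rfl⟩ := (Subgroup.mem_inf.1 hy).2
    have hpg : IsPGroup q ((Cfsg.pCore q (Γ ⧸ O')).comap g) :=
      Core.pCore_isPGroup.comap_of_ker_isPGroup g (hgker.symm ▸ hO'q)
    have : ((Cfsg.pCore q (Γ ⧸ O')).comap g).Normal := inferInstance
    have hmem : x ∈ O' := ⟨Core.le_pCore hpg (Subgroup.mem_inf.1 hy).1, hx⟩
    rw [Subgroup.mem_bot, ← MonoidHom.mem_ker, hgker]; exact hmem
  set P' := P.subgroupOf Γ with hP'
  have hPΓ : P ≤ Γ := hPX.trans le_sup_left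
  have hP'X : P' ≤ X' := fun x hx => hPX hx
  have hP'p : IsPGroup p P' := hP.of_equiv (subgroupOfEquivOfLe hPΓ).symm
  have hinj : Nat.card (P'.map g) = Nat.card P := by
    have hi : Function.Injective (g.comp P'.subtype) := by
      refine (injective_iff_map_eq_one _).2 fun x hx => Subtype.ext ?_
      exact eq_one_of_two_pgroups hpq (x := (x : Γ)) hP'p hO'q x.2 (by rw [← hgker]; exact hx)
    have h := Subgroup.card_map_of_injective (K := (⊤ : Subgroup P')) hi
    rw [← map_map, ← MonoidHom.range_eq_map, range_subtype, Subgroup.card_top] at h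
    rw [h, hP', Coprime.card_subgroupOf hPΓ]
  have hfac : (Nat.card (X'.map g)).factorization p = (Nat.card X).factorization p := by
    refine le_antisymm ?_ ?_
    · exact Nat.factorization_le_iff_dvd Nat.card_pos.ne' Nat.card_pos.ne' |>.2
        ((Subgroup.card_map_dvd X' g).trans (Coprime.card_subgroupOf le_sup_left).dvd) p
    · rw [← (Fact.out : p.Prime).pow_dvd_iff_le_factorization Nat.card_pos.ne', ← hPc, ← hinj]
      exact Subgroup.card_dvd_of_le (map_mono hP'X)
  have hnorm : (P'.map g).Normal := pq_core (X := X'.map g)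
    ((hK.subgroup Γ).of_surjective hgodd hgs) (hV'.map hgodd)
    (hX'odd.of_dvd_nat (Subgroup.card_map_dvd X' g)) hpq hq2
    (fun r hr hd => hdiv r hr ((hd.trans (Subgroup.card_map_dvd X' g)).trans
      (Coprime.card_subgroupOf le_sup_left).dvd))
    hbot (map_mono hP'X) (hP'p.map g) (by rw [hinj, hfac, hPc])
  set Y := (P'.map g).comap g with hY
  have hYn : Y.Normal := inferInstance
  have hPY : P' ≤ Y := le_comap_map _ _
  have hYc : Nat.card Y = Nat.card P * Nat.card O' := by
    have h : Y = P' ⊔ O' := by rw [hY, comap_map_eq, hgker]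
    rw [h, sup_comm, Coprime.card_sup_eq_mul le_normalizer_of_normal
      (by rw [eq_bot_iff]; exact fun x hx => Subgroup.mem_bot.2 (eq_one_of_two_pgroups hpq hP'p hO'q
        (Subgroup.mem_inf.1 hx).2 (Subgroup.mem_inf.1 hx).1)), hP',
      Coprime.card_subgroupOf hPΓ, mul_comm]
  refine ⟨O'.map Γ.subtype, ?_, hO'q.map _, ?_, ?_, fun x hx => ?_⟩
  · rintro _ ⟨y, hy, rfl⟩; exact (Subgroup.mem_inf.1 hy).2
  all_goals
    first
    | (refine le_normalizer_of_conj_mem fun a ha y hy => ?_
       obtain ⟨y', hy', rfl⟩ := hy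
       refine ⟨⟨a, ?_⟩ * y' * ⟨a, ?_⟩⁻¹, hO'n.conj_mem y' hy' _, rfl⟩
       all_goals first
        | exact mem_sup_right ha
        | exact mem_sup_left ha)
    | skip
  set x' : Γ := ⟨x, mem_sup_left hx⟩ with hxdef
  have hfacY : (Nat.card Y).factorization p = (Nat.card X).factorization p := by
    obtain ⟨n, hn⟩ := hO'q.exists_card_eq
    rw [hYc, Nat.factorization_mul Nat.card_pos.ne' Nat.card_pos.ne', Finsupp.add_apply, hPc, hn,
      (Fact.out : p.Prime).factorization_pow, (hq.out).factorization_pow, Finsupp.single_eq_same,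
      Finsupp.single_eq_of_ne hpq]
    simp
  let P0 : Sylow p Y := Sylow.ofCard (P'.subgroupOf Y) (by
    rw [Coprime.card_subgroupOf hPY, hP', Coprime.card_subgroupOf hPΓ, hPc, hfacY])
  have hP0 : (P0 : Subgroup Y) = P'.subgroupOf Y := Sylow.coe_ofCard _ _
  obtain ⟨y, hy⟩ := MulAction.exists_smul_eq Y ((MulAut.conjNormal x' : MulAut Y) • P0) P0
  have hyx : ∀ r ∈ P', ((y : Γ) * x') * r * ((y : Γ) * x')⁻¹ ∈ P' := by
    intro r hr
    have h0 : (⟨r, hPY hr⟩ : Y) ∈ (P0 : Subgroup Y) := by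
      rw [hP0, Subgroup.mem_subgroupOf]; exact hr
    have h1 : MulAut.conj y (MulAut.conjNormal x' ⟨r, hPY hr⟩) ∈
        ((y • (MulAut.conjNormal x' : MulAut Y) • P0 : Sylow p Y) : Subgroup Y) := by
      rw [Sylow.coe_subgroup_smul, Sylow.pointwise_smul_def]
      exact Subgroup.smul_mem_pointwise_smul _ _ _ (Subgroup.smul_mem_pointwise_smul _ _ _ h0)
    rw [hy, hP0, Subgroup.mem_subgroupOf] at h1
    simpa [MulAut.conjNormal_apply, mul_assoc] using h1
  have hyY : (y : Γ) ∈ P' ⊔ O' := by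
    have h : Y = P' ⊔ O' := by rw [hY, comap_map_eq, hgker]
    exact h.le y.2
  obtain ⟨π, hπ, o, ho, hpo⟩ := mem_sup_of_normal_right.1 hyY
  -- `n := o * x`, `x = o⁻¹ * n`
  refine ⟨(o⁻¹ : Γ), ⟨_, O'.inv_mem ho, rfl⟩, (o * x' : Γ), ?_, ?_, by simp [x']⟩
  · exact X.mul_mem ((Subgroup.mem_inf.1 ho).2) hx
  · refine mem_normalizer_iff.2 fun r => ⟨fun hr => ?_, fun hr => ?_⟩
    · have h := hyx ⟨r, hPΓ hr⟩ hr
      have h2 := P'.mul_mem (P'.mul_mem (P'.inv_mem hπ) h) hπ
      rw [← hpo] at h2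
      have e : π⁻¹ * (π * o * x' * ⟨r, hPΓ hr⟩ * (π * o * x')⁻¹) * π =
          o * x' * ⟨r, hPΓ hr⟩ * (o * x')⁻¹ := by group
      rw [e] at h2
      exact h2
    · have hbij : Function.Surjective (fun r : P => (⟨((o * x' : Γ) : K) * r * ((o * x' : Γ) : K)⁻¹, by
          have h := hyx ⟨r, hPΓ r.2⟩ r.2
          have h2 := P'.mul_mem (P'.mul_mem (P'.inv_mem hπ) h) hπ
          rw [← hpo] at h2
          have e : π⁻¹ * (π * o * x' * ⟨(r : K), hPΓ r.2⟩ * (π * o * x')⁻¹) * π =
              o * x' * ⟨(r : K), hPΓ r.2⟩ * (o * x')⁻¹ := by group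
          rw [e] at h2
          exact h2⟩ : P)) :=
        Finite.surjective_of_injective fun a b e => Subtype.ext (by simpa using congrArg Subtype.val e)
      obtain ⟨r', e⟩ := hbij ⟨_, hr⟩
      have : (r' : K) = r := mul_left_cancel (mul_right_cancel (congrArg Subtype.val e))
      exact this ▸ r'.2

end Cfsg.Agent.DGroupPSL
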