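import Cfsg.Agent.DGroupPSL.Unique

/-!
# The invariant `p`-subgroups with several components
-/

set_option autoImplicit false

namespace Cfsg.Agent.DGroupPSL

open Subgroup

universe u

variable {K : Type u} [Group K]

/-- The setting: one class of involutions, with transitive four-group automisers. -/
structure Ctx (K : Type u) [Group K] : Prop where
  good : Good K
  ind : Ind K
  noOdd : NoOdd K
  auto : ∀ V : Subgroup K, IsFour V → ∀ v ∈ V, v ≠ 1 → ∀ u ∈ V, u ≠ 1 →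
    ∃ n ∈ normalizer (V : Set K), n * v * n⁻¹ = u

/-- Some invariant `p`-subgroup is not in one component. -/
def Pair (V : Subgroup K) (p : ℕ) : Prop :=
  p.Prime ∧ p ≠ 2 ∧ ∃ X : Subgroup K, IsPGroup p X ∧ V ≤ normalizer (X : Set K) ∧ ¬ InComp V X

/-- `x` is a `p`-element. -/
def IsPElt (p : ℕ) (x : K) : Prop := ∃ k : ℕ, orderOf x = p ^ k

theorem IsPElt.odd {p : ℕ} [hp : Fact p.Prime] (hp2 : p ≠ 2) {x : K} (h : IsPElt p x) :
    Odd (orderOf x) := by
  obtain ⟨k, hk⟩ := h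
  rw [hk]
  exact (hp.out.odd_of_ne_two hp2).pow

theorem IsPElt.of_mem {p : ℕ} [Fact p.Prime] {X : Subgroup K} (hX : IsPGroup p X) {x : K} (hx : x ∈ X) :
    IsPElt p x := by
  obtain ⟨k, hk⟩ := IsPGroup.iff_orderOf.1 hX ⟨x, hx⟩
  exact ⟨k, by rwa [← orderOf_coe] at hk⟩

theorem IsPElt.conj {p : ℕ} {x : K} (h : IsPElt p x) (g : K) : IsPElt p (g * x * g⁻¹) := by
  obtain ⟨k, hk⟩ := h
  exact ⟨k, by rwa [Invol.orderOf_conj]⟩

theorem isPGroup_zpowers [Finite K] {p : ℕ} [Fact p.Prime] {x : K} (h : IsPElt p x) :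
    IsPGroup p (zpowers x) := by
  obtain ⟨k, hk⟩ := h
  exact IsPGroup.of_card (n := k) (by rw [Nat.card_zpowers, hk])

theorem IsFour.conj_mem_set {V : Subgroup K} {n v : K} (hn : n ∈ normalizer (V : Set K)) (hv : v ∈ V)
    (hv1 : v ≠ 1) : n * v * n⁻¹ ∈ V ∧ n * v * n⁻¹ ≠ 1 :=
  ⟨(mem_normalizer_iff.1 hn v).1 hv, fun e => hv1 (conj_eq_one_iff.1 e)⟩

variable [Finite K]

theorem IsPElt.mul {p : ℕ} [hp : Fact p.Prime] {x y : K} (hc : Commute x y) (hx : IsPElt p x)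
    (hy : IsPElt p y) : IsPElt p (x * y) := by
  obtain ⟨a, ha⟩ := hx
  obtain ⟨b, hb⟩ := hy
  have h : (x * y) ^ p ^ (a + b) = 1 := by
    rw [hc.mul_pow, pow_add, pow_mul, ← ha, pow_orderOf_eq_one, one_pow, one_mul, mul_comm,
      pow_mul, ← hb, pow_orderOf_eq_one, one_pow]
  obtain ⟨j, -, hj⟩ := (Nat.dvd_prime_pow hp.out).1 (orderOf_dvd_of_pow_eq_one h)
  exact ⟨j, hj⟩

/-- The `p`-part of the odd elements centralising an involution. -/
theorem Good.exists_pPart (hK : Good K) {V : Subgroup K} (hV : IsFour V) {p : ℕ} [hp : Fact p.Prime]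
    (hp2 : p ≠ 2) {v : K} (hv : v ∈ V) (hv1 : v ≠ 1) :
    ∃ B : Subgroup K, IsPGroup p B ∧ V ≤ normalizer (B : Set K) ∧
      ∀ x, x ∈ B ↔ Commute x v ∧ IsPElt p x := by
  let B : Subgroup K :=
    { carrier := {x | Commute x v ∧ IsPElt p x}
      one_mem' := ⟨Commute.one_left v, 0, by simp⟩
      mul_mem' := fun {a b} ha hb => ⟨ha.1.mul_left hb.1, IsPElt.mul
        (hK.odd_comm (hV.orderOf_eq hv hv1) ha.1 hb.1 (ha.2.odd hp2) (hb.2.odd hp2)) ha.2 hb.2⟩
      inv_mem' := fun {a} ha => ⟨ha.1.inv_left, by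
        obtain ⟨k, hk⟩ := ha.2; exact ⟨k, by rwa [orderOf_inv]⟩⟩ }
  refine ⟨B, IsPGroup.iff_orderOf.2 fun x => ?_, le_normalizer_of_conj_mem fun a ha x hx => ?_,
    fun x => Iff.rfl⟩
  · obtain ⟨k, hk⟩ := x.2.2
    exact ⟨k, by rwa [← orderOf_coe]⟩
  · exact ⟨hV.commute_conj hv ha hx.1, hx.2.conj a⟩

namespace Ctx

variable (C : Ctx K) {V : Subgroup K} (hV : IsFour V) {p : ℕ} [Fact p.Prime] (hp2 : p ≠ 2)
include C hV hp2

/-- A maximal invariant `p`-subgroup meeting the component of `v` contains it. -/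
theorem full {P : Subgroup K} (hP : MaxP V p P) {v y x : K} (hv : v ∈ V) (hv1 : v ≠ 1) (hy : y ∈ P)
    (hy1 : y ≠ 1) (hyv : Commute y v) (hxv : Commute x v) (hx : IsPElt p x) : x ∈ P := by
  obtain ⟨B, hB, hBn, hBm⟩ := C.good.exists_pPart hV hp2 hv hv1
  obtain ⟨P', hP', hBP⟩ := exists_maxP hB hBn
  have e := hP.unique C.good C.ind C.noOdd hV hp2 hP' fun h => hy1 (Subgroup.mem_bot.1 (h ▸
    (⟨hy, hBP ((hBm y).2 ⟨hyv, IsPElt.of_mem hP.isPGroup hy⟩)⟩ : y ∈ P ⊓ P')))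
  exact e ▸ hBP ((hBm x).2 ⟨hxv, hx⟩)

/-- An invariant `p`-subgroup meeting the maximal one is contained in it. -/
theorem le_of_common {P X : Subgroup K} (hP : MaxP V p P) (hX : IsPGroup p X)
    (hXn : V ≤ normalizer (X : Set K)) {y : K} (hyX : y ∈ X) (hyP : y ∈ P) (hy1 : y ≠ 1) : X ≤ P := by
  obtain ⟨P', hP', hXP⟩ := exists_maxP hX hXn
  have e := hP.unique C.good C.ind C.noOdd hV hp2 hP' fun h => hy1 (Subgroup.mem_bot.1 (h ▸
    (⟨hyP, hXP hyX⟩ : y ∈ P ⊓ P')))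
  exact e ▸ hXP

end Ctx

/-- What is known about the subgroup attached to a pair prime. -/
structure Core (V : Subgroup K) (p : ℕ) (P : Subgroup K) : Prop where
  maxP : MaxP V p P
  full : ∀ v ∈ V, v ≠ 1 → ∀ x, Commute x v → IsPElt p x → x ∈ P
  auto : normalizer (V : Set K) ≤ normalizer (P : Set K)
  central : ∀ v ∈ V, v ≠ 1 → ∃ z ∈ P, z ≠ 1 ∧ Commute z v ∧ ∀ y ∈ P, Commute z y

theorem Ctx.exists_core (C : Ctx K) {V : Subgroup K} (hV : IsFour V) {p : ℕ} (h : Pair V p) :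
    ∃ P, Core V p P := by
  obtain ⟨hp, hp2, X, hX, hXn, hXc⟩ := h
  have : Fact p.Prime := ⟨hp⟩
  have hXodd := odd_card_of_isPGroup hp2 hX
  obtain ⟨P, hP, hXP⟩ := exists_maxP hX hXn
  have hX1 : X ≠ ⊥ := fun e => by
    obtain ⟨v, hv, hv1, -⟩ := hV.exists_other 1
    exact hXc ⟨v, hv, hv1, fun x hx => by
      rw [e, Subgroup.mem_bot] at hx; subst hx; exact Commute.one_left v⟩
  obtain ⟨v, hv, hv1, y, hy, hy1, hyv⟩ := hV.exists_component hXodd hXn hX1
  obtain ⟨u, hu, hu1, huv, y', hy', hy1', hyu⟩ :=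
    hV.exists_other_component hXodd hXn (fun hh => hXc ⟨v, hv, hv1, hh⟩)
  -- an element moving `{v, u}` into itself somewhere normalises `P`
  have hnorm : normalizer (V : Set K) ≤ normalizer (P : Set K) := by
    intro n hn
    have hmax : MaxP V p (P.map (MulAut.conj n).toMonoidHom) := by
      refine ⟨hP.isPGroup.map _, le_normalizer_of_conj_mem ?_, fun Q hQ hQn hle => ?_⟩
      · rintro a ha _ ⟨x, hx, rfl⟩
        refine ⟨(n⁻¹ * a * n) * x * (n⁻¹ * a * n)⁻¹, conj_mem_of_le_normalizer hP.norm ?_ hx, ?_⟩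
        · simpa using (mem_normalizer_iff.1 (inv_mem hn) a).1 ha
        · simp [mul_assoc]
      · have h1 : Q.map (MulAut.conj n⁻¹).toMonoidHom = P := by
          refine hP.max _ (hQ.map _) (le_normalizer_of_conj_mem ?_) fun x hx => ?_
          · rintro a ha _ ⟨x, hx, rfl⟩
            refine ⟨(n * a * n⁻¹) * x * (n * a * n⁻¹)⁻¹,
              conj_mem_of_le_normalizer hQn ((mem_normalizer_iff.1 hn a).1 ha) hx, ?_⟩
            simp [mul_assoc]
          · exact ⟨_, hle ⟨x, hx, rfl⟩, by simp [mul_assoc]⟩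
        refine le_antisymm (fun x hx => ⟨n⁻¹ * x * n, ?_, by simp [mul_assoc]⟩) hle
        rw [← h1]
        exact ⟨x, hx, by simp⟩
    have key : ∀ a ∈ V, a ≠ 1 → ∀ b ∈ P, b ≠ 1 → Commute b a →
        (n * a * n⁻¹ = v ∨ n * a * n⁻¹ = u) → n ∈ normalizer (P : Set K) := by
      intro a ha ha1 b hb hb1 hba hna
      have hc : Commute (n * b * n⁻¹) (n * a * n⁻¹) := (Commute.conj_iff n).2 hba
      have hel : IsPElt p (n * b * n⁻¹) := (IsPElt.of_mem hP.isPGroup hb).conj n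
      have hmem : n * b * n⁻¹ ∈ P := by
        rcases hna with e | e <;> rw [e] at hc
        · exact C.full hV hp2 hP hv hv1 (hXP hy) hy1 hyv hc hel
        · exact C.full hV hp2 hP hu hu1 (hXP hy') hy1' hyu hc hel
      have e := hmax.unique C.good C.ind C.noOdd hV hp2 hP fun h => hb1 (conj_eq_one_iff.1
        (Subgroup.mem_bot.1 (h.le (Subgroup.mem_inf.2 ⟨⟨b, hb, rfl⟩, hmem⟩))))
      refine mem_normalizer_iff.2 fun x => ⟨fun hx => e.le ⟨x, hx, rfl⟩, fun hx => ?_⟩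
      obtain ⟨x', hx', he⟩ := e.ge hx
      have : x' = x := (MulAut.conj n).injective he
      exact this ▸ hx'
    obtain ⟨hv', hv1'⟩ := IsFour.conj_mem_set hn hv hv1
    obtain ⟨hu', hu1'⟩ := IsFour.conj_mem_set hn hu hu1
    have inj : ∀ {a b : K}, n * a * n⁻¹ = n * b * n⁻¹ → a = b := fun h =>
      mul_left_cancel (mul_right_cancel h)
    rcases hV.mem_cases hv hu hv1 hu1 huv.symm hv' with e | e | e | e
    · exact absurd e hv1'
    · exact key v hv hv1 y (hXP hy) hy1 hyv (Or.inl e)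
    · exact key v hv hv1 y (hXP hy) hy1 hyv (Or.inr e)
    · rcases hV.mem_cases hv hu hv1 hu1 huv.symm hu' with e' | e' | e' | e'
      · exact absurd e' hu1'
      · exact key u hu hu1 y' (hXP hy') hy1' hyu (Or.inl e')
      · exact key u hu hu1 y' (hXP hy') hy1' hyu (Or.inr e')
      · exact absurd (inj (e.trans e'.symm)) huv.symm
  have hfull : ∀ w ∈ V, w ≠ 1 → ∀ x, Commute x w → IsPElt p x → x ∈ P := by
    intro w hw hw1 x hxw hx
    obtain ⟨n, hn, hnv⟩ := C.auto V hV v hv hv1 w hw hw1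
    have h1 : n⁻¹ * x * n ∈ P := by
      refine C.full hV hp2 hP hv hv1 (hXP hy) hy1 hyv ?_ (by simpa using hx.conj n⁻¹)
      have h0 := (Commute.conj_iff n⁻¹).2 hxw
      rw [← hnv] at h0
      simpa [mul_assoc] using h0
    simpa [mul_assoc] using (mem_normalizer_iff.1 (hnorm hn) _).1 h1
  refine ⟨P, hP, hfull, hnorm, fun w hw hw1 => ?_⟩
  set Z := P ⊓ centralizer (P : Set K) with hZ
  have hZodd : Odd (Nat.card Z) :=
    (odd_card_of_isPGroup hp2 hP.isPGroup).of_dvd_nat (Subgroup.card_dvd_of_le inf_le_left)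
  have hNZ : normalizer (V : Set K) ≤ normalizer (Z : Set K) :=
    Coprime.le_normalizer_inf hnorm (Coprime.le_normalizer_centralizer hnorm)
  have hZ1 : Z ≠ ⊥ := by
    intro e
    have : Nontrivial P := ⟨⟨⟨y, hXP hy⟩, 1, fun h => hy1 (congrArg Subtype.val h)⟩⟩
    have := hP.isPGroup.center_nontrivial
    obtain ⟨c, hc⟩ := exists_ne (1 : center P)
    refine hc (Subtype.ext (Subtype.ext ?_))
    show ((c : P) : K) = 1
    rw [← Subgroup.mem_bot, ← e]
    exact ⟨(c : P).2, Subgroup.mem_centralizer_iff.2 fun b hb =>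
      congrArg Subtype.val (Subgroup.mem_center_iff.1 c.2 ⟨b, hb⟩)⟩
  obtain ⟨t, ht, ht1, z, hz, hz1, hzt⟩ := hV.exists_component hZodd
    ((le_normalizer (H := V)).trans hNZ) hZ1
  obtain ⟨n, hn, hnt⟩ := C.auto V hV t ht ht1 w hw hw1
  have hz' : n * z * n⁻¹ ∈ Z := (mem_normalizer_iff.1 (hNZ hn) z).1 hz
  exact ⟨_, hz'.1, fun e => hz1 (conj_eq_one_iff.1 e), hnt ▸ (Commute.conj_iff n).2 hzt,
    fun b hb => (Subgroup.mem_centralizer_iff.1 hz'.2 b hb).symm⟩

end Cfsg.Agent.DGroupPSL
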