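import Cfsg.Agent.DGroupPSL.Basic
import Cfsg.Agent.Coprime.Tools

/-!
# Permutable subgroups and the Frattini argument
-/

set_option autoImplicit false

namespace Cfsg.Agent.DGroupPSL

open Subgroup

universe u

variable {K : Type u} [Group K]

/-- `A` and `B` permute. -/
def Perm (A B : Subgroup K) : Prop := ∀ a ∈ A, ∀ b ∈ B, ∃ b' ∈ B, ∃ a' ∈ A, a * b = b' * a'

theorem Perm.symm {A B : Subgroup K} (h : Perm A B) : Perm B A := by
  intro b hb a ha
  obtain ⟨b', hb', a', ha', e⟩ := h a⁻¹ (A.inv_mem ha) b⁻¹ (B.inv_mem hb)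
  refine ⟨a'⁻¹, A.inv_mem ha', b'⁻¹, B.inv_mem hb', ?_⟩
  rw [← mul_inv_rev, ← e, mul_inv_rev, inv_inv, inv_inv]

theorem Perm.mem_sup {A B : Subgroup K} (h : Perm A B) {x : K} (hx : x ∈ A ⊔ B) :
    ∃ a ∈ A, ∃ b ∈ B, x = a * b := by
  let S : Subgroup K :=
    { carrier := {x | ∃ a ∈ A, ∃ b ∈ B, x = a * b}
      one_mem' := ⟨1, A.one_mem, 1, B.one_mem, (one_mul 1).symm⟩
      mul_mem' := by
        rintro _ _ ⟨a, ha, b, hb, rfl⟩ ⟨c, hc, d, hd, rfl⟩
        obtain ⟨c', hc', b', hb', e⟩ := h.symm b hb c hc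
        refine ⟨a * c', A.mul_mem ha hc', b' * d, B.mul_mem hb' hd, ?_⟩
        calc a * b * (c * d) = a * (b * c) * d := by group
          _ = a * c' * (b' * d) := by rw [e]; group
      inv_mem' := by
        rintro _ ⟨a, ha, b, hb, rfl⟩
        obtain ⟨a', ha', b', hb', e⟩ := h.symm b⁻¹ (B.inv_mem hb) a⁻¹ (A.inv_mem ha)
        exact ⟨a', ha', b', hb', by rw [mul_inv_rev, e]⟩ }
  exact (sup_le (fun a ha => ⟨a, ha, 1, B.one_mem, (mul_one a).symm⟩)
    (fun b hb => ⟨1, A.one_mem, b, hb, (one_mul b).symm⟩) : A ⊔ B ≤ S) hx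

theorem Perm.sup {A B C : Subgroup K} (hab : Perm A B) (hac : Perm A C) (hbc : Perm B C) :
    Perm A (B ⊔ C) := by
  intro a ha x hx
  obtain ⟨b, hb, c, hc, rfl⟩ := hbc.mem_sup hx
  obtain ⟨b', hb', a', ha', e1⟩ := hab a ha b hb
  obtain ⟨c', hc', a'', ha'', e2⟩ := hac a' ha' c hc
  exact ⟨b' * c', mul_mem (mem_sup_left hb') (mem_sup_right hc'), a'', ha'', by
    rw [← mul_assoc, e1, mul_assoc, e2, ← mul_assoc]⟩

theorem perm_bot_right (A : Subgroup K) : Perm A ⊥ := fun a ha b hb =>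
  ⟨1, Subgroup.one_mem _, a, ha, by rw [Subgroup.mem_bot.1 hb, mul_one, one_mul]⟩

theorem Perm.odd_card [Finite K] {A B : Subgroup K} (h : Perm A B) (hA : Odd (Nat.card A))
    (hB : Odd (Nat.card B)) : Odd (Nat.card (A ⊔ B : Subgroup K)) := by
  let S := A ⊔ B
  have hidx : A.relIndex S ∣ Nat.card B := by
    let A' := A.subgroupOf S
    let B' := B.subgroupOf S
    haveI : MulAction.IsPretransitive B' (↥S ⧸ A') := by
      have key : ∀ x : ↥S ⧸ A', ∃ b : B', b • ((1 : ↥S) : ↥S ⧸ A') = x := by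
        intro x
        obtain ⟨y, rfl⟩ := QuotientGroup.mk_surjective x
        obtain ⟨b, hb, a, ha, e⟩ := h.symm.mem_sup (show (y : K) ∈ B ⊔ A by rw [sup_comm]; exact y.2)
        refine ⟨⟨⟨b, mem_sup_right hb⟩, hb⟩, ?_⟩
        refine QuotientGroup.eq.2 ?_
        show ((⟨b, _⟩ : ↥S) * 1)⁻¹ * y ∈ A.subgroupOf S
        rw [Subgroup.mem_subgroupOf]
        simpa [e] using ha
      refine ⟨fun x y => ?_⟩
      obtain ⟨b, rfl⟩ := key x
      obtain ⟨c, rfl⟩ := key y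
      exact ⟨c * b⁻¹, by rw [mul_smul, inv_smul_smul]⟩
    have h1 := MulAction.index_stabilizer_of_transitive B' ((1 : ↥S) : ↥S ⧸ A')
    have h2 : A.relIndex S = Nat.card (↥S ⧸ A') := rfl
    rw [h2, ← h1]
    exact (Subgroup.index_dvd_card _).trans (Coprime.card_subgroupOf (le_sup_right : B ≤ S)).dvd
  have h3 := (A.subgroupOf S).card_mul_index
  rw [Coprime.card_subgroupOf (le_sup_left : A ≤ S)] at h3
  show Odd (Nat.card S)
  rw [← h3]
  exact hA.mul (hB.of_dvd_nat hidx)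

/-- The Frattini argument. -/
theorem frattini_elt [Finite K] {Y P : Subgroup K} {p : ℕ} [Fact p.Prime] (hPY : P ≤ Y)
    (hPc : Nat.card P = p ^ (Nat.card Y).factorization p) {g : K}
    (hg : g ∈ normalizer (Y : Set K)) : ∃ y ∈ Y, y * g ∈ normalizer (P : Set K) := by
  let P0 : Sylow p Y := Sylow.ofCard (P.subgroupOf Y) (by rw [Coprime.card_subgroupOf hPY, hPc])
  have hP0 : (P0 : Subgroup Y) = P.subgroupOf Y := Sylow.coe_ofCard _ _
  let α : MulAut Y := Y.normalizerMonoidHom ⟨g, hg⟩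
  obtain ⟨y, hy⟩ := MulAction.exists_smul_eq Y (α • P0) P0
  have hmap : ∀ r ∈ P, (y : K) * g * r * ((y : K) * g)⁻¹ ∈ P := by
    intro r hr
    have h0 : (⟨r, hPY hr⟩ : Y) ∈ (P0 : Subgroup Y) := by
      rw [hP0, Subgroup.mem_subgroupOf]; exact hr
    have h1 : MulAut.conj y (α ⟨r, hPY hr⟩) ∈ ((y • α • P0 : Sylow p Y) : Subgroup Y) := by
      rw [Sylow.coe_subgroup_smul, Sylow.pointwise_smul_def]
      exact Subgroup.smul_mem_pointwise_smul _ _ _ (Subgroup.smul_mem_pointwise_smul _ _ _ h0)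
    rw [hy, hP0, Subgroup.mem_subgroupOf] at h1
    have e : (α ⟨r, hPY hr⟩ : K) = g * r * g⁻¹ := rfl
    simpa [e, mul_assoc] using h1
  refine ⟨y, y.2, mem_normalizer_iff.2 fun r => ⟨hmap r, fun hr => ?_⟩⟩
  have hbij : Function.Surjective (fun r : P => (⟨_, hmap r r.2⟩ : P)) :=
    Finite.surjective_of_injective fun a b e => Subtype.ext (by simpa using congrArg Subtype.val e)
  obtain ⟨r', e⟩ := hbij ⟨_, hr⟩
  have : (r' : K) = r := mul_left_cancel (mul_right_cancel (congrArg Subtype.val e))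
  exact this ▸ r'.2

end Cfsg.Agent.DGroupPSL
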