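import Cfsg.Agent.DGroupPSL.Shaped
import Cfsg.Agent.DGroupPSL.DihCase
import Cfsg.Agent.DGroupPSL.FourCent
import Cfsg.Agent.S3224
import Cfsg.Agent.Invol.QD
import Cfsg.Agent.Invol.ZStar

/-!
# A shaped involution in a reduced nonsolvable group
-/

set_option autoImplicit false

namespace Cfsg.Agent.DGroupPSL

open Subgroup Cfsg.Agent.Invol

universe u

/-- In a quasi-dihedral group all noncentral involutions are conjugate, and one involution is
central. -/
theorem qd_involutions {S : Type u} [Group S] [Finite S] (hS : Cfsg.IsQuasiDihedral S) :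
    ∃ c : S, ∀ v : S, orderOf v = 2 → v ≠ c →
      (∃ g, ¬ Commute g v) ∧ ∀ w : S, orderOf w = 2 → w ≠ c → IsConj v w := by
  obtain ⟨x, y, n, hh⟩ := qdgen_exists hS
  refine ⟨qc x n (qh n), fun v hv hvc => ?_⟩
  obtain ⟨m, rfl⟩ := ((hh.order_two.1 hv).resolve_left hvc)
  refine ⟨⟨qc x n 1, fun hc => ?_⟩, fun w hw hwc => ?_⟩
  · have h1 := hh.c_conj_cy 1 (2 * m)
    rw [hc.eq, mul_inv_cancel_right] at h1
    have h2 := hh.cy_inj h1
    have h3 : (2 - qh n) * (1 : ZMod (2 ^ n)) = 0 := by linear_combination -h2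
    have h4 := hh.cancel_two_sub h3
    rw [mul_one] at h4
    have h5 := (ZMod.natCast_eq_zero_iff 2 (2 ^ n)).1 (by exact_mod_cast h4)
    have h8 := Nat.pow_le_pow_right two_pos hh.three_le
    have := Nat.le_of_dvd two_pos h5
    omega
  · obtain ⟨m', rfl⟩ := ((hh.order_two.1 hw).resolve_left hwc)
    refine isConj_iff.2 ⟨qc x n ((m' - m) * (1 + qq n)), ?_⟩
    rw [hh.c_conj_cy, hh.solve]
    congr 2; ring

variable {X : Type u} [Group X] [Finite X]

/-- A shaped involution gives `PSL` or `PGL`. -/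
theorem Shape.main {j : X} {A : Subgroup X} (h : Shape j A) (hj : orderOf j = 2) (hO : NoOdd X)
    (hns : ¬ Group.IsSolvable X) : IsPSL2 X ∨ IsPGL2 X := by
  classical
  have : Fact (Nat.Prime 2) := ⟨Nat.prime_two⟩
  by_cases hsyl : ∃ P : Sylow 2 X, (P : Subgroup X) ≤ centralizer ({j} : Set X)
  · obtain ⟨P, hP⟩ := hsyl
    exact h.sylow_case hO hns hj hP
  push Not at hsyl
  set C := centralizer ({j} : Set X) with hC
  -- a Sylow subgroup of the centraliser inside one of `X`
  obtain ⟨S0, hjS0⟩ := (IsPGroup.of_card (n := 1) (by rw [Nat.card_zpowers, orderOf_mk, hj, pow_one]) :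
    IsPGroup 2 (zpowers (⟨j, mem_centralizer_singleton_iff.2 rfl⟩ : C))).exists_le_sylow
  obtain ⟨T, hT⟩ := (S0.2.map C.subtype).exists_le_sylow
  have hjT : j ∈ (T : Subgroup X) := hT ⟨_, hjS0 (mem_zpowers _), rfl⟩
  obtain ⟨z, hzT, hz, hzc⟩ := exists_central_involution T (hj ▸ orderOf_dvd_natCard j)
  have hzj : Commute z j := (hzc j hjT).symm
  have hnc : ∀ w : X, (∀ x ∈ (T : Subgroup X), Commute x w) → ¬ IsConj j w := by
    intro w hw hconj
    obtain ⟨g, hg⟩ := isConj_iff.1 hconj.symm
    refine hsyl (MulAut.conj g • T) fun y hy => ?_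
    rw [Sylow.pointwise_smul_def] at hy
    obtain ⟨y', hy', rfl⟩ := hy
    refine mem_centralizer_singleton_iff.2 ?_
    show g * y' * g⁻¹ * j = j * (g * y' * g⁻¹)
    rw [← hg]
    exact ((Commute.conj_iff g).2 (hw y' hy')).eq
  have hzne : z ≠ j := fun e => hnc z hzc (e ▸ IsConj.refl _)
  have hzA : z ∉ A := h.other_notMem hz hzne
  have hA2 : ∀ x ∈ A, Commute x z → x = 1 ∨ x = j := fun x hx hxz =>
    h.eq_of_commute hz hzne hzj hx hxz.symm
  have hTC : ∀ x : X, Commute x z → Commute x j → x = 1 ∨ x = j ∨ x = z ∨ x = j * z := by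
    intro x hxz hxj
    by_cases hxA : x ∈ A
    · rcases hA2 x hxA hxz with e | e
      exacts [Or.inl e, Or.inr (Or.inl e)]
    · have hm := h.index_two x z hxj hzj hxA hzA
      have e : x = x * z * z := by rw [mul_assoc, inv2_mul_self hz, mul_one]
      rcases hA2 _ hm (hxz.mul_left (Commute.refl z)) with e' | e' <;> rw [e'] at e
      · rw [one_mul] at e; exact Or.inr (Or.inr (Or.inl e))
      · exact Or.inr (Or.inr (Or.inr e))
  obtain ⟨V, hV, hjV, hzV⟩ := exists_four hj hz hzne hzj
  set jT : (T : Subgroup X) := ⟨j, hjT⟩ with hjTdef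
  have hcard : Nat.card (centralizer ({jT} : Set (T : Subgroup X))) = 4 := by
    have e : (centralizer ({jT} : Set (T : Subgroup X))).map (T : Subgroup X).subtype = V := by
      refine le_antisymm ?_ fun y hy => ?_
      · rintro _ ⟨y, hy, rfl⟩
        rcases hTC y (hzc y y.2) (congrArg Subtype.val (mem_centralizer_singleton_iff.1 hy : y * jT = jT * y)) with e | e | e | e <;>
          rw [Subgroup.coe_subtype, e]
        exacts [V.one_mem, hjV, hzV, V.mul_mem hjV hzV]
      · have hyT : y ∈ (T : Subgroup X) := by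
          rcases hV.mem_cases hjV hzV (inv2_ne_one hj) (inv2_ne_one hz) hzne.symm hy with e | e | e | e <;>
            rw [e]
          exacts [one_mem _, hjT, hzT, mul_mem hjT hzT]
        exact ⟨⟨y, hyT⟩, mem_centralizer_singleton_iff.2 (Subtype.ext (hV.commute hy hjV).eq), rfl⟩
    rw [← card_map_of_injective (T : Subgroup X).subtype_injective, e, hV.card]
  have hjT2 : orderOf jT = 2 := by rw [hjTdef, orderOf_mk]; exact hj
  rcases S3224.result T.2 jT hjT2 hcard with ⟨n, ⟨e⟩⟩ | hqd | h4
  · have hn : 4 ≤ n := by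
      by_contra hlt
      refine hsyl T fun x hx => ?_
      have hT4 : Nat.card (T : Subgroup X) ≤ 4 := by
        obtain ⟨m, hm⟩ := T.2.exists_card_eq
        have h1 := Nat.card_congr e.toEquiv
        rw [DihedralGroup.nat_card] at h1
        have h2 : Nat.card (T : Subgroup X) ≤ 6 := by omega
        rcases Nat.lt_or_ge m 3 with hm' | hm'
        · rw [hm]; exact (Nat.pow_le_pow_right two_pos (by omega : m ≤ 2))
        · have := Nat.pow_le_pow_right two_pos hm'
          omega
      have htop : centralizer ({jT} : Set (T : Subgroup X)) = ⊤ :=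
        Subgroup.eq_top_of_le_card _ (by rw [hcard]; exact hT4)
      have hx' : (⟨x, hx⟩ : (T : Subgroup X)) ∈ centralizer ({jT} : Set (T : Subgroup X)) := by
        rw [htop]; exact Subgroup.mem_top _
      have h3 : (⟨x, hx⟩ : (T : Subgroup X)) * jT = jT * ⟨x, hx⟩ :=
        mem_centralizer_singleton_iff.1 hx'
      exact mem_centralizer_singleton_iff.2 (congrArg Subtype.val h3)
    obtain ⟨k, ι, DD, hk⟩ := ddata_exists T (by omega) e
    have hk2 : 2 ≤ k := by
      by_contra hlt
      have : 2 ^ k ≤ 2 ^ 1 := Nat.pow_le_pow_right two_pos (by omega)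
      omega
    rcases DD.involution_cases hjT hj with e' | ⟨a, e'⟩
    · exact absurd (e' ▸ IsConj.refl j) (hnc _ fun x hx => DD.z_comm hx)
    · subst e'
      exact Or.inr (dihedral_case DD hk2 hO hns h (hnc _ fun x hx => DD.z_comm hx))
  · exfalso
    obtain ⟨c, hc⟩ := qd_involutions hqd
    have hzT2 : orderOf (⟨z, hzT⟩ : (T : Subgroup X)) = 2 := by rw [orderOf_mk]; exact hz
    have hzc' : (⟨z, hzT⟩ : (T : Subgroup X)) = c := by
      by_contra hne
      obtain ⟨g, hg⟩ := (hc _ hzT2 hne).1
      exact hg (Subtype.ext (hzc g g.2).eq)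
    have hjc : jT ≠ c := fun e => hzne (congrArg Subtype.val (hzc'.trans e.symm))
    have hiso : Cfsg.IsIsolatedInvolution z := by
      refine ⟨hz, fun g hg => ?_⟩
      set w := g * z * g⁻¹ with hw
      have hw2 : orderOf w = 2 := by rw [hw, Invol.orderOf_conj, hz]
      have hTz : (T : Subgroup X) ≤ centralizer ({z} : Set X) := fun x hx =>
        mem_centralizer_singleton_iff.2 (hzc x hx).eq
      obtain ⟨R, hR⟩ := (IsPGroup.of_card (n := 1) (by rw [Nat.card_zpowers, orderOf_mk, hw2, pow_one]) :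
        IsPGroup 2 (zpowers (⟨w, mem_centralizer_singleton_iff.2 hg.symm.eq⟩ :
          centralizer ({z} : Set X)))).exists_le_sylow
      obtain ⟨l, hl⟩ := MulAction.exists_smul_eq (centralizer ({z} : Set X)) R (T.subtype hTz)
      have h1 : MulAut.conj l ⟨w, mem_centralizer_singleton_iff.2 hg.symm.eq⟩ ∈
          ((l • R : Sylow 2 (centralizer ({z} : Set X))) : Subgroup (centralizer ({z} : Set X))) := by
        rw [Sylow.coe_subgroup_smul]
        exact Subgroup.smul_mem_pointwise_smul _ _ _ (hR (mem_zpowers _))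
      rw [hl, Sylow.coe_subtype, Subgroup.mem_subgroupOf] at h1
      have h1' : (l : X) * w * (l : X)⁻¹ ∈ (T : Subgroup X) := by simpa using h1
      have h2 : orderOf (⟨_, h1'⟩ : (T : Subgroup X)) = 2 := by
        rw [orderOf_mk, Invol.orderOf_conj, hw2]
      by_cases hev : (⟨_, h1'⟩ : (T : Subgroup X)) = c
      · have e : (l : X) * w * (l : X)⁻¹ = (l : X) * z * (l : X)⁻¹ := by
          have e0 : (l : X) * w * (l : X)⁻¹ = z := congrArg Subtype.val (hev.trans hzc'.symm)
          rw [e0,
            (show Commute (l : X) z from mem_centralizer_singleton_iff.1 l.2).eq, mul_inv_cancel_right]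
        exact mul_left_cancel (mul_right_cancel e)
      · exfalso
        obtain ⟨d, hd⟩ := isConj_iff.1 ((hc jT hjT2 hjc).2 _ h2 hev)
        have hd' := congrArg Subtype.val hd
        simp only [Subgroup.coe_mul, Subgroup.coe_inv] at hd'
        exact hnc z hzc ((isConj_iff.2 ⟨(d : X), hd'⟩ : IsConj j _).trans
          ((isConj_iff.2 ⟨(l : X) * g, by rw [hw]; group⟩ : IsConj z _).symm))
    have hcen : ∀ g : X, Commute g z := fun g => by
      have h1 := Invol.zstar_mem_center hiso
      have h2 := Subgroup.mem_center_iff.1 h1 (g : X ⧸ Cfsg.oddCore X)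
      rw [← QuotientGroup.mk_mul, ← QuotientGroup.mk_mul, QuotientGroup.eq,
        hO (Cfsg.oddCore X) inferInstance odd_card_oddCore, Subgroup.mem_bot] at h2
      exact inv_mul_eq_one.1 h2
    obtain ⟨iso⟩ := four_cent_eq_a5 _ X rfl hO hns j z hj hz hzne hzj fun x hx => hTC x (hcen x) hx
    have := a5_center_trivial (iso z) fun b => by
      obtain ⟨b, rfl⟩ := iso.surjective b
      rw [← map_mul, ← map_mul, (hcen b).eq]
    exact inv2_ne_one hz (iso.injective (this.trans (map_one iso).symm))
  · exfalso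
    have htop : centralizer ({jT} : Set (T : Subgroup X)) = ⊤ :=
      Subgroup.eq_top_of_card_eq _ (by rw [hcard, h4])
    refine hsyl T fun x hx => ?_
    have hx' : (⟨x, hx⟩ : (T : Subgroup X)) ∈ centralizer ({jT} : Set (T : Subgroup X)) := by
      rw [htop]; exact Subgroup.mem_top _
    have h3 : (⟨x, hx⟩ : (T : Subgroup X)) * jT = jT * ⟨x, hx⟩ :=
      mem_centralizer_singleton_iff.1 hx'
    exact mem_centralizer_singleton_iff.2 (congrArg Subtype.val h3)

end Cfsg.Agent.DGroupPSL
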