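import Cfsg.Agent.DGroupPSL.Concl
import Cfsg.Agent.AutPSL.Two
import Cfsg.Agent.AutPSL.Structure
import Cfsg.Agent.TwoTransfer.Basic
import Cfsg.Agent.Classical.LinearBasic
import Cfsg.Agent.S2202
import Cfsg.Agent.S0205
import Mathlib.GroupTheory.Transfer
import Mathlib.FieldTheory.Finite.Basic

/-!
# The abelian subgroup contains two involutions
-/

set_option autoImplicit false

namespace Cfsg.Agent.DGroupPSL

open Subgroup
open scoped commutatorElement
open Cfsg.Agent.AutPSL (SLn PSLn mkP xu conjA fieldA)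

universe u

variable {G : Type u} [Group G] [Finite G]

/-! ## Auxiliary facts -/

theorem solvable_of_normal_sylow {X : Type*} [Group X] [Finite X] (P : Sylow 2 X)
    (hP : (P : Subgroup X).Normal) : Group.IsSolvable X := by
  have : Fact (Nat.Prime 2) := ⟨Nat.prime_two⟩
  have hodd : Odd (Nat.card (X ⧸ (P : Subgroup X))) := by
    rw [← Nat.not_even_iff_odd, even_iff_two_dvd]
    exact P.not_dvd_index
  haveI : Group.IsSolvable (X ⧸ (P : Subgroup X)) := S0205.result hodd
  haveI := P.2.isNilpotent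
  exact Group.isSolvable_of_ker_le_range (P : Subgroup X).subtype
    (QuotientGroup.mk' (P : Subgroup X)) (by simp)

theorem solvable_of_cyclic_sylow {X : Type*} [Group X] [Finite X] (P : Sylow 2 X)
    (hc : IsCyclic P) : Group.IsSolvable X := by
  have : Fact (Nat.Prime 2) := ⟨Nat.prime_two⟩
  rcases Nat.even_or_odd (Nat.card X) with he | ho
  swap
  · exact S0205.result ho
  have hp : (Nat.card X).minFac = 2 := (Nat.minFac_eq_two_iff _).2 (even_iff_two_dvd.1 he)
  have hc' := IsCyclic.isComplement' hp hc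
  set N := (MonoidHom.transferSylow P (hc.normalizer_le_centralizer hp)).ker
  have hodd : Odd (Nat.card N) := by
    rw [← hc'.index_eq_card, ← Nat.not_even_iff_odd, even_iff_two_dvd]
    exact P.not_dvd_index
  haveI : Group.IsSolvable N := S0205.result hodd
  haveI : Group.IsSolvable (MonoidHom.transferSylow P (hc.normalizer_le_centralizer hp)).range := by
    haveI := P.2.isNilpotent
    infer_instance
  exact Group.isSolvable_of_ker_le_range N.subtype
    (MonoidHom.transferSylow P (hc.normalizer_le_centralizer hp)) (by simp [N])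

section Field

variable {F : Type} [Field F] [Fintype F] [CharP F 2]

theorem mkP_injective : Function.Injective (mkP (n := 2) (F := F)) := by
  refine (injective_iff_map_eq_one _).2 fun s hs => ?_
  obtain ⟨r, hr, hr'⟩ :=
    Matrix.SpecialLinearGroup.mem_center_iff.1 (AutPSL.mkP_eq_one_iff.1 hs)
  rw [Fintype.card_fin] at hr
  have h1 : r = 1 := CharTwo.sq_inj.1 (by rw [hr, one_pow])
  exact AutPSL.sl_ext (by rw [← hr', h1, map_one, Matrix.SpecialLinearGroup.coe_one])

theorem solvable_sl2_two : Group.IsSolvable (Matrix.SpecialLinearGroup (Fin 2) (ZMod 2)) := by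
  set X := Matrix.SpecialLinearGroup (Fin 2) (ZMod 2)
  have hcard : Nat.card X = 6 := by rw [Nat.card_eq_fintype_card]; decide +kernel
  haveI : Fact (Nat.Prime 3) := ⟨Nat.prime_three⟩
  obtain ⟨P⟩ : Nonempty (Sylow 3 X) := inferInstance
  have h63 : Nat.factorization 6 3 = 1 := by
    rw [show (6 : ℕ) = 2 * 3 from rfl, Nat.factorization_mul (by norm_num) (by norm_num),
      Nat.prime_two.factorization, Nat.prime_three.factorization]
    simp
  have hP : Nat.card P = 3 := by
    rw [P.card_eq_multiplicity, hcard, h63, pow_one]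
  have hidx : (P : Subgroup X).index = 2 := by
    have := (P : Subgroup X).card_mul_index
    rw [hcard, hP] at this
    omega
  haveI : (P : Subgroup X).Normal := Subgroup.normal_of_index_eq_two hidx
  haveI := isCyclic_of_prime_card hP
  haveI : Group.IsSolvable (P : Subgroup X) :=
    Group.isSolvable_of_comm fun a b => IsMulCommutative.is_comm.comm a b
  haveI : IsCyclic (X ⧸ (P : Subgroup X)) :=
    isCyclic_of_prime_card (p := 2) (by rw [← Subgroup.index_eq_card]; exact hidx)
  haveI : Group.IsSolvable (X ⧸ (P : Subgroup X)) :=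
    Group.isSolvable_of_comm fun a b => IsMulCommutative.is_comm.comm a b
  exact Group.isSolvable_of_ker_le_range (P : Subgroup X).subtype
    (QuotientGroup.mk' (P : Subgroup X)) (by simp)

theorem four_le_card_of_not_solvable (hns : ¬ Group.IsSolvable (SLn 2 F)) :
    4 ≤ Fintype.card F := by
  by_contra hlt
  obtain ⟨k, hp, hk⟩ := FiniteField.card F 2
  have h2 : Fintype.card F = 2 := by
    have hk1 : (k : ℕ) = 1 := by
      have := k.pos
      by_contra hne
      have : 2 ^ 2 ≤ 2 ^ (k : ℕ) := Nat.pow_le_pow_right (by norm_num) (by omega)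
      omega
    rw [hk, hk1, pow_one]
  apply hns
  haveI := solvable_sl2_two
  let e := (ZMod.ringEquivOfPrime F Nat.prime_two h2).symm
  refine Group.isSolvable_of_isSolvable_injective
    (f := Matrix.SpecialLinearGroup.map (n := Fin 2) e.toRingHom) fun a b h => ?_
  refine AutPSL.sl_ext (Matrix.ext fun i j => e.injective ?_)
  exact congrFun (congrFun (congrArg Subtype.val h) i) j

theorem isSimpleGroup_psl2 (hq : 4 ≤ Fintype.card F) : IsSimpleGroup (PSLn 2 F) := by
  classical
  refine Classical.isSimpleGroup_psl (Or.inr ⟨by simp, ?_⟩)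
  obtain ⟨x, hx⟩ : ∃ x : F, x ∉ ({0, 1} : Finset F) := by
    by_contra h
    push Not at h
    have := Finset.card_le_card (fun x (_ : x ∈ Finset.univ) => h x)
    rw [Finset.card_univ] at this
    have := this.trans Finset.card_le_two
    omega
  simp only [Finset.mem_insert, Finset.mem_singleton, not_or] at hx
  exact ⟨x, hx.1, fun h => hx.2 (CharTwo.sq_inj.1 (by rw [h, one_pow]))⟩

theorem not_comm_psl2 : ∃ a b : PSLn 2 F, a * b ≠ b * a := by
  refine ⟨mkP (xu 1), mkP (AutPSL.xr (show (1 : Fin 2) ≠ 0 by decide) 1), fun h => ?_⟩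
  rw [← map_mul, ← map_mul] at h
  have := congrFun (congrFun (congrArg Subtype.val (mkP_injective h)) 0) 0
  simp [Matrix.mul_apply, Fin.sum_univ_two, Matrix.SpecialLinearGroup.transvection_coe,
    Matrix.single] at this

/-- An automorphism centralising the unitriangular group is induced by one of its elements. -/
theorem eq_conj_xu (β : MulAut (PSLn 2 F)) (h : ∀ t, β (mkP (xu t)) = mkP (xu t)) :
    ∃ b : F, β = MulAut.conj (mkP (xu b)) := by
  haveI := Fact.mk Nat.prime_two
  obtain ⟨g, σ, rfl⟩ := AutPSL.exists_decomp_two 2 β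
  have key : ∀ t, (g : Matrix (Fin 2) (Fin 2) F) * !![1, σ t; 0, 1] =
      !![1, t; 0, 1] * (g : Matrix (Fin 2) (Fin 2) F) := by
    intro t
    have h1 := h t
    rw [MulAut.mul_apply, AutPSL.fieldA_mkP, AutPSL.conjA_mkP, AutPSL.fieldA_xr] at h1
    have h2 := congrArg Subtype.val (mkP_injective h1)
    rw [AutPSL.conjSL_coe, AutPSL.xu_coe, AutPSL.xu_coe] at h2
    rw [← h2, Matrix.mul_assoc _ ((g⁻¹ : GL (Fin 2) F) : Matrix (Fin 2) (Fin 2) F), Units.inv_mul,
      Matrix.mul_one]
  have k1 := key 1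
  rw [map_one] at k1
  have e00 := congrFun (congrFun k1 0) 0
  have e01 := congrFun (congrFun k1 0) 1
  simp [Matrix.mul_apply, Fin.sum_univ_two] at e00 e01
  set a := (g : Matrix (Fin 2) (Fin 2) F) 0 0 with ha
  set b := (g : Matrix (Fin 2) (Fin 2) F) 0 1 with hb
  have h10 : (g : Matrix (Fin 2) (Fin 2) F) 1 0 = 0 := e00
  have h11 : (g : Matrix (Fin 2) (Fin 2) F) 1 1 = a := by linear_combination -e01
  have ha0 : a ≠ 0 := by
    intro hz
    have := g.det_ne_zero
    rw [Matrix.det_fin_two, ← ha, hz, h10] at this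
    simp at this
  have hσ : σ = 1 := by
    refine RingEquiv.ext fun t => ?_
    have := congrFun (congrFun (key t) 0) 1
    simp [Matrix.mul_apply, Fin.sum_univ_two, h11] at this
    exact mul_left_cancel₀ ha0 (show a * σ t = a * t by linear_combination this)
  refine ⟨b / a, ?_⟩
  rw [hσ, map_one, mul_one, ← AutPSL.conjA_toGL]
  have hg : g = Matrix.GeneralLinearGroup.scalar (Fin 2) (Units.mk0 a ha0) *
      Matrix.SpecialLinearGroup.toGL (xu (b / a)) := by
    refine Units.ext ?_
    rw [Units.val_mul, Matrix.GeneralLinearGroup.coe_scalar]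
    show _ = _ * ((xu (b / a) : SLn 2 F) : Matrix (Fin 2) (Fin 2) F)
    rw [AutPSL.xu_coe]
    ext i j
    fin_cases i <;> fin_cases j <;>
      simp [Matrix.mul_apply, Fin.sum_univ_two, h10, h11, ← ha, ← hb, mul_div_cancel₀ _ ha0]
  rw [hg, map_mul]
  have hc : conjA (Matrix.GeneralLinearGroup.scalar (Fin 2) (Units.mk0 a ha0)) =
      (1 : MulAut (PSLn 2 F)) := by
    refine AutPSL.center_le_ker _ ?_
    rw [Matrix.GeneralLinearGroup.center_eq_range_scalar]
    exact ⟨_, rfl⟩
  rw [hc, one_mul]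

/-- Every involution is conjugate to the standard unitriangular one. -/
theorem exists_conj_xu_one (s : PSLn 2 F) (hs : orderOf s = 2) :
    ∃ c : PSLn 2 F, c * mkP (xu 1) * c⁻¹ = s := by
  obtain ⟨m, rfl⟩ := AutPSL.mkP_surjective s
  have hm1 : m ≠ 1 := fun e => by rw [e, map_one, orderOf_one] at hs; omega
  have hmm : m * m = 1 := mkP_injective (by
    rw [map_mul, map_one, ← pow_two]
    have h := pow_orderOf_eq_one (mkP m)
    rwa [hs] at h)
  set M := (m : Matrix (Fin 2) (Fin 2) F) with hM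
  have hsq : M * M = 1 := by
    rw [hM, ← Matrix.SpecialLinearGroup.coe_mul, hmm, Matrix.SpecialLinearGroup.coe_one]
  have hdet : M 0 0 * M 1 1 - M 0 1 * M 1 0 = 1 := by
    rw [← Matrix.det_fin_two]; exact m.2
  have e00 := congrFun (congrFun hsq 0) 0
  simp [Matrix.mul_apply, Fin.sum_univ_two] at e00
  have htr : M 1 1 = M 0 0 := by
    by_cases ha : M 0 0 = 0
    · rw [ha]
      have h01 : M 0 1 * M 1 0 = 1 := by rw [ha] at e00; simpa using e00
      have e01 := congrFun (congrFun hsq 0) 1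
      simp [Matrix.mul_apply, Fin.sum_univ_two, ha] at e01
      exact e01.resolve_left fun h => by rw [h] at h01; simp at h01
    · refine mul_left_cancel₀ ha ?_
      linear_combination hdet + e00 + (1 - M 0 0 * M 0 0) * (CharTwo.two_eq_zero (R := F))
  obtain ⟨r, hr⟩ : ∃ r : F → F, ∀ w, r w ^ 2 = w :=
    ⟨fun w => (FiniteField.isSquare_of_char_two (ringChar.eq F 2) w).choose, fun w => by
      rw [pow_two]
      exact (FiniteField.isSquare_of_char_two (ringChar.eq F 2) w).choose_spec.symm⟩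
  have ha2 : M 0 0 * M 0 0 + M 0 1 * M 1 0 = 1 := e00
  -- solve for the conjugating matrix
  obtain ⟨x, y, z, w, hd, h1, h2, h3⟩ : ∃ x y z w : F, x * w - y * z = 1 ∧
      1 + x * z = M 0 0 ∧ x * x = M 0 1 ∧ z * z = M 1 0 := by
    by_cases hb : M 0 1 = 0
    · have ha : M 0 0 = 1 := CharTwo.sq_inj.1 (by
        rw [hb, zero_mul, add_zero] at ha2; rw [pow_two, ha2, one_pow])
      have hc : M 1 0 ≠ 0 := fun hc => hm1 (AutPSL.sl_ext (by
        ext i j
        fin_cases i <;> fin_cases j <;> simp [← hM, hb, hc, ha, htr]))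
      have hr0 : r (M 1 0) ≠ 0 := fun h => hc (by rw [← hr (M 1 0), h]; simp)
      refine ⟨0, (r (M 1 0))⁻¹, r (M 1 0), 0, ?_, by simp [ha], by simp [hb],
        by rw [← pow_two, hr]⟩
      rw [zero_mul, inv_mul_cancel₀ hr0, zero_sub, CharTwo.neg_eq]
    · have hr0 : r (M 0 1) ≠ 0 := fun h => hb (by rw [← hr (M 0 1), h]; simp)
      refine ⟨r (M 0 1), 0, (1 + M 0 0) / r (M 0 1), (r (M 0 1))⁻¹, ?_, ?_,
        by rw [← pow_two, hr], ?_⟩
      · rw [mul_inv_cancel₀ hr0]; simp
      · rw [mul_div_cancel₀ _ hr0, ← add_assoc, CharTwo.add_self_eq_zero, zero_add]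
      · rw [div_mul_div_comm, ← pow_two (r (M 0 1)), hr, div_eq_iff hb]
        linear_combination ha2 + (CharTwo.two_eq_zero (R := F)) * (1 + M 0 0 - M 0 1 * M 1 0)
  let c : SLn 2 F := ⟨!![x, y; z, w], by rw [Matrix.det_fin_two_of]; exact hd⟩
  refine ⟨mkP c, ?_⟩
  rw [mul_inv_eq_iff_eq_mul, ← map_mul, ← map_mul]
  refine congrArg mkP (AutPSL.sl_ext ?_)
  rw [Matrix.SpecialLinearGroup.coe_mul, Matrix.SpecialLinearGroup.coe_mul, AutPSL.xu_coe]
  show !![x, y; z, w] * !![1, 1; 0, 1] = M * !![x, y; z, w]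
  have h2' : (2 : F) = 0 := CharTwo.two_eq_zero
  ext i j
  fin_cases i <;> fin_cases j <;> simp [Matrix.mul_apply, Fin.sum_univ_two, ← h1, ← h2, ← h3, htr]
  · linear_combination (-(x * x * z)) * h2'
  · linear_combination x * hd + (x - x * x * w) * h2'
  · linear_combination (-(x * z * z)) * h2'
  · linear_combination z * hd + (z - x * z * w) * h2'

end Field

/-! ## The two cases -/

/-- Involution centralisers equal to one elementary abelian group. -/
theorem elementary_case (H : Subgroup G) (hel : ∀ x ∈ H, x * x = 1) (h4 : 4 ∣ Nat.card H)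
    (hC : ∀ j ∈ H, j ≠ 1 → Subgroup.centralizer ({j} : Set G) = H)
    (hns : ¬ Group.IsSolvable G) : Concl G := by
  classical
  have : Fact (Nat.Prime 2) := ⟨Nat.prime_two⟩
  have hcomm : ∀ x ∈ H, ∀ y ∈ H, x * y = y * x := fun x hx y hy => by
    calc x * y = (x * y)⁻¹ := (inv_eq_of_mul_eq_one_right (hel _ (mul_mem hx hy))).symm
      _ = y * x := by
        rw [_root_.mul_inv_rev, inv_eq_of_mul_eq_one_right (hel y hy),
          inv_eq_of_mul_eq_one_right (hel x hx)]
  have h2H : IsPGroup 2 H := fun x => ⟨1, Subtype.ext (by rw [pow_one, pow_two]; exact hel x x.2)⟩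
  obtain ⟨T, hT⟩ := h2H.exists_le_sylow
  have hHne : ∃ j ∈ H, j ≠ 1 := by
    by_contra hh
    push Not at hh
    have : H = ⊥ := (Subgroup.eq_bot_iff_forall H).2 hh
    rw [this, Subgroup.card_bot] at h4
    omega
  obtain ⟨j, hjH, hj1⟩ := hHne
  have hTH : (T : Subgroup G) = H := by
    haveI : Nontrivial T := (Subgroup.nontrivial_iff_exists_ne_one _).2 ⟨j, hT hjH, hj1⟩
    haveI := T.2.center_nontrivial
    obtain ⟨z, hz, hz1⟩ := (Subgroup.nontrivial_iff_exists_ne_one (center T)).1 inferInstance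
    have hzc : ∀ y ∈ (T : Subgroup G), y * (z : G) = z * y := fun y hy =>
      congrArg Subtype.val (mem_center_iff.1 hz ⟨y, hy⟩)
    have hzH : (z : G) ∈ H := by
      rw [← hC j hjH hj1]; exact mem_centralizer_singleton_iff.2 (hzc j (hT hjH)).symm
    refine le_antisymm (fun y hy => ?_) hT
    rw [← hC z hzH (fun e => hz1 (Subtype.ext e))]
    exact mem_centralizer_singleton_iff.2 (hzc y hy)
  have hconjT : ∀ t : G, orderOf t = 2 → ∃ g : G, g * t * g⁻¹ ∈ H ∧ g * t * g⁻¹ ≠ 1 := by
    intro t ht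
    have hp : IsPGroup 2 (zpowers t) := IsPGroup.of_card (n := 1) (by simp [Nat.card_zpowers, ht])
    obtain ⟨Q, hQ⟩ := hp.exists_le_sylow
    obtain ⟨g, rfl⟩ := MulAction.exists_smul_eq G Q T
    refine ⟨g, ?_, ?_⟩
    · rw [← hTH, Sylow.coe_subgroup_smul]
      exact ⟨t, hQ (mem_zpowers t), rfl⟩
    · intro e
      rw [conj_eq_one_iff] at e
      rw [e, orderOf_one] at ht
      omega
  have hcent : ∀ t : G, orderOf t = 2 →
      IsMulCommutative ↥(Subgroup.centralizer ({t} : Set G)) := by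
    intro t ht
    obtain ⟨g, hgH, hg1⟩ := hconjT t ht
    refine ⟨⟨fun x y => Subtype.ext ?_⟩⟩
    have hm : ∀ w : centralizer ({t} : Set G), g * (w : G) * g⁻¹ ∈ H := fun w => by
      rw [← hC _ hgH hg1]
      exact mem_centralizer_singleton_iff.2
        ((Commute.conj_iff g).2 (mem_centralizer_singleton_iff.1 w.2))
    exact (Commute.conj_iff g).1 (hcomm _ (hm x) _ (hm y))
  have heven : Even (Nat.card G) :=
    even_iff_two_dvd.2 ((dvd_trans (by norm_num) h4).trans (Subgroup.card_subgroup_dvd_card H))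
  rcases S2202.result heven hcent with hc | hn | ⟨F, _, _, A, _, _, hchar, hAodd, ⟨e⟩⟩
  · exact absurd (solvable_of_cyclic_sylow T (hc T)) hns
  · exact absurd (solvable_of_normal_sylow T (hn T)) hns
  haveI := hchar
  have hA1 : ∀ a : A, a = 1 := by
    intro a
    set t := e.symm (xu 1, 1) with ht
    have hx : orderOf (xu (1 : F)) = 2 := by
      refine orderOf_eq_prime ?_ fun h => ?_
      · rw [pow_two]
        refine AutPSL.sl_ext ?_
        rw [Matrix.SpecialLinearGroup.coe_mul, AutPSL.xu_coe, Matrix.mul_fin_two,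
          Matrix.SpecialLinearGroup.coe_one, Matrix.one_fin_two]
        simp [CharTwo.add_self_eq_zero]
      · simpa [AutPSL.xu_coe] using congrFun (congrFun (congrArg Subtype.val h) 0) 1
    have ht2 : orderOf t = 2 := by
      rw [ht, MulEquiv.orderOf_eq, Prod.orderOf_mk, orderOf_one, hx]; decide
    obtain ⟨g, hgH, hg1⟩ := hconjT t ht2
    set b := e.symm ((1 : SLn 2 F), a) with hb
    have hbt : Commute b t := by
      have hp : Commute ((1 : SLn 2 F), a) (xu (1 : F), (1 : A)) :=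
        Prod.ext (by simp) (by simp)
      exact hp.map e.symm
    have hbH : g * b * g⁻¹ ∈ H := by
      rw [← hC _ hgH hg1]
      exact mem_centralizer_singleton_iff.2 ((Commute.conj_iff g).2 hbt)
    have hb2 : b * b = 1 := by
      have := hel _ hbH
      rwa [show g * b * g⁻¹ * (g * b * g⁻¹) = g * (b * b) * g⁻¹ by group, conj_eq_one_iff] at this
    have ha2 : a * a = 1 := by
      have := congrArg (fun w => (e w).2) hb2
      simpa [hb] using this
    have hd : orderOf a ∣ 2 := orderOf_dvd_of_pow_eq_one (by rw [pow_two]; exact ha2)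
    rcases (Nat.dvd_prime Nat.prime_two).1 hd with h | h
    · exact orderOf_eq_one_iff.1 h
    · exact absurd (h ▸ orderOf_dvd_natCard a) hAodd.not_two_dvd_nat
  let e1 : G ≃* SLn 2 F := e.trans
    { toFun := Prod.fst
      invFun := fun s => (s, 1)
      left_inv := fun w => Prod.ext rfl (hA1 w.2).symm
      right_inv := fun _ => rfl
      map_mul' := fun _ _ => rfl }
  have hq : 4 ≤ Fintype.card F := four_le_card_of_not_solvable fun hs => by
    haveI := hs
    exact hns (Group.isSolvable_of_isSolvable_injective (f := e1.toMonoidHom) e1.injective)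
  refine ⟨⊥, inferInstance, Or.inl (by simp), F, inferInstance, inferInstance, by omega, Or.inl ?_⟩
  exact ⟨QuotientGroup.quotientBot.trans
    (e1.trans (MulEquiv.ofBijective mkP ⟨mkP_injective, AutPSL.mkP_surjective⟩))⟩

/-- Involution centralisers dihedral-like over an abelian group with two involutions. -/
theorem rank_two_case (H A : Subgroup G) (hAH : A ≤ H) (hcomm : ∀ a ∈ A, ∀ b ∈ A, Commute a b)
    (hidx : ∀ x ∈ H, ∀ y ∈ H, x ∉ A → y ∉ A → x * y ∈ A) (hx : ∃ x ∈ H, x ∉ A)
    (hsq : ∀ x ∈ H, x ∉ A → x * x = 1)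
    (hinv : ∀ x ∈ H, x ∉ A → ∀ a ∈ A, x * a * x⁻¹ = a⁻¹) (hne : ∃ a ∈ A, a * a ≠ 1)
    (htwo : ∃ i ∈ A, ∃ j ∈ A, orderOf i = 2 ∧ orderOf j = 2 ∧ i ≠ j)
    (hC : ∀ j ∈ A, orderOf j = 2 → Subgroup.centralizer ({j} : Set G) = H)
    (hns : ¬ Group.IsSolvable G) : Concl G := by
  classical
  have : Fact (Nat.Prime 2) := ⟨Nat.prime_two⟩
  have inv2 : ∀ {a : G}, a * a = 1 → a ≠ 1 → orderOf a = 2 := fun h h1 =>
    orderOf_eq_prime (by rw [pow_two]; exact h) h1
  have sq2 : ∀ {a : G}, orderOf a = 2 → a * a = 1 := fun h => by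
    rw [← pow_two, ← h, pow_orderOf_eq_one]
  have hconjA : ∀ h ∈ H, ∀ a ∈ A, h * a * h⁻¹ ∈ A := by
    intro h hh a ha
    by_cases hA : h ∈ A
    · exact mul_mem (mul_mem hA ha) (inv_mem hA)
    · rw [hinv h hh hA a ha]; exact inv_mem ha
  -- (a) involutions outside `A` are not conjugate into `A`
  have fusA : ∀ s ∈ H, s ∉ A → ∀ g : G, g * s * g⁻¹ ∈ A → False := by
    intro s hs hsA g hgs
    have hs2 : s * s = 1 := hsq s hs hsA
    have hs1 : s ≠ 1 := fun e => hsA (e ▸ one_mem A)
    set k := g * s * g⁻¹ with hk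
    have hk2 : orderOf k = 2 := inv2
      (by rw [hk, show g * s * g⁻¹ * (g * s * g⁻¹) = g * (s * s) * g⁻¹ by group, hs2]; group)
      (by rw [hk, Ne, conj_eq_one_iff]; exact hs1)
    have hKiff : ∀ y, Commute y s ↔ g * y * g⁻¹ ∈ H := by
      intro y
      rw [← hC k hgs hk2, mem_centralizer_singleton_iff, hk]
      exact (Commute.conj_iff g).symm
    obtain ⟨i, hi, j, hj, hi2, hj2, hij⟩ := htwo
    have cs : ∀ a ∈ A, orderOf a = 2 → Commute a s := by
      intro a ha ha2
      have h := hinv s hs hsA a ha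
      rw [inv_eq_of_mul_eq_one_right (sq2 ha2), mul_inv_eq_iff_eq_mul] at h
      exact h.symm
    have hij2 : orderOf (i * j) = 2 := inv2
      (by rw [(hcomm j hj i hi).mul_mul_mul_comm, sq2 hi2, sq2 hj2, one_mul])
      (fun e => hij (by rw [eq_inv_of_mul_eq_one_left e, inv_eq_of_mul_eq_one_right (sq2 hj2)]))
    have htriple : ∃ a ∈ A, orderOf a = 2 ∧ g * a * g⁻¹ ∈ A := by
      by_contra hh
      push Not at hh
      have ni := hh i hi hi2
      have nj := hh j hj hj2
      refine hh (i * j) (mul_mem hi hj) hij2 ?_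
      rw [show g * (i * j) * g⁻¹ = g * i * g⁻¹ * (g * j * g⁻¹) by group]
      exact hidx _ ((hKiff i).1 (cs i hi hi2)) _ ((hKiff j).1 (cs j hj hj2)) ni nj
    obtain ⟨a, ha, ha2, hga⟩ := htriple
    have hga2 : orderOf (g * a * g⁻¹) = 2 := by
      refine inv2 ?_ ?_
      · rw [show g * a * g⁻¹ * (g * a * g⁻¹) = g * (a * a) * g⁻¹ by group, sq2 ha2]; group
      · rw [Ne, conj_eq_one_iff]; intro e; rw [e, orderOf_one] at ha2; omega
    have hall : ∀ b ∈ A, Commute b s := by
      intro b hb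
      refine (hKiff b).2 ?_
      rw [← hC _ hga hga2]
      exact mem_centralizer_singleton_iff.2 ((Commute.conj_iff g).2 (hcomm b hb a ha))
    obtain ⟨b, hb, hb2⟩ := hne
    have h := hinv s hs hsA b hb
    rw [← (hall b hb).eq, mul_inv_cancel_right] at h
    exact hb2 (by nth_rw 2 [h]; exact mul_inv_cancel b)
  -- (b) a Sylow subgroup inside `H`
  obtain ⟨S0⟩ : Nonempty (Sylow 2 H) := inferInstance
  set T0 := (S0 : Subgroup H).map H.subtype with hT0
  have hT0p : IsPGroup 2 T0 := S0.2.map _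
  obtain ⟨T, hT⟩ := hT0p.exists_le_sylow
  have hT0H : T0 ≤ H := Subgroup.map_subtype_le _
  have hTHeq : (T : Subgroup G) ⊓ H = T0 := by
    refine le_antisymm ?_ (le_inf hT hT0H)
    have hp : IsPGroup 2 (((T : Subgroup G) ⊓ H).subgroupOf H) :=
      (T.2.to_le inf_le_left).comap_of_injective H.subtype H.subtype_injective
    have hle : (S0 : Subgroup H) ≤ ((T : Subgroup G) ⊓ H).subgroupOf H := fun x hx' =>
      ⟨hT (mem_map_of_mem H.subtype hx'), x.2⟩
    have heq := S0.3 hp hle
    intro x hx'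
    exact ⟨⟨x, hx'.2⟩, by rw [← heq]; exact hx', rfl⟩
  -- every involution of `A` lies in `T`
  have hE : ∀ a ∈ A, a * a = 1 → a ∈ T0 := by
    intro a ha ha2
    have hp : IsPGroup 2 (zpowers (⟨a, hAH ha⟩ : H)) := fun w => ⟨1, by
      obtain ⟨k, hk⟩ := mem_zpowers_iff.1 w.2
      refine Subtype.ext ?_
      have h2 : (⟨a, hAH ha⟩ : H) * ⟨a, hAH ha⟩ = 1 := Subtype.ext ha2
      rw [pow_one, pow_two, coe_mul, ← hk, ← (Commute.refl _).mul_zpow, h2, one_zpow]
      rfl⟩
    haveI : (zpowers (⟨a, hAH ha⟩ : H)).Normal := by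
      constructor
      intro w hw h
      obtain ⟨k, rfl⟩ := mem_zpowers_iff.1 hw
      rw [← conj_zpow]
      refine zpow_mem ?_ k
      have : h * ⟨a, hAH ha⟩ * h⁻¹ = ⟨a, hAH ha⟩ := Subtype.ext (by
        show (h : G) * a * (h : G)⁻¹ = a
        by_cases hA : (h : G) ∈ A
        · rw [(hcomm _ hA a ha).eq, mul_inv_cancel_right]
        · rw [hinv _ h.2 hA a ha, inv_eq_of_mul_eq_one_right ha2])
      rw [this]; exact mem_zpowers _
    obtain ⟨S1, hS1⟩ := hp.exists_le_sylow
    obtain ⟨g, hg⟩ := MulAction.exists_smul_eq H S1 S0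
    refine ⟨⟨a, hAH ha⟩, ?_, rfl⟩
    rw [← hg, Sylow.coe_subgroup_smul]
    refine ⟨g⁻¹ * ⟨a, hAH ha⟩ * g, hS1 ?_, by
      show g * (g⁻¹ * ⟨a, hAH ha⟩ * g) * g⁻¹ = _; group⟩
    simpa using Subgroup.Normal.conj_mem inferInstance _ (mem_zpowers (⟨a, hAH ha⟩ : H)) g⁻¹
  have hTH : (T : Subgroup G) ≤ H := by
    by_contra hnot
    haveI := T.2.isNilpotent
    have hlt : (T0.subgroupOf T) < ⊤ := by
      refine lt_top_iff_ne_top.2 fun e => hnot ?_
      intro y hy
      have : (⟨y, hy⟩ : T) ∈ T0.subgroupOf T := by rw [e]; trivial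
      exact hT0H this
    have hlt2 := Group.normalizerCondition_of_isNilpotent (T0.subgroupOf T) hlt
    obtain ⟨n, hn, hnT0⟩ := SetLike.exists_of_lt hlt2
    rw [Subgroup.mem_subgroupOf] at hnT0
    have hnH : (n : G) ∉ H := fun h => hnT0 (hTHeq ▸ ⟨n.2, h⟩)
    let Ω := {a : G // a ∈ A ∧ a * a = 1}
    have hmap : ∀ a : Ω, (n : G) * a * (n : G)⁻¹ ∈ A ∧
        ((n : G) * a * (n : G)⁻¹) * ((n : G) * a * (n : G)⁻¹) = 1 := by
      rintro ⟨a, ha, ha2⟩
      have hsq' : (n : G) * a * (n : G)⁻¹ * ((n : G) * a * (n : G)⁻¹) = 1 := by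
        rw [show (n : G) * a * (n : G)⁻¹ * ((n : G) * a * (n : G)⁻¹) =
          (n : G) * (a * a) * (n : G)⁻¹ by group, ha2]
        group
      refine ⟨?_, hsq'⟩
      have hm : (n : G) * a * (n : G)⁻¹ ∈ T0 := by
        have := (Subgroup.mem_normalizer_iff.1 hn ⟨a, hT (hE a ha ha2)⟩).1
          (by rw [Subgroup.mem_subgroupOf]; exact hE a ha ha2)
        simpa [Subgroup.mem_subgroupOf] using this
      by_contra hA
      exact fusA _ (hT0H hm) hA (n : G)⁻¹
        (by rw [show (n : G)⁻¹ * ((n : G) * a * (n : G)⁻¹) * (n : G)⁻¹⁻¹ = a by group]; exact ha)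
    obtain ⟨k, hk⟩ := T.2 n
    let f : Ω → Ω := fun a => ⟨_, hmap a⟩
    have hfi : Function.Injective f := fun a b h => Subtype.ext (by
      simpa [f] using congrArg Subtype.val h)
    let π : Equiv.Perm Ω := Equiv.ofBijective f (Finite.injective_iff_bijective.1 hfi)
    haveI := Fintype.ofFinite Ω
    have hpow : ∀ (m : ℕ) (a : Ω), ((π ^ m) a : G) = (n : G) ^ m * a * ((n : G) ^ m)⁻¹ := by
      intro m
      induction m with
      | zero => intro a; simp
      | succ m ih =>
        intro a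
        rw [pow_succ', Equiv.Perm.mul_apply]
        show (n : G) * ((π ^ m) a : G) * (n : G)⁻¹ = _
        rw [ih, pow_succ']
        group
    have hπ : π ^ 2 ^ k = 1 := by
      ext a
      rw [hpow, Equiv.Perm.one_apply]
      have : (n : G) ^ 2 ^ k = 1 := by
        rw [← SubmonoidClass.coe_pow, hk]; rfl
      rw [this]; simp
    have h2Ω : 2 ∣ Fintype.card Ω := by
      let E : Subgroup G :=
        { carrier := {a | a ∈ A ∧ a * a = 1}
          mul_mem' := fun {a b} ha hb =>
            ⟨mul_mem ha.1 hb.1, by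
              rw [(hcomm b hb.1 a ha.1).mul_mul_mul_comm, ha.2, hb.2, one_mul]⟩
          one_mem' := ⟨one_mem A, one_mul 1⟩
          inv_mem' := fun {a} ha =>
            ⟨inv_mem ha.1, by rw [← _root_.mul_inv_rev, ha.2, inv_one]⟩ }
      obtain ⟨i, hi, -, -, hi2, -⟩ := htwo
      have hiE : i ∈ E := ⟨hi, sq2 hi2⟩
      have := Subgroup.orderOf_dvd_natCard E hiE
      rw [hi2] at this
      rw [← Nat.card_eq_fintype_card]
      exact this
    obtain ⟨b, hb, hb1⟩ := Equiv.Perm.exists_fixed_point_of_prime' (p := 2) (n := k) h2Ω hπ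
      (a := ⟨1, one_mem A, one_mul 1⟩) (Subtype.ext (by show (n : G) * 1 * (n : G)⁻¹ = 1; simp))
    have hb1' : (b : G) ≠ 1 := fun e => hb1 (Subtype.ext e)
    refine hnH ?_
    rw [← hC b b.2.1 (inv2 b.2.2 hb1'), mem_centralizer_singleton_iff]
    have h := congrArg Subtype.val hb
    change (n : G) * b * (n : G)⁻¹ = b at h
    exact mul_inv_eq_iff_eq_mul.1 h
  have hT0eq : T0 = (T : Subgroup G) := by rw [← hTHeq]; exact inf_eq_left.2 hTH
  -- conjugation of 2-elements of `H` into `T`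
  have hintoT : ∀ h ∈ H, h * h = 1 → ∃ y ∈ H, y * h * y⁻¹ ∈ (T : Subgroup G) := by
    intro h hh h2
    have hp : IsPGroup 2 (zpowers (⟨h, hh⟩ : H)) := fun w => ⟨1, by
      obtain ⟨k, hk⟩ := mem_zpowers_iff.1 w.2
      refine Subtype.ext ?_
      have h2' : (⟨h, hh⟩ : H) * ⟨h, hh⟩ = 1 := Subtype.ext h2
      rw [pow_one, pow_two, coe_mul, ← hk, ← (Commute.refl _).mul_zpow, h2', one_zpow]
      rfl⟩
    obtain ⟨S1, hS1⟩ := hp.exists_le_sylow
    obtain ⟨g, rfl⟩ := MulAction.exists_smul_eq H S1 S0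
    refine ⟨g, g.2, ?_⟩
    rw [← hT0eq]
    exact ⟨g * ⟨h, hh⟩ * g⁻¹, ⟨_, hS1 (mem_zpowers _), rfl⟩, rfl⟩
  obtain ⟨x, hxH, hxA⟩ := hx
  obtain ⟨y, hyH, hys⟩ := hintoT x hxH (hsq x hxH hxA)
  have hsA : y * x * y⁻¹ ∉ A := fun h => fusA x hxH hxA y h
  -- (c) transfer
  set M := (T : Subgroup G) ⊓ A with hM
  have hMT : M.relIndex T = 2 := by
    rw [Subgroup.relIndex, Subgroup.index_eq_two_iff]
    refine ⟨⟨y * x * y⁻¹, hys⟩, fun b => ?_⟩
    simp only [hM, Subgroup.mem_subgroupOf, Subgroup.mem_inf, coe_mul]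
    have hb : (b : G) ∈ H := hTH b.2
    have hsH : y * x * y⁻¹ ∈ H := hTH hys
    by_cases hbA : (b : G) ∈ A
    · refine Or.inr ⟨⟨b.2, hbA⟩, fun h => hsA ?_⟩
      have := A.mul_mem (A.inv_mem hbA) h.2
      simpa using this
    · exact Or.inl ⟨⟨mul_mem b.2 hys, hidx _ hb _ hsH hbA hsA⟩, fun h => hbA h.2⟩
  have hKT : ∀ w ∈ commutator G, w ∈ (T : Subgroup G) → w ∈ A := by
    intro w hw hwT
    by_contra hwA
    have hw2 := hsq w (hTH hwT) hwA
    obtain ⟨N, hNn, hN2, hwN⟩ := TwoTransfer.exists_index_two T M hMT w hwT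
      (fun k g hk hg => by
        have h1 : w ^ 2 ^ k = 1 := by
          obtain ⟨m, rfl⟩ := Nat.exists_eq_add_of_le' hk
          rw [pow_succ', pow_mul, pow_two, hw2, one_pow]
        simp [h1])
      (fun g hg h => fusA w (hTH hwT) hwA g⁻¹ (by rw [inv_inv]; exact h.2))
    haveI := hNn
    have hcommQ : commutator G ≤ N := by
      rw [_root_.commutator_def, Subgroup.commutator_le]
      intro a _ b _
      rw [← QuotientGroup.eq_one_iff]
      haveI : IsCyclic (G ⧸ N) :=
        isCyclic_of_prime_card (p := 2) (by rw [← Subgroup.index_eq_card]; exact hN2)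
      have hc : (QuotientGroup.mk' N a) * (QuotientGroup.mk' N b) =
          (QuotientGroup.mk' N b) * (QuotientGroup.mk' N a) := IsMulCommutative.is_comm.comm _ _
      show QuotientGroup.mk' N ⁅a, b⁆ = 1
      rw [map_commutatorElement, commutatorElement_eq_one_iff_mul_comm]
      exact hc
    exact hwN (hcommQ hw)
  set K := commutator G with hK
  have hKH : ∀ h ∈ H, h ∈ K → h ∈ A := by
    intro h hh hhK
    by_contra hA
    obtain ⟨z, hzH, hzT⟩ := hintoT h hh (hsq h hh hA)
    have hzA : z * h * z⁻¹ ∈ A :=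
      hKT _ ((inferInstance : K.Normal).conj_mem h hhK z) hzT
    exact fusA h hh hA z hzA
  -- involutions of `K` have abelian centralisers in `K`
  have hinvK : ∀ t : G, t ∈ K → orderOf t = 2 →
      ∃ g : G, g * t * g⁻¹ ∈ A ∧ orderOf (g * t * g⁻¹) = 2 := by
    intro t htK ht
    have hp : IsPGroup 2 (zpowers t) := IsPGroup.of_card (n := 1) (by simp [Nat.card_zpowers, ht])
    obtain ⟨Q, hQ⟩ := hp.exists_le_sylow
    obtain ⟨g, hg⟩ := MulAction.exists_smul_eq G Q T
    refine ⟨g, hKT _ ((inferInstance : K.Normal).conj_mem t htK g) ?_, ?_⟩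
    · rw [← hg, Sylow.coe_subgroup_smul]
      exact ⟨t, hQ (mem_zpowers t), rfl⟩
    · rw [show g * t * g⁻¹ = MulAut.conj g t from rfl, MulEquiv.orderOf_eq]; exact ht
  have hcentK : ∀ t : K, orderOf t = 2 →
      IsMulCommutative ↥(Subgroup.centralizer ({t} : Set K)) := by
    intro t ht
    obtain ⟨g, hgA, hg2⟩ := hinvK t t.2 (by rwa [Subgroup.orderOf_coe])
    refine ⟨⟨fun a b => Subtype.ext (Subtype.ext ?_)⟩⟩
    have hm : ∀ w : centralizer ({t} : Set K), g * ((w : K) : G) * g⁻¹ ∈ A := fun w => by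
      refine hKH _ ?_ ((inferInstance : K.Normal).conj_mem _ (w : K).2 g)
      rw [← hC _ hgA hg2]
      exact mem_centralizer_singleton_iff.2 ((Commute.conj_iff g).2
        (congrArg Subtype.val (mem_centralizer_singleton_iff.1 w.2)))
    exact (Commute.conj_iff g).1 (hcomm _ (hm a) _ (hm b))
  have hKns : ¬ Group.IsSolvable K := by
    intro h
    haveI := h
    haveI : Group.IsSolvable (Abelianization G) := inferInstance
    exact hns (Group.isSolvable_of_ker_le_range K.subtype (Abelianization.of (G := G))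
      (by rw [Abelianization.ker_of, Subgroup.range_subtype, hK]))
  have hKeven : Even (Nat.card K) := by
    rw [← Nat.not_odd_iff_even]
    exact fun h => hKns (S0205.result h)
  rcases S2202.result hKeven hcentK with hc | hn | ⟨F, _, _, Z, _, _, hchar, -, ⟨ek⟩⟩
  · obtain ⟨P⟩ : Nonempty (Sylow 2 K) := inferInstance
    exact absurd (solvable_of_cyclic_sylow P (hc P)) hKns
  · obtain ⟨P⟩ : Nonempty (Sylow 2 K) := inferInstance
    exact absurd (solvable_of_normal_sylow P (hn P)) hKns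
  haveI := hchar
  have hq : 4 ≤ Fintype.card F := four_le_card_of_not_solvable fun hs => by
    haveI := hs
    haveI : Group.IsSolvable Z := inferInstance
    exact hKns (Group.isSolvable_of_isSolvable_injective (f := ek.toMonoidHom) ek.injective)
  haveI hsimp := isSimpleGroup_psl2 hq
  let eP : PSLn 2 F ≃* SLn 2 F :=
    (MulEquiv.ofBijective mkP ⟨mkP_injective, AutPSL.mkP_surjective⟩).symm
  -- the embedding of the simple group
  let φ0 : PSLn 2 F →* G :=
    K.subtype.comp (ek.symm.toMonoidHom.comp ((MonoidHom.inl (SLn 2 F) Z).comp eP.toMonoidHom))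
  have hφ0 : Function.Injective φ0 := fun a b h =>
    eP.injective (Prod.ext_iff.1 (ek.symm.injective (K.subtype_injective h))).1
  set L := φ0.range with hL
  have hLn : L.Normal := by
    constructor
    rintro _ ⟨s, rfl⟩ g
    let ψ : PSLn 2 F →* Z :=
      (MonoidHom.snd (SLn 2 F) Z).comp (ek.toMonoidHom.comp
        ((MulAut.conjNormal g : MulAut K).toMonoidHom.comp
          (ek.symm.toMonoidHom.comp ((MonoidHom.inl (SLn 2 F) Z).comp eP.toMonoidHom))))
    have hψ : ψ.ker = ⊤ := by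
      rcases IsSimpleGroup.eq_bot_or_eq_top_of_normal ψ.ker inferInstance with h | h
      · obtain ⟨a, b, hab⟩ := not_comm_psl2 (F := F)
        exact absurd ((MonoidHom.ker_eq_bot_iff ψ).1 h (by rw [map_mul, map_mul, mul_comm])) hab
      · exact h
    have hs : ψ s = 1 := by rw [← MonoidHom.mem_ker, hψ]; trivial
    set w := ek ((MulAut.conjNormal g : MulAut K) (ek.symm ((eP s), 1))) with hw
    refine ⟨eP.symm w.1, ?_⟩
    show ((ek.symm (eP (eP.symm w.1), 1) : K) : G) = _
    rw [MulEquiv.apply_symm_apply]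
    have hw' : (w.1, (1 : Z)) = w := Prod.ext rfl hs.symm
    rw [hw', hw, MulEquiv.symm_apply_apply, MulAut.conjNormal_apply]
    rfl
  -- move the unitriangular group into `T`
  let xh : Multiplicative F →* PSLn 2 F :=
    MonoidHom.mk' (fun t => mkP (xu (Multiplicative.toAdd t))) (fun a b => by
      rw [← map_mul]
      refine congrArg mkP (AutPSL.sl_ext ?_)
      rw [Matrix.SpecialLinearGroup.coe_mul, AutPSL.xu_coe, AutPSL.xu_coe, AutPSL.xu_coe,
        Matrix.mul_fin_two]
      simp [add_comm])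
  have hp0 : IsPGroup 2 (φ0.comp xh).range := by
    intro w
    obtain ⟨t, ht⟩ := MonoidHom.mem_range.1 w.2
    refine ⟨1, Subtype.ext ?_⟩
    rw [pow_one, pow_two, coe_mul, ← ht, ← map_mul]
    have : t * t = 1 := CharTwo.add_self_eq_zero (Multiplicative.toAdd t)
    rw [this, map_one]; rfl
  obtain ⟨Q, hQ⟩ := hp0.exists_le_sylow
  obtain ⟨g, hg⟩ := MulAction.exists_smul_eq G Q T
  let φ : PSLn 2 F →* G := (MulAut.conj g).toMonoidHom.comp φ0
  have hφ : Function.Injective φ := (MulAut.conj g).injective.comp hφ0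
  have hφr : φ.range = L := by
    refine le_antisymm ?_ ?_
    · rintro _ ⟨s, rfl⟩; exact hLn.conj_mem _ ⟨s, rfl⟩ g
    · intro w hw
      obtain ⟨s, hs⟩ := hLn.conj_mem w hw g⁻¹
      exact ⟨s, by show g * φ0 s * g⁻¹ = w; rw [hs]; group⟩
  have hLK : ∀ s, φ s ∈ K := fun s => by
    obtain ⟨s', hs'⟩ : φ s ∈ φ0.range :=
      (show φ s ∈ L by rw [← hφr]; exact ⟨s, rfl⟩)
    rw [← hs']
    exact SetLike.coe_mem _
  have hj : ∀ t : F, φ (mkP (xu t)) ∈ A ∧ φ (mkP (xu t)) * φ (mkP (xu t)) = 1 := by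
    intro t
    refine ⟨hKT _ (hLK _) ?_, ?_⟩
    · rw [← hg, Sylow.coe_subgroup_smul]
      exact ⟨_, hQ ⟨Multiplicative.ofAdd t, rfl⟩, rfl⟩
    · have e1 : mkP (xu t) * mkP (xu t) = 1 := by
        have := xh.map_mul (Multiplicative.ofAdd t) (Multiplicative.ofAdd t)
        rw [show Multiplicative.ofAdd t * Multiplicative.ofAdd t = 1 from
          CharTwo.add_self_eq_zero t, map_one] at this
        exact this.symm
      rw [← map_mul, e1, map_one]
  set j0 := φ (mkP (xu (1 : F))) with hj0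
  have hj02 : orderOf j0 = 2 := inv2 (hj 1).2 fun h => by
    have := mkP_injective ((hφ (h.trans (map_one φ).symm)).trans (map_one mkP).symm)
    simpa [AutPSL.xu_coe] using congrFun (congrFun (congrArg Subtype.val this) 0) 1
  have hHj : centralizer ({j0} : Set G) = H := hC j0 (hj 1).1 hj02
  have hHU : ∀ h ∈ H, ∀ t : F, h * φ (mkP (xu t)) * h⁻¹ = φ (mkP (xu t)) := by
    intro h hh t
    obtain ⟨ht, ht2⟩ := hj t
    by_cases hA : h ∈ A
    · rw [(hcomm _ hA _ ht).eq, mul_inv_cancel_right]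
    · rw [hinv h hh hA _ ht, inv_eq_of_mul_eq_one_right ht2]
  -- the transported action on the simple group
  let eL : PSLn 2 F ≃* L := (MonoidHom.ofInjective hφ).trans (MulEquiv.subgroupCongr hφr)
  have heL : ∀ s, ((eL s : L) : G) = φ s := fun s => rfl
  let act : G →* MulAut (PSLn 2 F) :=
    { toFun := fun h => (eL.trans (MulAut.conjNormal h)).trans eL.symm
      map_one' := MulEquiv.ext fun s => by simp
      map_mul' := fun a b => MulEquiv.ext fun s => by simp [MulAut.mul_apply] }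
  have hact : ∀ h s, φ (act h s) = h * φ s * h⁻¹ := by
    intro h s
    rw [← heL, ← heL]
    show ((eL (eL.symm (MulAut.conjNormal h (eL s))) : L) : G) = _
    rw [MulEquiv.apply_symm_apply, MulAut.conjNormal_apply]
  set C := centralizer (L : Set G) with hCdef
  haveI hCn : C.Normal := by
    haveI := hLn
    exact inferInstanceAs (Subgroup.centralizer (L : Set G)).Normal
  have hHLC : ∀ h ∈ H, ∃ s, (φ s)⁻¹ * h ∈ C := by
    intro h hh
    obtain ⟨b, hb⟩ := eq_conj_xu (act h) (fun t => hφ (by rw [hact]; exact hHU h hh t))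
    refine ⟨mkP (xu b), ?_⟩
    rw [hCdef, mem_centralizer_iff]
    intro w hw
    obtain ⟨s, rfl⟩ : w ∈ φ.range := hφr ▸ hw
    have h1 := hact h s
    rw [hb, MulAut.conj_apply, map_mul, map_mul, map_inv] at h1
    calc φ s * ((φ (mkP (xu b)))⁻¹ * h)
        = (φ (mkP (xu b)))⁻¹ * (φ (mkP (xu b)) * φ s * (φ (mkP (xu b)))⁻¹) * h := by group
      _ = (φ (mkP (xu b)))⁻¹ * (h * φ s * h⁻¹) * h := by rw [h1]
      _ = (φ (mkP (xu b)))⁻¹ * h * φ s := by group
  have hcentL : ∀ s, φ s ∈ C → s = 1 := by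
    intro s hs
    have hcs : ∀ s', Commute s' s := fun s' => hφ (by
      rw [map_mul, map_mul]; exact mem_centralizer_iff.1 hs (φ s') (hφr ▸ ⟨s', rfl⟩))
    rcases IsSimpleGroup.eq_bot_or_eq_top_of_normal (center (PSLn 2 F)) inferInstance with h | h
    · exact Subgroup.mem_bot.1 (h ▸ mem_center_iff.2 fun s' => (hcs s').eq)
    · obtain ⟨a, b, hab⟩ := not_comm_psl2 (F := F)
      exact absurd ((mem_center_iff.1 (h ▸ mem_top b : b ∈ center (PSLn 2 F))) a) hab
  -- all involutions of `L` are conjugate in `L`, by their commutation with a common involution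
  have hGLH : ∀ w : G, ∃ s, (φ s)⁻¹ * w ∈ H := by
    intro w
    obtain ⟨s', hs'⟩ : w * j0 * w⁻¹ ∈ φ.range := hφr.symm ▸ hLn.conj_mem _ (hφr ▸ ⟨_, rfl⟩) w
    have ho : orderOf s' = 2 := by
      rw [← orderOf_injective φ hφ, hs']
      rw [show w * j0 * w⁻¹ = MulAut.conj w j0 from rfl, MulEquiv.orderOf_eq]; exact hj02
    obtain ⟨c, hc⟩ := exists_conj_xu_one s' ho
    refine ⟨c, ?_⟩
    rw [← hHj, mem_centralizer_singleton_iff]
    have h2 : φ c * j0 * (φ c)⁻¹ = w * j0 * w⁻¹ := by
      rw [hj0, ← map_inv, ← map_mul, ← map_mul, hc, hs']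
    calc (φ c)⁻¹ * w * j0 = (φ c)⁻¹ * (w * j0 * w⁻¹) * w := by group
      _ = (φ c)⁻¹ * (φ c * j0 * (φ c)⁻¹) * w := by rw [h2]
      _ = j0 * ((φ c)⁻¹ * w) := by group
  have hCH : C ≤ H := by
    intro c hc
    rw [← hHj, mem_centralizer_singleton_iff]
    exact (mem_centralizer_iff.1 hc j0 (hφr ▸ ⟨_, rfl⟩)).symm
  have hoddA : Odd (Nat.card ↥(C ⊓ A)) := by
    rw [← Nat.not_even_iff_odd, even_iff_two_dvd]
    intro h2
    obtain ⟨⟨i, hiC, hiA⟩, hi⟩ := exists_prime_orderOf_dvd_card' 2 h2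
    rw [← Subgroup.orderOf_coe] at hi
    have hHi := hC i hiA hi
    have hLH : ∀ s, φ s ∈ H := fun s => by
      rw [← hHi, mem_centralizer_singleton_iff]
      exact mem_centralizer_iff.1 hiC (φ s) (hφr ▸ ⟨s, rfl⟩)
    have hcs : ∀ s, Commute s (mkP (xu (1 : F))) := fun s => hφ (by
      rw [map_mul, map_mul]
      have := hLH s
      rw [← hHj, mem_centralizer_singleton_iff] at this
      exact this)
    rcases IsSimpleGroup.eq_bot_or_eq_top_of_normal (center (PSLn 2 F)) inferInstance with h | h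
    · have := Subgroup.mem_bot.1 (h ▸ mem_center_iff.2 fun s => (hcs s).eq)
      rw [hj0, this, map_one, orderOf_one] at hj02
      omega
    · obtain ⟨a, b, hab⟩ := not_comm_psl2 (F := F)
      exact hab ((mem_center_iff.1 (h ▸ mem_top b : b ∈ center (PSLn 2 F))) a)
  -- the quotient map
  let q : PSLn 2 F →* G ⧸ C := (QuotientGroup.mk' C).comp φ
  have hq' : Function.Bijective q := by
    refine ⟨(injective_iff_map_eq_one q).2 fun s hs =>
      hcentL s ((QuotientGroup.eq_one_iff _).1 hs), fun w => ?_⟩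
    obtain ⟨w, rfl⟩ := QuotientGroup.mk'_surjective C w
    obtain ⟨s1, h1⟩ := hGLH w
    obtain ⟨s2, h2⟩ := hHLC _ h1
    refine ⟨s1 * s2, ?_⟩
    show QuotientGroup.mk' C (φ (s1 * s2)) = QuotientGroup.mk' C w
    rw [QuotientGroup.mk'_eq_mk']
    exact ⟨_, h2, by rw [map_mul]; group⟩
  refine ⟨C, hCn, ?_, F, inferInstance, inferInstance, by omega,
    Or.inl ⟨(MulEquiv.ofBijective q hq').symm⟩⟩
  by_cases hCA : C ≤ A
  · left; rwa [inf_eq_left.2 hCA] at hoddA
  · right
    obtain ⟨c, hcC, hcA⟩ := SetLike.not_le_iff_exists.1 hCA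
    refine ⟨_, hoddA, ?_⟩
    have hidx2 : (A.subgroupOf C).index = 2 := by
      rw [Subgroup.index_eq_two_iff]
      refine ⟨⟨c, hcC⟩, fun b => ?_⟩
      simp only [Subgroup.mem_subgroupOf, coe_mul]
      by_cases hbA : (b : G) ∈ A
      · refine Or.inr ⟨hbA, fun h => hcA ?_⟩
        have := A.mul_mem (A.inv_mem hbA) h
        simpa using this
      · exact Or.inl ⟨hidx _ (hCH b.2) _ (hCH hcC) hbA hcA, hbA⟩
    have hmul := (A.subgroupOf C).card_mul_index
    rw [hidx2, ← Subgroup.inf_subgroupOf_left,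
      Nat.card_congr (Subgroup.subgroupOfEquivOfLe inf_le_left).toEquiv] at hmul
    rw [← hmul, mul_comm]

end Cfsg.Agent.DGroupPSL
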