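import Cfsg.Agent.DGroupPSL.Four

/-!
# A component element acting on a group of coprime order with abelian components
-/

set_option autoImplicit false

namespace Cfsg.Agent.DGroupPSL

open Subgroup
open scoped commutatorElement

universe u

variable {K : Type u} [Group K]

theorem pow_conj_eq {g n x : K} (h : g * n * g⁻¹ = x * n) (hc : Commute g x) (k : ℕ) :
    g ^ k * n * (g ^ k)⁻¹ = x ^ k * n := by
  induction k with
  | zero => simp
  | succ k ih =>
    calc g ^ (k + 1) * n * (g ^ (k + 1))⁻¹ = g * (g ^ k * n * (g ^ k)⁻¹) * g⁻¹ := by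
          rw [pow_succ']; group
      _ = g * x ^ k * (n * g⁻¹) := by rw [ih]; simp only [mul_assoc]
      _ = x ^ k * (g * n * g⁻¹) := by rw [(hc.pow_right k).eq]; simp only [mul_assoc]
      _ = x ^ (k + 1) * n := by rw [h, pow_succ, mul_assoc]

/-- An element commuting with its commutator with `n`, of coprime order to it, commutes with `n`. -/
theorem commute_of_comm_commutator {g n : K} (hc : Commute g ⁅g, n⁆)
    (hcop : (orderOf g).Coprime (orderOf ⁅g, n⁆)) : Commute g n := by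
  set x := ⁅g, n⁆ with hx
  have h : g * n * g⁻¹ = x * n := by
    rw [hx, commutatorElement_def]; group
  have h2 := pow_conj_eq h hc (orderOf g)
  rw [pow_orderOf_eq_one, one_mul, inv_one, mul_one, eq_comm, mul_eq_right] at h2
  have h3 : orderOf x ∣ orderOf g := orderOf_dvd_of_pow_eq_one h2
  have h4 : x = 1 := orderOf_eq_one_iff.1 (Nat.eq_one_of_dvd_coprimes hcop h3 dvd_rfl)
  exact (commutatorElement_eq_one_iff_mul_comm.1 h4)

theorem mem_zpowers_sq {g : K} (hg : Odd (orderOf g)) : g ∈ zpowers (g * g) := by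
  obtain ⟨m, hm⟩ := hg
  refine ⟨((m + 1 : ℕ) : ℤ), ?_⟩
  show (g * g) ^ ((m + 1 : ℕ) : ℤ) = g
  rw [zpow_natCast, ← pow_two, ← pow_mul, show 2 * (m + 1) = orderOf g + 1 by omega, pow_succ,
    pow_orderOf_eq_one, one_mul]

theorem commute_of_sq {g x : K} (hg : Odd (orderOf g)) (h : Commute (g * g) x) : Commute g x := by
  obtain ⟨i, hi⟩ := mem_zpowers_sq hg
  rw [← hi]
  exact h.zpow_left i

section Rotation

variable {V M : Subgroup K} [Finite K]

/-- `δ g x = (g x g⁻¹) (g⁻¹ x g)⁻¹`. -/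
def dd (g x : K) : K := g * x * g⁻¹ * (g⁻¹ * x * g)⁻¹

theorem rotation (hK : Good K) (hV : IsFour V) (hM : Odd (Nat.card M))
    (hMc : ∀ x ∈ M, ∀ y ∈ M, Commute x y) (hVM : V ≤ normalizer (M : Set K))
    {w u a b : K} (hw : w ∈ V) (hw1 : w ≠ 1) (hu : u ∈ V) (hu1 : u ≠ 1) (hwu : w ≠ u)
    (ha : a ∈ normalizer (M : Set K)) (hb : b ∈ normalizer (M : Set K))
    (oa : Odd (orderOf a)) (ob : Odd (orderOf b))
    (hab : Commute a b) (haw : Commute a w) (hbu : Commute b u) {m : K} (hm : m ∈ M) :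
    Commute a ⁅b, m⁆ := by
  have hgM : ∀ {g x : K}, g ∈ normalizer (M : Set K) → x ∈ M → g * x * g⁻¹ ∈ M :=
    fun hg hx => (mem_normalizer_iff.1 hg _).1 hx
  have hgM' : ∀ {g x : K}, g ∈ normalizer (M : Set K) → x ∈ M → g⁻¹ * x * g ∈ M := fun hg hx => by
    have := hgM (inv_mem hg) hx
    rwa [inv_inv] at this
  have hdM : ∀ {g x : K}, g ∈ normalizer (M : Set K) → x ∈ M → dd g x ∈ M := fun hg hx =>
    M.mul_mem (hgM hg hx) (M.inv_mem (hgM' hg hx))
  have dmul : ∀ {g x y : K}, g ∈ normalizer (M : Set K) → x ∈ M → y ∈ M →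
      dd g (x * y) = dd g x * dd g y := by
    intro g x y hg hx hy
    have e1 : g * (x * y) * g⁻¹ = g * x * g⁻¹ * (g * y * g⁻¹) := by group
    have e2 : g⁻¹ * (x * y) * g = g⁻¹ * x * g * (g⁻¹ * y * g) := by group
    have c1 : Commute (g⁻¹ * x * g)⁻¹ (g * y * g⁻¹ * (g⁻¹ * y * g)⁻¹) :=
      hMc _ (M.inv_mem (hgM' hg hx)) _ (hdM hg hy)
    calc dd g (x * y) = g * x * g⁻¹ * ((g * y * g⁻¹ * (g⁻¹ * y * g)⁻¹) * (g⁻¹ * x * g)⁻¹) := by
          rw [dd, e1, e2]; group
      _ = dd g x * dd g y := by rw [← c1.eq, ← mul_assoc, dd, dd]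
  have done' : ∀ {g : K}, dd g 1 = 1 := fun {g} => by simp [dd]
  have dinv : ∀ {g x : K}, g ∈ normalizer (M : Set K) → x ∈ M → dd g x⁻¹ = (dd g x)⁻¹ :=
    fun hg hx => eq_inv_of_mul_eq_one_left (by
      rw [← dmul hg (M.inv_mem hx) hx, inv_mul_cancel, done'])
  have dflip : ∀ {g x : K}, dd g⁻¹ x = (dd g x)⁻¹ := fun {g x} => by
    simp only [dd, inv_inv, mul_inv_rev, mul_assoc]
  have dconj : ∀ {c g x : K}, c * dd g x * c⁻¹ = dd (c * g * c⁻¹) (c * x * c⁻¹) := fun {c g x} => by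
    simp only [dd]; group
  let W : Subgroup K :=
    { carrier := {x | x ∈ M ∧ dd a (dd b x) = 1}
      one_mem' := ⟨M.one_mem, by rw [done', done']⟩
      mul_mem' := fun {x y} hx hy => ⟨M.mul_mem hx.1 hy.1, by
        rw [dmul hb hx.1 hy.1, dmul ha (hdM hb hx.1) (hdM hb hy.1), hx.2, hy.2, one_mul]⟩
      inv_mem' := fun {x} hx => ⟨M.inv_mem hx.1, by
        rw [dinv hb hx.1, dinv ha (hdM hb hx.1), hx.2, inv_one]⟩ }
  have hall : M ≤ W := by
    refine hV.le_of_components hM hVM fun z hz hz1 x hxM hxz => ?_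
    have ox := odd_orderOf_of_mem hM hxM
    refine ⟨hxM, ?_⟩
    by_cases hzu : z = u
    · have hbx : Commute b x := hK.odd_comm (hV.orderOf_eq hz hz1) (hzu ▸ hbu) hxz ob ox
      have : dd b x = 1 := by
        rw [dd, hbx.eq, mul_inv_cancel_right, mul_assoc, ← hbx.eq, inv_mul_cancel_left,
          mul_inv_cancel]
      rw [this, done']
    by_cases hzw : z = w
    · have hax : Commute a x := hK.odd_comm (hV.orderOf_eq hz hz1) (hzw ▸ haw) hxz oa ox
      have hay : Commute a (dd b x) :=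
        ((hab.mul_right hax).mul_right hab.inv_right).mul_right
          (((hab.inv_right).mul_right hax).mul_right hab).inv_right
      rw [dd, hay.eq, mul_inv_cancel_right, mul_assoc, ← hay.eq, inv_mul_cancel_left, mul_inv_cancel]
    -- `z` is the third involution
    have hxw : w * x * w⁻¹ = x⁻¹ := hV.inverted hK hz hw hz1 hw1 hzw hxz ox
    have hxz' : z * x * z⁻¹ = x := by rw [← hxz.eq, mul_inv_cancel_right]
    have hza : z * a * z⁻¹ = a⁻¹ := hV.inverted hK hw hz hw1 hz1 (Ne.symm hzw) haw oa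
    have hzb : z * b * z⁻¹ = b⁻¹ := hV.inverted hK hu hz hu1 hz1 (Ne.symm hzu) hbu ob
    have hwb : w * b * w⁻¹ = b⁻¹ := hV.inverted hK hu hw hu1 hw1 hwu.symm hbu ob
    have hwa : w * a * w⁻¹ = a := by rw [← haw.eq, mul_inv_cancel_right]
    set Y := dd b x with hY
    have hYM : Y ∈ M := hdM hb hxM
    have h1 : z * Y * z⁻¹ = Y⁻¹ := by rw [hY, dconj, hzb, hxz', dflip]
    have h2 : w * Y * w⁻¹ = Y := by rw [hY, dconj, hwb, hxw, dflip, dinv hb hxM, inv_inv]
    have h3 : z * dd a Y * z⁻¹ = dd a Y := by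
      rw [dconj, hza, h1, dflip, dinv ha hYM, inv_inv]
    have h4 : w * dd a Y * w⁻¹ = dd a Y := by rw [dconj, hwa, h2]
    exact hV.odd_eq_one hK hz hw hz1 hw1 hzw (mul_inv_eq_iff_eq_mul.1 h3).symm
      (mul_inv_eq_iff_eq_mul.1 h4).symm (odd_orderOf_of_mem hM (hdM ha hYM))
  have key : ∀ x ∈ M, Commute a ⁅b * b, x⁆ := by
    intro x hx
    have h := (hall hx).2
    set Y := dd b x with hY
    have h' : a * Y * a⁻¹ = a⁻¹ * Y * a := mul_inv_eq_one.1 h
    have h5 : Commute (a * a) Y := by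
      show a * a * Y = Y * (a * a)
      calc a * a * Y = a * (a * Y * a⁻¹) * a := by group
        _ = a * (a⁻¹ * Y * a) * a := by rw [h']
        _ = Y * (a * a) := by group
    have h6 := commute_of_sq oa h5
    have e : ⁅b * b, x⁆ = b * Y * b⁻¹ * 1 := by
      rw [hY, dd, commutatorElement_def]; group
    rw [e, mul_one]
    exact (hab.mul_right h6).mul_right hab.inv_right
  have hbb : ∀ i : ℕ, ∀ x ∈ M, Commute a ⁅(b * b) ^ i, x⁆ := by
    intro i
    induction i with
    | zero => intro x _; simp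
    | succ i ih =>
      intro x hx
      have hx' : (b * b) ^ i * x * ((b * b) ^ i)⁻¹ ∈ M := hgM (pow_mem (mul_mem hb hb) i) hx
      have e : ⁅(b * b) ^ (i + 1), x⁆ =
          ⁅b * b, (b * b) ^ i * x * ((b * b) ^ i)⁻¹⁆ * ⁅(b * b) ^ i, x⁆ := by
        rw [pow_succ']
        generalize (b * b) ^ i = P
        rw [commutatorElement_def, commutatorElement_def, commutatorElement_def]; group
      rw [e]
      exact (key _ hx').mul_right (ih x hx)
  obtain ⟨i, hi⟩ := mem_powers_iff_mem_zpowers.2 (mem_zpowers_sq ob)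
  have := hbb i m hm
  rwa [show (b * b) ^ i = b from hi] at this

variable {R : Subgroup K}

/-- A component element normalising a faithful coprime `R` with abelian module centralises `R`. -/
theorem component_centralizes (hK : Good K) (hV : IsFour V) (hM : Odd (Nat.card M))
    (hMc : ∀ x ∈ M, ∀ y ∈ M, Commute x y) (hVM : V ≤ normalizer (M : Set K))
    {p q : ℕ} [Fact p.Prime] [hq : Fact q.Prime] (hpq : p ≠ q) (hq2 : q ≠ 2) (hMp : IsPGroup p M)
    {τ v : K} (hv : v ∈ V) (hv1 : v ≠ 1) (hτv : Commute τ v) (hτo : Odd (orderOf τ))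
    (hτp : ∃ k : ℕ, orderOf τ = p ^ k) (hτM : τ ∈ normalizer (M : Set K)) :
    ∀ R : Subgroup K, IsPGroup q R → R ≤ normalizer (M : Set K) → V ≤ normalizer (R : Set K) →
      τ ∈ normalizer (R : Set K) → (∀ r ∈ R, (∀ x ∈ M, Commute r x) → r = 1) →
      ∀ r ∈ R, Commute τ r := by
  intro R
  induction R using WellFoundedLT.induction with
  | _ R ih =>
  intro hR hRM hVR hτR hfaith
  set T := zpowers τ with hT
  have hTR : T ≤ normalizer (R : Set K) := zpowers_le.2 hτR
  have hVT : V ≤ normalizer (T : Set K) := hV.le_normalizer_zpowers hK hv hv1 hτv hτo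
  obtain ⟨k, hk⟩ := hτp
  have hTcop : ∀ {X : Subgroup K}, IsPGroup q X → (Nat.card T).Coprime (Nat.card X) := fun {X} hX => by
    obtain ⟨n, hn⟩ := hX.exists_card_eq
    rw [hT, Nat.card_zpowers, hk, hn]
    exact Nat.Coprime.pow _ _ ((Nat.coprime_primes Fact.out Fact.out).2 hpq)
  have hRodd := odd_card_of_isPGroup hq2 hR
  have hsmall : ∀ X : Subgroup K, X < R → V ≤ normalizer (X : Set K) →
      τ ∈ normalizer (X : Set K) → ∀ r ∈ X, Commute τ r := fun X hX h1 h2 =>
    ih X hX (hR.to_le hX.le) (hX.le.trans hRM) h1 h2 fun r hr => hfaith r (hX.le hr)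
  by_cases hbot : R = ⊥
  · intro r hr
    rw [hbot, Subgroup.mem_bot] at hr
    rw [hr]; exact Commute.one_right _
  set R1 := ⁅R, T⁆ with hR1
  have hR1R : R1 ≤ R := Coprime.commutator_le_of_le_normalizer hTR
  by_cases hlt : R1 < R
  · have hR1V : V ≤ normalizer (R1 : Set K) := le_normalizer_of_conj_mem fun c hc x hx => by
      have := mem_map_of_mem (MulAut.conj c).toMonoidHom hx
      rw [hR1, map_commutator] at this
      refine commutator_mono ?_ ?_ this
      · rintro _ ⟨y, hy, rfl⟩; exact conj_mem_of_le_normalizer hVR hc hy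
      · rintro _ ⟨y, hy, rfl⟩; exact conj_mem_of_le_normalizer hVT hc hy
    have h1 := hsmall R1 hlt hR1V (normalizer_commutator_ge_right R T (mem_zpowers τ))
    have h2 : ⁅R1, T⁆ = ⊥ := Subgroup.commutator_eq_bot_iff_le_centralizer.2 fun x hx =>
      Subgroup.mem_centralizer_iff.2 fun y hy => by
        obtain ⟨i, rfl⟩ := Subgroup.mem_zpowers_iff.1 hy
        exact ((h1 x hx).zpow_left i).eq
    rw [hR1, Coprime.commutator_commutator_eq hTR (hTcop hR)
      (Or.inl (Group.isSolvable_of_comm fun a b => mul_comm' a b))] at h2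
    intro r hr
    exact (Subgroup.mem_centralizer_iff.1
      (Subgroup.commutator_eq_bot_iff_le_centralizer.1 h2 hr) τ (mem_zpowers τ))
  have hfull : R1 = R := hR1R.eq_of_not_lt hlt
  -- the derived group is central
  set D := ⁅R, R⁆ with hD
  have hDR : D < R := by
    refine lt_of_le_of_ne (Subgroup.commutator_le_self R) fun h => ?_
    have := hR.isNilpotent
    have : Nontrivial R := (Subgroup.nontrivial_iff_ne_bot R).2 hbot
    have h1 := Group.IsSolvable.commutator_lt_top_of_nontrivial (G := R)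
    have h2 : (commutator R).map R.subtype = R := by
      rw [map_subtype_commutator]; exact h
    refine h1.ne (eq_top_iff.2 fun y _ => ?_)
    have hy : (y : K) ∈ (commutator R).map R.subtype := by rw [h2]; exact y.2
    exact (mem_map_iff_mem R.subtype_injective).1 hy
  have hDn : ∀ c : K, c ∈ normalizer (R : Set K) → c ∈ normalizer (D : Set K) := by
    have : ∀ c : K, c ∈ normalizer (R : Set K) → ∀ x ∈ D, c * x * c⁻¹ ∈ D := fun c hc x hx => by
      have hm := mem_map_of_mem (MulAut.conj c).toMonoidHom hx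
      rw [hD, map_commutator] at hm
      refine commutator_mono ?_ ?_ hm <;>
        (rintro _ ⟨y, hy, rfl⟩; exact (mem_normalizer_iff.1 hc y).1 hy)
    intro c hc
    exact (le_normalizer_of_conj_mem (A := normalizer (R : Set K)) this) hc
  have hDτ := hsmall D hDR (fun c hc => hDn c (hVR hc)) (hDn τ hτR)
  have hDc : ∀ d ∈ D, ∀ r ∈ R, Commute d r := by
    have hDT : ⁅D, T⁆ = ⊥ := Subgroup.commutator_eq_bot_iff_le_centralizer.2 fun x hx =>
      Subgroup.mem_centralizer_iff.2 fun y hy => by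
        obtain ⟨i, rfl⟩ := Subgroup.mem_zpowers_iff.1 hy
        exact ((hDτ x hx).zpow_left i).eq
    have h := Subgroup.commutator_commutator_eq_bot_of_rotate (H₁ := R) (H₂ := T) (H₃ := D)
      (by rw [Subgroup.commutator_comm T D, hDT, Subgroup.commutator_bot_left])
      (le_bot_iff.1 ((commutator_mono (show ⁅D, R⁆ ≤ D from
        Coprime.commutator_le_of_le_normalizer fun c hc => hDn c (le_normalizer hc)) le_rfl).trans
          hDT.le))
    rw [← hR1, hfull] at h
    intro d hd r hr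
    exact ((Subgroup.mem_centralizer_iff.1
      (Subgroup.commutator_eq_bot_iff_le_centralizer.1 h hr) d hd))
  have hgM : ∀ {g x : K}, g ∈ normalizer (M : Set K) → x ∈ M → g * x * g⁻¹ ∈ M :=
    fun hg hx => (mem_normalizer_iff.1 hg _).1 hx
  have hcM : ∀ {g x : K}, g ∈ normalizer (M : Set K) → x ∈ M → ⁅g, x⁆ ∈ M := fun hg hx => by
    rw [commutatorElement_def]; exact M.mul_mem (hgM hg hx) (M.inv_mem hx)
  have hcop : ∀ {g x : K}, g ∈ R → x ∈ M → (orderOf g).Coprime (orderOf x) := by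
    intro g x hg hx
    obtain ⟨i, hi⟩ := IsPGroup.iff_orderOf.1 hR ⟨g, hg⟩
    obtain ⟨j, hj⟩ := IsPGroup.iff_orderOf.1 hMp ⟨x, hx⟩
    rw [← orderOf_coe ⟨g, hg⟩, ← orderOf_coe ⟨x, hx⟩] at *
    rw [hi, hj]
    exact Nat.Coprime.pow _ _ ((Nat.coprime_primes Fact.out Fact.out).2 hpq.symm)
  have hcmul : ∀ {g x y : K}, g ∈ normalizer (M : Set K) → x ∈ M → y ∈ M →
      ⁅g, x * y⁆ = ⁅g, x⁆ * ⁅g, y⁆ := by
    intro g x y hg hx hy
    calc ⁅g, x * y⁆ = ⁅g, x⁆ * (x * ⁅g, y⁆ * x⁻¹) := by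
          rw [commutatorElement_def, commutatorElement_def, commutatorElement_def]; group
      _ = ⁅g, x⁆ * ⁅g, y⁆ := by rw [(hMc x hx _ (hcM hg hy)).eq, mul_inv_cancel_right]
  -- components commute
  have hcomp : ∀ x ∈ V, x ≠ 1 → ∀ y ∈ V, y ≠ 1 → ∀ r ∈ R, ∀ s ∈ R, Commute r x → Commute s y →
      Commute r s := by
    intro x hx hx1 y hy hy1 r hr s hs hrx hsy
    have or' := odd_orderOf_of_mem hRodd hr
    have os := odd_orderOf_of_mem hRodd hs
    by_cases hxy : x = y
    · subst hxy; exact hK.odd_comm (hV.orderOf_eq hx hx1) hrx hsy or' os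
    set z := x * y with hzdef
    have hz : z ∈ V := V.mul_mem hx hy
    have hz1 : z ≠ 1 := fun e => hxy ((eq_inv_of_mul_eq_one_left e).trans (hV.inv_eq hy))
    have hzx : x ≠ z := fun e => hy1 (by simpa [hzdef] using e.symm)
    have hzy : y ≠ z := fun e => hx1 (by simpa [hzdef] using e.symm)
    set c := ⁅r, s⁆ with hc
    have hcD : c ∈ D := commutator_mem_commutator hr hs
    have hcR : c ∈ R := hDR.le hcD
    have hzr : z * r * z⁻¹ = r⁻¹ := hV.inverted hK hx hz hx1 hz1 hzx hrx or'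
    have hzs : z * s * z⁻¹ = s⁻¹ := hV.inverted hK hy hz hy1 hz1 hzy hsy os
    have hcr : Commute c r := hDc c hcD r hr
    have hcs : Commute c s := hDc c hcD s hs
    have hcz : z * c * z⁻¹ = c := by
      calc z * c * z⁻¹ = ⁅z * r * z⁻¹, z * s * z⁻¹⁆ := by rw [hc, commutatorElement_def, commutatorElement_def]; group
        _ = r⁻¹ * (s⁻¹ * c * s) * r := by rw [hzr, hzs, hc, commutatorElement_def, commutatorElement_def]; group
        _ = c := by rw [mul_assoc s⁻¹, hcs.eq, inv_mul_cancel_left, mul_assoc, hcr.eq, inv_mul_cancel_left]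
    have hczc : Commute c z := (mul_inv_eq_iff_eq_mul.1 hcz).symm
    have oc := odd_orderOf_of_mem hRodd hcR
    let W : Subgroup K :=
      { carrier := {m | m ∈ M ∧ z * ⁅c, m⁆ * z⁻¹ = ⁅c, m⁆⁻¹}
        one_mem' := ⟨M.one_mem, by simp⟩
        mul_mem' := fun {a b} ha hb => ⟨M.mul_mem ha.1 hb.1, by
          rw [hcmul (hRM hcR) ha.1 hb.1, ← conj_mul, ha.2, hb.2, mul_inv_rev,
            (hMc _ (M.inv_mem (hcM (hRM hcR) ha.1)) _ (M.inv_mem (hcM (hRM hcR) hb.1))).eq]⟩
        inv_mem' := fun {a} ha => ⟨M.inv_mem ha.1, by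
          have e : ⁅c, a⁻¹⁆ = ⁅c, a⁆⁻¹ := eq_inv_of_mul_eq_one_left (by
            rw [← hcmul (hRM hcR) (M.inv_mem ha.1) ha.1, inv_mul_cancel, commutatorElement_one_right])
          rw [e, ← conj_inv, ha.2]⟩ }
    have hW : M ≤ W := by
      refine hV.le_of_components hM hVM fun t ht ht1 m hm hmt => ⟨hm, ?_⟩
      by_cases htz : t = z
      · have : Commute c m := hK.odd_comm (hV.orderOf_eq hz hz1) hczc (htz ▸ hmt) oc
          (odd_orderOf_of_mem hM hm)
        rw [commutatorElement_eq_one_iff_mul_comm.2 this.eq]; simp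
      · have hzm : z * m * z⁻¹ = m⁻¹ :=
          hV.inverted hK ht hz ht1 hz1 htz hmt (odd_orderOf_of_mem hM hm)
        have e : ⁅c, m⁻¹⁆ = ⁅c, m⁆⁻¹ := eq_inv_of_mul_eq_one_left (by
          rw [← hcmul (hRM hcR) (M.inv_mem hm) hm, inv_mul_cancel, commutatorElement_one_right])
        rw [← e]
        calc z * ⁅c, m⁆ * z⁻¹ = ⁅z * c * z⁻¹, z * m * z⁻¹⁆ := by
              rw [commutatorElement_def, commutatorElement_def]; group
          _ = ⁅c, m⁻¹⁆ := by rw [hcz, hzm]
    have hfix : ∀ g ∈ R, Commute c g → Odd (orderOf g) → z * g * z⁻¹ = g⁻¹ → ∀ m ∈ M,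
        Commute g ⁅c, m⁆ := by
      intro g hg hcg og hzg m hm
      set Y := ⁅c, m⁆ with hY
      have h1 : z * Y * z⁻¹ = Y⁻¹ := (hW hm).2
      have h2 : z * (g * Y * g⁻¹) * z⁻¹ = (g * Y * g⁻¹)⁻¹ := by
        have e : g * Y * g⁻¹ = ⁅c, g * m * g⁻¹⁆ := by
          have e1 : g * c * g⁻¹ = c := by rw [← hcg.eq, mul_inv_cancel_right]
          calc g * Y * g⁻¹ = ⁅g * c * g⁻¹, g * m * g⁻¹⁆ := by
                rw [hY, commutatorElement_def, commutatorElement_def]; group
            _ = _ := by rw [e1]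
        rw [e]; exact (hW (hgM (hRM hg) hm)).2
      have h3 : g⁻¹ * Y⁻¹ * g = g * Y⁻¹ * g⁻¹ := by
        calc g⁻¹ * Y⁻¹ * g = (z * g * z⁻¹) * (z * Y * z⁻¹) * (z * g * z⁻¹)⁻¹ := by
              rw [hzg, h1, inv_inv]
          _ = z * (g * Y * g⁻¹) * z⁻¹ := by group
          _ = g * Y⁻¹ * g⁻¹ := by rw [h2]; group
      have h4 : Commute (g * g) Y⁻¹ := by
        show g * g * Y⁻¹ = Y⁻¹ * (g * g)
        calc g * g * Y⁻¹ = g * (g * Y⁻¹ * g⁻¹) * g := by group
          _ = g * (g⁻¹ * Y⁻¹ * g) * g := by rw [h3]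
          _ = Y⁻¹ * (g * g) := by group
      simpa using (commute_of_sq og h4).inv_right
    have hc1 : c = 1 := hfaith c hcR fun m hm => by
      refine commute_of_comm_commutator ?_ (hcop hcR (hcM (hRM hcR) hm))
      have h1 := hfix r hr hcr or' hzr m hm
      have h2 := hfix s hs hcs os hzs m hm
      generalize ⁅c, m⁆ = Y at h1 h2 ⊢
      rw [hc, commutatorElement_def]
      exact ((h1.mul_left h2).mul_left h1.inv_left).mul_left h2.inv_left
    exact commutatorElement_eq_one_iff_mul_comm.1 (hc ▸ hc1)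
  have hab : ∀ r ∈ R, ∀ s ∈ R, Commute r s := by
    have h1 : ∀ x ∈ V, x ≠ 1 → ∀ r ∈ R, Commute r x → R ≤ centralizer ({r} : Set K) :=
      fun x hx hx1 r hr hrx => hV.le_of_components hRodd hVR fun y hy hy1 s hs hsy =>
        Subgroup.mem_centralizer_singleton_iff.2 (hcomp x hx hx1 y hy hy1 r hr s hs hrx hsy).symm
    intro r hr s hs
    have h2 : R ≤ centralizer ({s} : Set K) := hV.le_of_components hRodd hVR fun x hx hx1 r' hr' hrx =>
      Subgroup.mem_centralizer_singleton_iff.2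
        (Subgroup.mem_centralizer_singleton_iff.1 (h1 x hx hx1 r' hr' hrx hs)).symm
    exact Subgroup.mem_centralizer_singleton_iff.1 (h2 hr)
  have : IsMulCommutative R := ⟨⟨fun a b => Subtype.ext (hab _ a.2 _ b.2).eq⟩⟩
  have hC0 : ∀ r ∈ R, Commute τ r → r = 1 := by
    intro r hr hc
    have h := Coprime.centralizer_inf_commutator_eq_bot hTR (hTcop hR)
    rw [← hR1, hfull] at h
    rw [← Subgroup.mem_bot, ← h]
    exact ⟨⟨hr, Subgroup.mem_centralizer_iff.2 fun y hy => by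
      obtain ⟨i, rfl⟩ := Subgroup.mem_zpowers_iff.1 hy
      exact (hc.zpow_left i).eq⟩, hr⟩
  obtain ⟨u, hu, hu1, huv⟩ := hV.exists_other v
  set w := v * u with hwdef
  have hw : w ∈ V := V.mul_mem hv hu
  have hw1 : w ≠ 1 := fun e => huv ((eq_inv_of_mul_eq_one_left e).trans (hV.inv_eq hu)).symm
  have hvw : v ≠ w := fun e => hu1 (by simpa [hwdef] using e.symm)
  have huw : u ≠ w := fun e => hv1 (by simpa [hwdef] using e.symm)
  -- the components in the two involutions inverting τ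
  have side : ∀ x ∈ V, x ≠ 1 → ∀ y ∈ V, y ≠ 1 → v ≠ x → v ≠ y → x ≠ y →
      ∀ a ∈ R, Commute a x → Commute τ a := by
    intro x hx hx1 y hy hy1 hvx hvy hxy
    have hmem : ∀ r ∈ R, ∃ a b, a ∈ R ∧ b ∈ R ∧ Commute a x ∧ Commute b y ∧ r = a * b := by
      let S : Subgroup K :=
        { carrier := {r | ∃ a b, a ∈ R ∧ b ∈ R ∧ Commute a x ∧ Commute b y ∧ r = a * b}
          one_mem' := ⟨1, 1, R.one_mem, R.one_mem, Commute.one_left _, Commute.one_left _, (one_mul 1).symm⟩
          mul_mem' := by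
            rintro _ _ ⟨a, b, ha, hb, hax, hby, rfl⟩ ⟨c, d, hc, hd, hcx, hdy, rfl⟩
            exact ⟨a * c, b * d, R.mul_mem ha hc, R.mul_mem hb hd, hax.mul_left hcx,
              hby.mul_left hdy, (hab b hb c hc).mul_mul_mul_comm a d⟩
          inv_mem' := by
            rintro _ ⟨a, b, ha, hb, hax, hby, rfl⟩
            exact ⟨a⁻¹, b⁻¹, R.inv_mem ha, R.inv_mem hb, hax.inv_left, hby.inv_left,
              by rw [(hab a ha b hb).eq, mul_inv_rev]⟩ }
      refine hV.le_of_components hRodd hVR (W := S) fun t ht ht1 r hr hrt => ?_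
      rcases hV.mem_cases hx hy hx1 hy1 hxy ht with e | e | e | e
      · exact absurd e ht1
      · exact ⟨r, 1, hr, R.one_mem, e ▸ hrt, Commute.one_left _, (mul_one r).symm⟩
      · exact ⟨1, r, R.one_mem, hr, Commute.one_left _, e ▸ hrt, (one_mul r).symm⟩
      · have hxyv : x * y = v := by
          rcases hV.mem_cases hx hy hx1 hy1 hxy hv with e' | e' | e' | e'
          exacts [absurd e' hv1, absurd e' hvx, absurd e' hvy, e'.symm]
        have hrv : Commute r v := by rw [← hxyv, ← e]; exact hrt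
        have hr1 : r = 1 := hC0 r hr (hK.odd_comm (hV.orderOf_eq hv hv1) hτv hrv hτo
          (odd_orderOf_of_mem hRodd hr))
        exact ⟨1, 1, R.one_mem, R.one_mem, Commute.one_left _, Commute.one_left _,
          by rw [hr1, mul_one]⟩
    have hrot : ∀ a ∈ R, ∀ b ∈ R, Commute a x → Commute b y → ∀ m ∈ M, Commute a ⁅b, m⁆ :=
      fun a ha b hb hax hby m hm => rotation hK hV hM hMc hVM hx hx1 hy hy1 hxy (hRM ha) (hRM hb)
        (odd_orderOf_of_mem hRodd ha) (odd_orderOf_of_mem hRodd hb) (hab a ha b hb) hax hby hm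
    have hrot' : ∀ a ∈ R, ∀ b ∈ R, Commute a x → Commute b y → ∀ m ∈ M, Commute b ⁅a, m⁆ :=
      fun a ha b hb hax hby m hm => rotation hK hV hM hMc hVM hy hy1 hx hx1 hxy.symm (hRM hb) (hRM ha)
        (odd_orderOf_of_mem hRodd hb) (odd_orderOf_of_mem hRodd ha) (hab a ha b hb).symm hby hax hm
    have hconjR : ∀ {g r : K}, g ∈ normalizer (R : Set K) → r ∈ R → g * r * g⁻¹ ∈ R :=
      fun hg hr => (mem_normalizer_iff.1 hg _).1 hr
    -- the τ-conjugate of the x-component is normalised by x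
    have hA' : ∀ a ∈ R, Commute a x → ∃ a', a' ∈ R ∧ Commute a' x ∧
        x * (τ * a * τ⁻¹) * x⁻¹ = τ * a' * τ⁻¹ := by
      intro a ha hax
      set r := τ * a * τ⁻¹ with hr
      have hrR : r ∈ R := hconjR hτR ha
      obtain ⟨a1, b1, ha1, hb1, ha1x, hb1y, hab1⟩ := hmem r hrR
      obtain ⟨a2, b2, ha2, hb2, ha2x, hb2y, hab2⟩ := hmem (τ⁻¹ * a1 * τ) (by
        simpa using hconjR (inv_mem hτR) ha1)
      have transport : ∀ c ∈ R, Commute c x → ∀ e ∈ R, Commute e y → ∀ n ∈ M,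
          Commute (τ * c * τ⁻¹) ⁅τ * e * τ⁻¹, n⁆ := by
        intro c hc hcx e he hey n hn
        have h0 := (Commute.conj_iff τ).2 (hrot c hc e he hcx hey _ (hgM (inv_mem hτM) hn))
        rwa [show τ * ⁅e, τ⁻¹ * n * τ⁻¹⁻¹⁆ * τ⁻¹ = ⁅τ * e * τ⁻¹, n⁆ by
          rw [commutatorElement_def, commutatorElement_def]; group] at h0
      have step : ∀ e ∈ R, Commute e y → ∀ m ∈ M, Commute a1 ⁅τ * e * τ⁻¹, m⁆ := by
        intro e he hey m hm
        have hn := transport a ha hax e he hey m hm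
        have hnM := hcM (hRM (hconjR hτR he)) hm
        generalize ⁅τ * e * τ⁻¹, m⁆ = n at hn hnM ⊢
        rw [← hr, hab1] at hn
        have hY : Commute a1 ⁅b1, n⁆ := hrot a1 ha1 b1 hb1 ha1x hb1y n hnM
        have e1 : ⁅a1, n⁆ = ⁅b1, n⁆⁻¹ := by
          have h5 : ⁅a1 * b1, n⁆ = 1 := commutatorElement_eq_one_iff_mul_comm.2 hn.eq
          have h6 : ⁅a1 * b1, n⁆ = a1 * ⁅b1, n⁆ * a1⁻¹ * ⁅a1, n⁆ := by
            rw [commutatorElement_def, commutatorElement_def, commutatorElement_def]; group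
          rw [h6, hY.eq, mul_inv_cancel_right] at h5
          exact eq_inv_of_mul_eq_one_right h5
        exact commute_of_comm_commutator (e1 ▸ hY.inv_right) (hcop ha1 (hcM (hRM ha1) hnM))
      have ha1' : a1 = τ * a2 * τ⁻¹ * (τ * b2 * τ⁻¹) := by
        calc a1 = τ * (τ⁻¹ * a1 * τ) * τ⁻¹ := by group
          _ = _ := by rw [hab2]; group
      have hb2' : τ * b2 * τ⁻¹ = 1 := hfaith _ (hconjR hτR hb2) fun m hm => by
        refine commute_of_comm_commutator ?_ (hcop (hconjR hτR hb2) (hcM (hRM (hconjR hτR hb2)) hm))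
        have h0 := (transport a2 ha2 ha2x b2 hb2 hb2y m hm).inv_left.mul_left
          (step b2 hb2 hb2y m hm)
        generalize hY : ⁅τ * b2 * τ⁻¹, m⁆ = Y at h0 ⊢
        rwa [ha1', inv_mul_cancel_left] at h0
      rw [hb2', mul_one] at ha1'
      have hxr : x * r * x⁻¹ = a1 * b1⁻¹ := by
        have hb1' := hV.inverted hK hy hx hy1 hx1 hxy.symm hb1y (odd_orderOf_of_mem hRodd hb1)
        calc x * r * x⁻¹ = (x * a1 * x⁻¹) * (x * b1 * x⁻¹) := by rw [hab1]; group
          _ = a1 * b1⁻¹ := by rw [hb1', ← ha1x.eq, mul_inv_cancel_right]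
      refine ⟨a2 * a⁻¹ * a2, R.mul_mem (R.mul_mem ha2 (R.inv_mem ha)) ha2,
        (ha2x.mul_left hax.inv_left).mul_left ha2x, ?_⟩
      rw [hxr, show b1 = a1⁻¹ * r by rw [hab1, inv_mul_cancel_left], ha1', hr]
      group
    intro a ha hax
    have hxτ : x * τ * x⁻¹ = τ⁻¹ := hV.inverted hK hv hx hv1 hx1 hvx hτv hτo
    -- `τ * τ` normalises the component
    have hsq : ∀ c ∈ R, Commute c x → Commute (τ⁻¹ * τ⁻¹ * c * (τ * τ)) x := by
      intro c hc hcx
      obtain ⟨c', hc', hc'x, e⟩ := hA' c hc hcx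
      have e2 : x * (τ * c * τ⁻¹) * x⁻¹ = τ⁻¹ * c * τ := by
        calc x * (τ * c * τ⁻¹) * x⁻¹ = (x * τ * x⁻¹) * (x * c * x⁻¹) * (x * τ * x⁻¹)⁻¹ := by group
          _ = _ := by rw [hxτ, inv_inv, ← hcx.eq, mul_inv_cancel_right]
      rw [e2] at e
      have : τ⁻¹ * τ⁻¹ * c * (τ * τ) = c' := by
        calc τ⁻¹ * τ⁻¹ * c * (τ * τ) = τ⁻¹ * (τ⁻¹ * c * τ) * τ := by group
          _ = c' := by rw [e]; group
      rwa [this]
    have hpow : ∀ i : ℕ, (((τ * τ) ^ i)⁻¹ * a * (τ * τ) ^ i ∈ R) ∧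
        Commute (((τ * τ) ^ i)⁻¹ * a * (τ * τ) ^ i) x := by
      intro i
      induction i with
      | zero => simp [ha, hax]
      | succ i ih =>
        have e : ((τ * τ) ^ (i + 1))⁻¹ * a * (τ * τ) ^ (i + 1) =
            τ⁻¹ * τ⁻¹ * (((τ * τ) ^ i)⁻¹ * a * (τ * τ) ^ i) * (τ * τ) := by
          rw [pow_succ]; group
        rw [e]
        refine ⟨?_, hsq _ ih.1 ih.2⟩
        have := hconjR (mul_mem (inv_mem hτR) (inv_mem hτR)) ih.1
        simpa [mul_assoc] using this
    obtain ⟨i, hi⟩ := mem_powers_iff_mem_zpowers.2 (mem_zpowers_sq hτo)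
    obtain ⟨-, h1⟩ := hpow i
    rw [show (τ * τ) ^ i = τ from hi] at h1
    have h2 : x * (τ⁻¹ * a * τ) * x⁻¹ = τ⁻¹ * a * τ := by rw [← h1.eq, mul_inv_cancel_right]
    have h3 : x * (τ⁻¹ * a * τ) * x⁻¹ = τ * a * τ⁻¹ := by
      calc x * (τ⁻¹ * a * τ) * x⁻¹ = (x * τ * x⁻¹)⁻¹ * (x * a * x⁻¹) * (x * τ * x⁻¹) := by group
        _ = _ := by rw [hxτ, inv_inv, ← hax.eq, mul_inv_cancel_right]
    rw [h2] at h3
    refine commute_of_sq hτo ?_
    show τ * τ * a = a * (τ * τ)
    calc τ * τ * a = τ * (τ * a * τ⁻¹) * τ := by group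
      _ = τ * (τ⁻¹ * a * τ) * τ := by rw [← h3]
      _ = a * (τ * τ) := by group
  intro r hr
  have hle : R ≤ centralizer ({τ} : Set K) := hV.le_of_components hRodd hVR fun t ht ht1 s hs hst => by
    refine Subgroup.mem_centralizer_singleton_iff.2 ?_
    rcases hV.mem_cases hv hu hv1 hu1 huv.symm ht with e | e | e | e
    · exact absurd e ht1
    · exact (hK.odd_comm (hV.orderOf_eq hv hv1) hτv (e ▸ hst) hτo
        (odd_orderOf_of_mem hRodd hs)).symm.eq
    · exact (side u hu hu1 w hw hw1 huv.symm hvw huw s hs (e ▸ hst)).symm.eq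
    · exact (side w hw hw1 u hu hu1 hvw huv.symm huw.symm s hs (by rw [hwdef, ← e]; exact hst)).symm.eq
  exact (Subgroup.mem_centralizer_singleton_iff.1 (hle hr)).symm

end Rotation

end Cfsg.Agent.DGroupPSL
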