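import Cfsg.Agent.DGroupPSL.Pairs
import Cfsg.Agent.DGroupPSL.Perm

/-!
# The pair subgroups permute, and are normalised by the involution centralisers
-/

set_option autoImplicit false

namespace Cfsg.Agent.DGroupPSL

open Subgroup

universe u

variable {K : Type u} [Group K] [Finite K]

theorem IsFour.le_normalizer_oddSet {V : Subgroup K} (hV : IsFour V) (hK : Good K) {v z : K}
    (hv : v ∈ V) (hv1 : v ≠ 1) (hzv : Commute z v) (hzo : Odd (orderOf z)) {W : Subgroup K}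
    (hW : ∀ x, x ∈ W ↔ x ∈ centralizer ({z} : Set K) ∧ Odd (orderOf x)) :
    V ≤ normalizer (W : Set K) := le_normalizer_of_conj_mem fun a ha x hx => by
  obtain ⟨hx1, hx2⟩ := (hW x).1 hx
  refine (hW _).2 ⟨Subgroup.mem_centralizer_singleton_iff.2 ?_, odd_orderOf_conj hx2⟩
  obtain ⟨i, hi⟩ := Subgroup.mem_zpowers_iff.1
    ((mem_normalizer_iff.1 (inv_mem (hV.le_normalizer_zpowers hK hv hv1 hzv hzo ha)) z).1 (mem_zpowers z))
  have hc : Commute x (a⁻¹ * z * a⁻¹⁻¹) :=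
    hi ▸ (show Commute x z from Subgroup.mem_centralizer_singleton_iff.1 hx1).zpow_right i
  have := (Commute.conj_iff a).2 hc
  rw [inv_inv] at this
  simpa [mul_assoc] using this.eq

variable (C : Ctx K) {V : Subgroup K} (hV : IsFour V)
include C hV

/-- An invariant subgroup not in the component of an element it contains gives a pair. -/
theorem Ctx.pair_of {q : ℕ} [hq : Fact q.Prime] (hq2 : q ≠ 2) {X : Subgroup K} (hX : IsPGroup q X)
    (hXn : V ≤ normalizer (X : Set K)) {v x : K} (hv : v ∈ V) (hv1 : v ≠ 1) (hx : x ∈ X) (hx1 : x ≠ 1)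
    (hxv : Commute x v) (hnv : ¬ ∀ y ∈ X, Commute y v) : Pair V q := by
  refine ⟨hq.out, hq2, X, hX, hXn, ?_⟩
  rintro ⟨t, ht, ht1, hXt⟩
  have htv : t = v := by
    by_contra hne
    exact hx1 (hV.odd_eq_one C.good hv ht hv1 ht1 (Ne.symm hne) hxv (hXt x hx)
      ((IsPElt.of_mem hX hx).odd hq2))
  exact hnv (htv ▸ hXt)

/-- `q`-elements of a component, factorised through the normaliser of a pair subgroup. -/
theorem Ctx.factor {p q : ℕ} [Fact p.Prime] [hq : Fact q.Prime] (hpq : p ≠ q) (hp2 : p ≠ 2) (hq2 : q ≠ 2)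
    {P : Subgroup K} (hP : Core V p P) {v : K} (hv : v ∈ V) (hv1 : v ≠ 1) :
    (¬ Pair V q → ∀ x, Commute x v → IsPElt q x → x ∈ normalizer (P : Set K)) ∧
    (∀ Q, Core V q Q → ∃ O : Subgroup K, O ≤ Q ∧ P ≤ normalizer (O : Set K) ∧
      ∀ x, Commute x v → IsPElt q x → ∃ o ∈ O, ∃ n ∈ Q, n ∈ normalizer (P : Set K) ∧ x = o * n) := by
  obtain ⟨z, hzP, hz1, hzv, hzc⟩ := hP.central v hv hv1
  have hzo := (IsPElt.of_mem hP.maxP.isPGroup hzP).odd hp2
  obtain ⟨W, hWodd, hW⟩ := C.good.exists_oddSubgroup hzo hz1 (H := centralizer ({z} : Set K))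
    fun x hx => Subgroup.mem_centralizer_singleton_iff.1 hx
  have hWn := hV.le_normalizer_oddSet C.good hv hv1 hzv hzo hW
  have hPW : P ≤ W := fun y hy => (hW y).2 ⟨Subgroup.mem_centralizer_singleton_iff.2 (hzc y hy).symm,
    (IsPElt.of_mem hP.maxP.isPGroup hy).odd hp2⟩
  have hsol : Group.IsSolvable W := S0205.result hWodd
  obtain ⟨X, hX, hXn, hPX⟩ := Coprime.exists_le_invariant_hall (π := ({p, q} : Set ℕ)) hWn
    (hV.coprime hWodd) hsol hPW hP.maxP.norm (fun r hr hd => by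
      obtain ⟨n, hn⟩ := hP.maxP.isPGroup.exists_card_eq
      rw [hn] at hd
      exact Or.inl ((Nat.prime_dvd_prime_iff_eq hr Fact.out).1 (hr.dvd_of_dvd_pow hd)))
  have hXodd : Odd (Nat.card X) := hWodd.of_dvd_nat (Subgroup.card_dvd_of_le hX.1)
  have hPc : Nat.card P = p ^ (Nat.card X).factorization p := by
    obtain ⟨P', hP'X, hP'p, hP'n, hP'max, hP'c⟩ := hV.exists_sylow C.good hXodd hXn p
    rw [← hP.maxP.max P' hP'p hP'n (hP'max P hPX hP.maxP.isPGroup hP.maxP.norm), hP'c]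
  obtain ⟨O, hOX, hOq, hOn, hXO, hfac⟩ := pq_normal C.good hV hXodd hXn hpq hq2 hX.2.1 hPX
    hP.maxP.isPGroup hP.maxP.norm hPc
  -- the component of `v` lies in `X`
  obtain ⟨Q1, hQ1W, hQ1q, hQ1n, hQ1max, hQ1c⟩ := hV.exists_sylow C.good hWodd hWn q
  obtain ⟨QX, hQXX, hQXq, hQXn, hQXmax, hQXc⟩ := hV.exists_sylow C.good hXodd hXn q
  have hQeq : QX = Q1 := by
    refine Subgroup.eq_of_le_of_card_ge (hQ1max QX (hQXX.trans hX.1) hQXq hQXn) ?_
    rw [hQ1c, hQXc]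
    refine Nat.pow_le_pow_right hq.out.pos (le_of_eq ?_)
    have h := Coprime.card_mul_relIndex_of_le hX.1
    rw [← h, Nat.factorization_mul Nat.card_pos.ne'
        (fun e => absurd (h ▸ (Nat.card_pos (α := W)).ne') (by rw [e, mul_zero]; simp)),
      Finsupp.add_apply, Nat.factorization_eq_zero_of_not_dvd (hX.2.2 q hq.out (Or.inr rfl)), add_zero]
  obtain ⟨B, hB, hBn, hBm⟩ := C.good.exists_pPart hV (p := q) hq2 hv hv1
  have hBW : B ≤ W := fun x hx => by
    obtain ⟨hxv, hxe⟩ := (hBm x).1 hx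
    exact (hW x).2 ⟨Subgroup.mem_centralizer_singleton_iff.2
      (C.good.odd_comm (hV.orderOf_eq hv hv1) hxv hzv (hxe.odd hq2) hzo), hxe.odd hq2⟩
  have hBQ : B ≤ Q1 := hQ1max B hBW hB hBn
  have hBX : B ≤ X := (hQeq ▸ hBQ : B ≤ QX).trans hQXX
  have hOQ1 : O ≤ Q1 := hQ1max O (hOX.trans hX.1) hOq hOn
  refine ⟨fun hnp x hxv hxe => ?_, fun Q hQ => ?_⟩
  · by_cases hx1 : x = 1
    · rw [hx1]; exact Subgroup.one_mem _
    obtain ⟨o, ho, n, -, hnP, hon⟩ := hfac x (hBX ((hBm x).2 ⟨hxv, hxe⟩))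
    have hQ1v : ∀ y ∈ Q1, Commute y v := by
      by_contra hnv
      exact hnp (C.pair_of hV hq2 hQ1q hQ1n hv hv1 (hBQ ((hBm x).2 ⟨hxv, hxe⟩)) hx1 hxv hnv)
    have hov : Commute o v := hQ1v o (hOQ1 ho)
    have hoP : P ≤ centralizer ({o} : Set K) := by
      refine hV.le_of_components (odd_card_of_isPGroup hp2 hP.maxP.isPGroup) hP.maxP.norm
        fun t ht ht1 π hπ hπt => Subgroup.mem_centralizer_singleton_iff.2 ?_
      have oπ := (IsPElt.of_mem hP.maxP.isPGroup hπ).odd hp2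
      have oo := odd_orderOf_of_mem hWodd (hOX.trans hX.1 ho)
      by_cases htv : t = v
      · exact (C.good.odd_comm (hV.orderOf_eq hv hv1) (htv ▸ hπt) hov oπ oo).eq
      have hinv : v * π * v⁻¹ = π⁻¹ := hV.inverted C.good ht hv ht1 hv1 htv hπt oπ
      have hvo : ∀ y ∈ O, v * y * v⁻¹ = y := fun y hy => by
        rw [← (hQ1v y (hOQ1 hy)).eq, mul_inv_cancel_right]
      have h1 : π * o * π⁻¹ ∈ O := conj_mem_of_le_normalizer hXO (hPX hπ) ho
      have h2 : π * o * π⁻¹ = π⁻¹ * o * π := by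
        calc π * o * π⁻¹ = v * (π * o * π⁻¹) * v⁻¹ := (hvo _ h1).symm
          _ = (v * π * v⁻¹) * (v * o * v⁻¹) * (v * π * v⁻¹)⁻¹ := by group
          _ = π⁻¹ * o * π := by rw [hinv, hvo o ho, inv_inv]
      have h3 : Commute (π * π) o := by
        show π * π * o = o * (π * π)
        calc π * π * o = π * (π * o * π⁻¹) * π := by group
          _ = π * (π⁻¹ * o * π) * π := by rw [h2]
          _ = o * (π * π) := by group
      exact (commute_of_sq oπ h3).eq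
    have hcent : o ∈ centralizer (P : Set K) := Subgroup.mem_centralizer_iff.2 fun y hy =>
      (Subgroup.mem_centralizer_singleton_iff.1 (hoP hy))
    rw [hon]
    exact Subgroup.mul_mem _ (centralizer_le_normalizer _ hcent) hnP
  · obtain ⟨z', hz'Q, hz'1, hz'v, -⟩ := hQ.central v hv hv1
    have hz'e := IsPElt.of_mem hQ.maxP.isPGroup hz'Q
    have hQ1Q : Q1 ≤ Q := C.le_of_common hV hq2 hQ.maxP hQ1q hQ1n (hBQ ((hBm z').2 ⟨hz'v, hz'e⟩)) hz'Q hz'1
    refine ⟨O, hOQ1.trans hQ1Q, hPX.trans hXO, fun x hxv hxe => ?_⟩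
    have hxB : x ∈ B := (hBm x).2 ⟨hxv, hxe⟩
    obtain ⟨o, ho, n, -, hnP, hon⟩ := hfac x (hBX hxB)
    refine ⟨o, ho, n, ?_, hnP, hon⟩
    have : n = o⁻¹ * x := by rw [hon, inv_mul_cancel_left]
    rw [this]
    exact Q.mul_mem (Q.inv_mem (hQ1Q (hOQ1 ho))) (hQ1Q (hBQ hxB))

/-- Pair subgroups for two primes permute. -/
theorem Ctx.perm {p q : ℕ} [Fact p.Prime] [hq : Fact q.Prime] (hpq : p ≠ q) (hp2 : p ≠ 2) (hq2 : q ≠ 2)
    {P Q : Subgroup K} (hP : Core V p P) (hQ : Core V q Q) : Perm P Q := by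
  set Q0 := ⨆ O ∈ {O : Subgroup K | O ≤ Q ∧ P ≤ normalizer (O : Set K)}, O with hQ0
  have hQ0Q : Q0 ≤ Q := iSup₂_le fun O hO => hO.1
  have hPQ0 : P ≤ normalizer (Q0 : Set K) := fun x hx =>
    iInf_normalizer_le_normalizer_iSup _ (mem_iInf.2 fun O =>
      iInf_normalizer_le_normalizer_iSup _ (mem_iInf.2 fun hO => hO.2 hx))
  have hmax : ∀ O : Subgroup K, O ≤ Q → P ≤ normalizer (O : Set K) → O ≤ Q0 := fun O h1 h2 =>
    le_iSup₂_of_le O ⟨h1, h2⟩ le_rfl
  have hboth : normalizer (Q : Set K) ⊓ normalizer (P : Set K) ≤ normalizer (Q0 : Set K) := by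
    refine le_normalizer_of_conj_mem fun n hn x hx => ?_
    refine hmax (Q0.map (MulAut.conj n).toMonoidHom) ?_ ?_ ⟨x, hx, rfl⟩
    · rintro _ ⟨y, hy, rfl⟩; exact (mem_normalizer_iff.1 hn.1 y).1 (hQ0Q hy)
    · refine le_normalizer_of_conj_mem ?_
      rintro π hπ _ ⟨y, hy, rfl⟩
      refine ⟨(n⁻¹ * π * n) * y * (n⁻¹ * π * n)⁻¹, conj_mem_of_le_normalizer hPQ0 ?_ hy, ?_⟩
      · simpa using (mem_normalizer_iff.1 (inv_mem hn.2) π).1 hπ
      · simp [mul_assoc]
  set N0 := Q ⊓ normalizer (P : Set K) with hN0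
  have hN0n : N0 ≤ normalizer (Q0 : Set K) := fun n hn => hboth ⟨le_normalizer hn.1, hn.2⟩
  set S := Q0 ⊔ N0 with hS
  have hQS : Q ≤ S := by
    refine hV.le_of_components (odd_card_of_isPGroup hq2 hQ.maxP.isPGroup) hQ.maxP.norm
      fun t ht ht1 x hx hxt => ?_
    obtain ⟨v, hv, hv1, -⟩ := hV.exists_other 1
    obtain ⟨n, hn, hnv⟩ := C.auto V hV v hv hv1 t ht ht1
    obtain ⟨O, hOQ, hPO, hfac⟩ := (C.factor hV hpq hp2 hq2 hP hv hv1).2 Q hQ
    have hc : Commute (n⁻¹ * x * n) v := by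
      have h0 := (Commute.conj_iff n⁻¹).2 hxt
      rw [← hnv] at h0
      simpa [mul_assoc] using h0
    obtain ⟨o, ho, m, hm, hmP, hom⟩ := hfac _ hc (by
      simpa using (IsPElt.of_mem hQ.maxP.isPGroup hx).conj n⁻¹)
    have hnb : n ∈ normalizer (Q : Set K) ⊓ normalizer (P : Set K) := ⟨hQ.auto hn, hP.auto hn⟩
    have e : x = (n * o * n⁻¹) * (n * m * n⁻¹) := by
      have : x = n * (n⁻¹ * x * n) * n⁻¹ := by group
      rw [this, hom]; group
    rw [e]
    refine mul_mem (mem_sup_left ((mem_normalizer_iff.1 (hboth hnb) o).1 (hmax O hOQ hPO ho)))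
      (mem_sup_right ⟨(mem_normalizer_iff.1 hnb.1 m).1 hm, ?_⟩)
    exact (normalizer (P : Set K)).mul_mem ((normalizer (P : Set K)).mul_mem hnb.2 hmP)
      ((normalizer (P : Set K)).inv_mem hnb.2)
  intro π hπ x hx
  obtain ⟨o, ho, n, hn, rfl⟩ := (Coprime.mem_sup_of_le_normalizer hN0n).1 (hQS hx)
  refine ⟨π * o * π⁻¹ * n, Q.mul_mem (hQ0Q (conj_mem_of_le_normalizer hPQ0 hπ ho)) hn.1,
    n⁻¹ * π * n, ?_, by group⟩
  simpa using (mem_normalizer_iff.1 (inv_mem hn.2) π).1 hπ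

/-- The `2`-elements of the abelian subgroup of an involution centraliser normalise the pair
subgroups. -/
theorem Ctx.two_mem_normalizer {p : ℕ} [Fact p.Prime] (hp2 : p ≠ 2) {P : Subgroup K} (hP : Core V p P)
    {v : K} (hv : v ∈ V) (hv1 : v ≠ 1) {A : Subgroup K} (hA : Shape v A) {a : K} (ha : a ∈ A)
    (ha2 : IsPElt 2 a) : a ∈ normalizer (P : Set K) := by
  have : Fact (Nat.Prime 2) := ⟨Nat.prime_two⟩
  have hv2 := hV.orderOf_eq hv hv1
  obtain ⟨z, hzP, hz1, hzv, hzc⟩ := hP.central v hv hv1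
  have hzo := (IsPElt.of_mem hP.maxP.isPGroup hzP).odd hp2
  obtain ⟨W, hWodd, hW⟩ := C.good.exists_oddSubgroup hzo hz1 (H := centralizer ({z} : Set K))
    fun x hx => Subgroup.mem_centralizer_singleton_iff.1 hx
  have hWn := hV.le_normalizer_oddSet C.good hv hv1 hzv hzo hW
  have hPW : P ≤ W := fun y hy => (hW y).2 ⟨Subgroup.mem_centralizer_singleton_iff.2 (hzc y hy).symm,
    (IsPElt.of_mem hP.maxP.isPGroup hy).odd hp2⟩
  have hPc : Nat.card P = p ^ (Nat.card W).factorization p := by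
    obtain ⟨P', -, hP'p, hP'n, hP'max, hP'c⟩ := hV.exists_sylow C.good hWodd hWn p
    rw [← hP.maxP.max P' hP'p hP'n (hP'max P hPW hP.maxP.isPGroup hP.maxP.norm), hP'c]
  -- the elements fixing the subgroup generated by `z`, which normalise `W`
  set Z := normalizer (zpowers z : Set K) ⊓ normalizer (W : Set K) with hZ
  have hVZ : V ≤ Z := le_inf (hV.le_normalizer_zpowers C.good hv hv1 hzv hzo) hWn
  have hCz : centralizer ({z} : Set K) ≤ Z := by
    intro x hx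
    refine ⟨centralizer_le_normalizer _ (Subgroup.mem_centralizer_iff.2 fun y hy => ?_), ?_⟩
    · obtain ⟨i, rfl⟩ := Subgroup.mem_zpowers_iff.1 hy
      exact ((show Commute z x from (Subgroup.mem_centralizer_singleton_iff.1 hx).symm).zpow_left i).eq
    · refine (le_normalizer_of_conj_mem (A := centralizer ({z} : Set K)) fun b hb y hy => ?_) hx
      obtain ⟨hy1, hy2⟩ := (hW y).1 hy
      exact (hW _).2 ⟨mul_mem (mul_mem hb hy1) (inv_mem hb), odd_orderOf_conj hy2⟩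
  have hWZ : W ≤ Z := fun x hx => hCz ((hW x).1 hx).1
  set NZ := Z ⊓ normalizer (P : Set K) with hNZ
  have hVNZ : V ≤ NZ := le_inf hVZ hP.maxP.norm
  have : (W.subgroupOf Z).Normal := normal_subgroupOf_of_le_normalizer inf_le_right
  have hsurj : (Z ⊓ normalizer (P : Set K)).subgroupOf Z ⊔ W.subgroupOf Z = ⊤ := by
    rw [eq_top_iff]
    rintro ⟨g, hg⟩ -
    obtain ⟨y, hy, hyg⟩ := frattini_elt hPW hPc hg.2
    have e : (⟨g, hg⟩ : Z) = (⟨y, hWZ hy⟩ : Z)⁻¹ * ⟨y * g, Z.mul_mem (hWZ hy) hg⟩ := by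
      apply Subtype.ext; simp
    rw [e]
    exact mul_mem (mem_sup_right (inv_mem hy)) (mem_sup_left ⟨Z.mul_mem (hWZ hy) hg, hyg⟩)
  have hidx : (NZ.subgroupOf Z).index ∣ Nat.card W := by
    have h1 := Subgroup.card_mul_index (NZ.subgroupOf Z)
    have h2 := Subgroup.card_mul_index ((W.subgroupOf Z))
    have h3 : (W.subgroupOf Z).index = (W.subgroupOf Z).relIndex (NZ.subgroupOf Z) := by
      rw [← Subgroup.relIndex_top_right (W.subgroupOf Z), ← hsurj, Subgroup.relIndex_sup_right]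
    have h4 : (W.subgroupOf Z).relIndex (NZ.subgroupOf Z) ∣ Nat.card (NZ.subgroupOf Z) :=
      Subgroup.index_dvd_card _
    rw [← h3] at h4
    obtain ⟨c, hc⟩ := h4
    rw [hc, ← h2, mul_comm (Nat.card (W.subgroupOf Z)), mul_assoc] at h1
    have h5 := Nat.eq_of_mul_eq_mul_left (Nat.pos_of_ne_zero Subgroup.index_ne_zero_of_finite) h1
    rw [← Coprime.card_subgroupOf hWZ]
    exact ⟨c, by rw [← h5, mul_comm]⟩
  obtain ⟨T, hVT⟩ := ((IsPGroup.of_card (n := 2) (by rw [hV.card]; norm_num) : IsPGroup 2 V).of_equiv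
    (subgroupOfEquivOfLe hVNZ).symm).exists_le_sylow
  set T' := (T : Subgroup NZ).map NZ.subtype with hT'
  have hT'p : IsPGroup 2 T' := T.2.map _
  have hVT' : V ≤ T' := fun x hx => ⟨⟨x, hVNZ hx⟩, hVT hx, rfl⟩
  have hT'Z : T' ≤ Z := (map_subtype_le _).trans inf_le_left
  -- the involution of `v` is central in `T'`
  have hT'v : ∀ t ∈ T', Commute t v := by
    intro t ht
    set Tz := T' ⊓ centralizer ({z} : Set K) with hTz
    have hcyc := C.good.cyclic_two_subgroup hzo hz1 (hT'p.to_le inf_le_left : IsPGroup 2 Tz)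
      fun x hx => Subgroup.mem_centralizer_singleton_iff.1 hx.2
    have hvTz : v ∈ Tz := ⟨hVT' hv, Subgroup.mem_centralizer_singleton_iff.2 hzv.symm⟩
    have hconj : t * v * t⁻¹ ∈ Tz := by
      refine ⟨T'.mul_mem (T'.mul_mem ht (hVT' hv)) (T'.inv_mem ht),
        Subgroup.mem_centralizer_singleton_iff.2 ?_⟩
      obtain ⟨i, hi⟩ := Subgroup.mem_zpowers_iff.1
        ((mem_normalizer_iff.1 (inv_mem (hT'Z ht).1) z).1 (mem_zpowers z))
      have hc : Commute v (t⁻¹ * z * t⁻¹⁻¹) := hi ▸ hzv.symm.zpow_right i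
      have := (Commute.conj_iff t).2 hc
      rw [inv_inv] at this
      simpa [mul_assoc] using this.eq
    have huniq : ∀ x ∈ Tz, orderOf x = 2 → x = v := by
      intro x hx hx2
      obtain ⟨g, hg⟩ := hcyc.exists_generator
      by_contra hne
      have hcm : Commute x v := by
        obtain ⟨i, hi⟩ := Subgroup.mem_zpowers_iff.1 (hg ⟨x, hx⟩)
        obtain ⟨j, hj⟩ := Subgroup.mem_zpowers_iff.1 (hg ⟨v, hvTz⟩)
        have := congrArg Subtype.val hi
        have h' := congrArg Subtype.val hj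
        simp only [Subgroup.coe_zpow] at this h'
        rw [← this, ← h']
        exact (Commute.refl (g : K)).zpow_zpow i j
      exact hz1 (C.good.odd_eq_one hv2 hx2 hne hcm hzv
        (Subgroup.mem_centralizer_singleton_iff.1 hx.2).symm hzo)
    exact mul_inv_eq_iff_eq_mul.1 (huniq _ hconj (by rw [Invol.orderOf_conj, hv2]))
  -- the `2`-elements of `A` form a normal subgroup of `Z ⊓ C(v)`
  let A2 : Subgroup K :=
    { carrier := {x | x ∈ A ∧ IsPElt 2 x}
      one_mem' := ⟨A.one_mem, 0, by simp⟩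
      mul_mem' := fun {x y} hx hy => ⟨A.mul_mem hx.1 hy.1, IsPElt.mul (hA.comm x hx.1 y hy.1) hx.2 hy.2⟩
      inv_mem' := fun {x} hx => ⟨A.inv_mem hx.1, by
        obtain ⟨k, hk⟩ := hx.2; exact ⟨k, by rwa [orderOf_inv]⟩⟩ }
  have hA2p : IsPGroup 2 A2 := IsPGroup.iff_orderOf.2 fun x => by
    obtain ⟨k, hk⟩ := x.2.2; exact ⟨k, by rwa [← orderOf_coe]⟩
  have hA2Z : A2 ≤ Z := fun x hx => hCz (Subgroup.mem_centralizer_singleton_iff.2
    (hA.comm x hx.1 z (hA.odd_mem hzv hzo)))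
  set Cv := Z ⊓ centralizer ({v} : Set K) with hCv
  have hA2C : A2 ≤ Cv := fun x hx => ⟨hA2Z hx, Subgroup.mem_centralizer_singleton_iff.2 (hA.cent x hx.1)⟩
  have hT'C : T' ≤ Cv := fun x hx => ⟨hT'Z hx, Subgroup.mem_centralizer_singleton_iff.2 (hT'v x hx)⟩
  have hA2n : Cv ≤ normalizer (A2 : Set K) := le_normalizer_of_conj_mem fun b hb x hx => by
    refine ⟨?_, hx.2.conj b⟩
    have hbv : Commute b v := Subgroup.mem_centralizer_singleton_iff.1 hb.2
    by_cases hbA : b ∈ A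
    · exact A.mul_mem (A.mul_mem hbA hx.1) (A.inv_mem hbA)
    · rw [hA.invert hbv hbA hx.1]; exact A.inv_mem hx.1
  have hsup : IsPGroup 2 (A2 ⊔ T' : Subgroup K) :=
    hA2p.to_sup_of_normal_left' hT'p (hT'C.trans hA2n)
  obtain ⟨n, hn⟩ := hsup.exists_card_eq
  have hle : Nat.card (A2 ⊔ T' : Subgroup K) ≤ Nat.card T' := by
    have h1 : Nat.card (A2 ⊔ T' : Subgroup K) ∣ Nat.card Z :=
      Subgroup.card_dvd_of_le (sup_le hA2Z hT'Z)
    have h2 := Subgroup.card_mul_index (NZ.subgroupOf Z)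
    rw [Coprime.card_subgroupOf (show NZ ≤ Z from inf_le_left)] at h2
    rw [hn] at h1 ⊢
    rw [← h2] at h1
    have hcp : (2 ^ n).Coprime (NZ.subgroupOf Z).index :=
      Nat.Coprime.pow_left _ (hWodd.of_dvd_nat hidx).coprime_two_left
    have h3 := hcp.dvd_of_dvd_mul_right h1
    rw [hT', card_map_of_injective NZ.subtype_injective, T.card_eq_multiplicity]
    exact Nat.pow_le_pow_right two_pos ((Nat.prime_two.pow_dvd_iff_le_factorization Nat.card_pos.ne').1 h3)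
  have he : T' = A2 ⊔ T' := Subgroup.eq_of_le_of_card_ge le_sup_right hle
  have haT : a ∈ T' := he.ge (mem_sup_left (show a ∈ A2 from ⟨ha, ha2⟩))
  obtain ⟨t, -, rfl⟩ := haT
  exact t.2.2

end Cfsg.Agent.DGroupPSL
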