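import Cfsg.Agent.DGroupPSL.Index
import Cfsg.Agent.Invol.DihedralSylow
import Cfsg.Agent.Fusion.Transfer
import Cfsg.Agent.S3116
import Cfsg.Agent.S3215

/-!
# The `2`-local structure: dihedral Sylow subgroups, fusion, simplicity
-/

set_option autoImplicit false

namespace Cfsg.Agent.DGroupPSL

open Subgroup DihedralGroup Cfsg.Agent.Invol

universe u

variable {X : Type u} [Group X]

/-- The dihedral data of a dihedral Sylow subgroup. -/
theorem DihAt.ddata [Finite X] {v σ τ : X} {P : Sylow 2 X} {k : ℕ} (D : DihAt v P σ τ k) :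
    ∃ ι : DihedralGroup (2 ^ k) →* X, DData P k ι ∧ ι (r (dh k)) = v ∧ ι (sr 0) = τ := by
  let f : ZMod (2 ^ k) → X := fun i => σ ^ i.val
  have hadd : ∀ i j, f (i + j) = f i * f j := fun i j => by
    show σ ^ (i + j).val = σ ^ i.val * σ ^ j.val
    rw [← pow_add, ZMod.val_add]
    exact (pow_eq_pow_mod _ (D.σ_ord ▸ pow_orderOf_eq_one σ)).symm
  have h0 : f 0 = 1 := by simp [f]
  have hneg : ∀ i, f (-i) = (f i)⁻¹ := fun i =>
    eq_inv_of_mul_eq_one_left (by rw [← hadd, neg_add_cancel, h0])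
  have hττ : τ * τ = 1 := by rw [← pow_two, ← D.τ_ord, pow_orderOf_eq_one]
  have hswap : ∀ i, f i * τ = τ * f (-i) := fun i => by
    have h : τ * f i * τ⁻¹ = f (-i) := by
      rw [hneg]
      show τ * σ ^ i.val * τ⁻¹ = _
      rw [← conj_pow, D.rel, inv_pow]
    rw [← h, inv_eq_of_mul_eq_one_right hττ, ← mul_assoc, ← mul_assoc, hττ, one_mul]
  let F : DihedralGroup (2 ^ k) → X
    | r i => f i
    | sr i => τ * f i
  have hmul : ∀ a b, F (a * b) = F a * F b := by
    rintro (i | i) (j | j)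
    · rw [r_mul_r]; exact hadd i j
    · rw [r_mul_sr]
      show τ * f (j - i) = f i * (τ * f j)
      rw [← mul_assoc, hswap, mul_assoc, ← hadd, neg_add_eq_sub]
    · rw [sr_mul_r]
      show τ * f (i + j) = τ * f i * f j
      rw [hadd, mul_assoc]
    · rw [sr_mul_sr]
      show f (j - i) = τ * f i * (τ * f j)
      rw [mul_assoc τ (f i), ← mul_assoc (f i), hswap, mul_assoc τ (f (-i)), ← mul_assoc τ τ, hττ,
        one_mul, ← hadd, neg_add_eq_sub]
  let ι : DihedralGroup (2 ^ k) →* X := MonoidHom.mk' F hmul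
  have hσ1 : ι (r 1) = σ := by
    show σ ^ (1 : ZMod (2 ^ k)).val = σ
    rw [ZMod.val_one_eq_one_mod, Nat.mod_eq_of_lt (Nat.one_lt_two_pow (by have := D.pos; omega)), pow_one]
  have hτ0 : ι (sr 0) = τ := by show τ * f 0 = τ; rw [h0, mul_one]
  refine ⟨ι, ⟨D.pos, (injective_iff_map_eq_one ι).2 ?_, le_antisymm ?_ ?_⟩, ?_, hτ0⟩
  · rintro (i | i) hi
    · have hi' : σ ^ i.val = 1 := hi
      have hd := orderOf_dvd_of_pow_eq_one hi'
      rw [D.σ_ord] at hd
      have hval : i.val = 0 := Nat.eq_zero_of_dvd_of_lt hd i.val_lt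
      rw [ZMod.val_eq_zero] at hval
      rw [hval]; rfl
    · exfalso
      have hi' : τ * σ ^ i.val = 1 := hi
      refine D.τ_notMem ?_
      rw [eq_inv_of_mul_eq_one_left hi']
      exact inv_mem (pow_mem (mem_zpowers σ) _)
  · rintro _ ⟨(i | i), rfl⟩
    · exact pow_mem D.σ_mem _
    · exact mul_mem D.τ_mem (pow_mem D.σ_mem _)
  · rw [← D.gen, closure_le]
    rintro x (rfl | rfl)
    · exact ⟨_, hσ1⟩
    · exact ⟨_, hτ0⟩
  · show σ ^ (dh k).val = v
    rw [← BlockThms.Dihedral.natCast_dh, ZMod.val_natCast, Nat.mod_eq_of_lt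
      (Nat.pow_lt_pow_right one_lt_two (by have := D.pos; omega)), D.val]

variable [Finite X]

/-- A group with a normal `2`-complement is solvable. -/
theorem solvable_of_complement (h : Cfsg.HasNormalPComplement 2 X) : Group.IsSolvable X := by
  have : Fact (Nat.Prime 2) := ⟨Nat.prime_two⟩
  obtain ⟨P, N, hN, hc⟩ := h
  have hodd : Odd (Nat.card N) := by
    rw [← hc.index_eq_card, ← Nat.not_even_iff_odd, even_iff_two_dvd]
    exact P.not_dvd_index
  have hq : IsPGroup 2 (X ⧸ N) := by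
    obtain ⟨n, hn⟩ := P.2.exists_card_eq
    exact IsPGroup.of_card (n := n) (by rw [← Subgroup.index_eq_card, hc.symm.index_eq_card, hn])
  have := S0205.result hodd
  have := hq.isNilpotent
  exact Group.isSolvable_of_ker_le_range N.subtype (QuotientGroup.mk' N) (by simp)

/-- Every involution commutes with a central involution of some Sylow subgroup. -/
theorem exists_central_involution (P : Sylow 2 X) (h2 : 2 ∣ Nat.card X) :
    ∃ z ∈ (P : Subgroup X), orderOf z = 2 ∧ ∀ x ∈ (P : Subgroup X), Commute x z := by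
  have : Fact (Nat.Prime 2) := ⟨Nat.prime_two⟩
  have hP : (P : Subgroup X) ≠ ⊥ := by
    intro e
    have h1 := P.card_eq_multiplicity
    have h3 := Nat.prime_two.factorization_pos_of_dvd Nat.card_pos.ne' h2
    rw [e, Subgroup.card_bot] at h1
    exact absurd h1.symm (Nat.one_lt_pow h3.ne' one_lt_two).ne'
  have : Nontrivial P := (Subgroup.nontrivial_iff_ne_bot _).2 hP
  have := P.2.center_nontrivial
  obtain ⟨c, hc⟩ := exists_prime_orderOf_dvd_card' (G := center P) 2 (by
    obtain ⟨n, hn⟩ := (P.2.to_subgroup (center P)).exists_card_eq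
    rw [hn]
    refine dvd_pow_self 2 fun e => ?_
    rw [e, pow_zero] at hn
    exact absurd (Nat.card_eq_one_iff_unique.1 hn).1 (not_subsingleton _))
  exact ⟨((c : P) : X), (c : P).2, by rwa [orderOf_coe, orderOf_coe],
    fun x hx => congrArg Subtype.val (Subgroup.mem_center_iff.1 c.2 ⟨x, hx⟩)⟩

/-- The Sylow subgroup around an involution with the shape, unless there is a normal complement. -/
theorem Shape.exists_dihAt {z : X} {A : Subgroup X} (hA : Shape z A) (hns : ¬ Group.IsSolvable X)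
    (P : Sylow 2 X) (hz : orderOf z = 2) (hzP : z ∈ (P : Subgroup X))
    (hc : ∀ x ∈ (P : Subgroup X), Commute x z) :
    ∃ σ τ k, DihAt z P σ τ k := by
  have : Fact (Nat.Prime 2) := ⟨Nat.prime_two⟩
  set T := (P : Subgroup X) ⊓ A with hT
  have hTp : IsPGroup 2 T := P.2.to_le inf_le_left
  have : IsMulCommutative T := ⟨⟨fun a b => Subtype.ext (hA.comm _ a.2.2 _ b.2.2).eq⟩⟩
  have hTc : IsCyclic T := Invol.isCyclic_of_unique_involution hTp fun x y hx hy => by
    have key : ∀ w : T, orderOf w = 2 → (w : X) = z := fun w hw => by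
      have hw' : orderOf (w : X) = 2 := by rwa [orderOf_coe]
      exact (hA.two _ w.2.2 (inv2_mul_self hw')).resolve_left (inv2_ne_one hw')
    exact Subtype.ext ((key x hx).trans (key y hy).symm)
  obtain ⟨g, hg⟩ := hTc.exists_generator
  set σ := (g : X) with hσdef
  obtain ⟨k, hk⟩ := IsPGroup.iff_orderOf.1 hTp g
  have hσo : orderOf σ = 2 ^ k := by rw [hσdef, orderOf_coe, hk]
  have hmemT : ∀ x ∈ (P : Subgroup X), x ∈ A → x ∈ zpowers σ := fun x hx hxA => by
    obtain ⟨i, hi⟩ := mem_zpowers_iff.1 (hg ⟨x, hx, hxA⟩)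
    exact ⟨i, by simpa [hσdef] using congrArg Subtype.val hi⟩
  obtain ⟨τ, hτP, hτA⟩ : ∃ τ ∈ (P : Subgroup X), τ ∉ A := by
    by_contra hcon
    push Not at hcon
    refine hns (solvable_of_complement (HSub.hasNormalPComplement_of_cyclic P
      (fun q hq _ => hq.two_le) ?_))
    exact isCyclic_of_surjective _
      ((MulEquiv.subgroupCongr (le_antisymm inf_le_left (le_inf le_rfl hcon) :
        T = (P : Subgroup X)))).surjective
  have hττ : τ * τ = 1 := hA.sq τ (hc τ hτP) hτA
  have hτ2 : orderOf τ = 2 := Invol.orderOf_eq_two_iff.2 ⟨fun e => hτA (e ▸ A.one_mem), hττ⟩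
  have hk1 : 1 ≤ k := by
    by_contra h
    have h1 : σ = 1 := orderOf_eq_one_iff.1 (by rw [hσo, show k = 0 by omega, pow_zero])
    have h2 := hmemT z hzP hA.mem
    rw [h1, zpowers_one_eq_bot, Subgroup.mem_bot] at h2
    exact inv2_ne_one hz h2
  refine ⟨σ, τ, k, hk1, g.2.1, hτP, hσo, hτ2, hA.invert (hc τ hτP) hτA g.2.2, fun h => hτA ?_, ?_, ?_⟩
  · exact zpowers_le.2 g.2.2 h
  · refine le_antisymm ((closure_le _).2 ?_) fun x hx => ?_
    · rintro y (rfl | rfl)
      exacts [g.2.1, hτP]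
    · have hσ : zpowers σ ≤ closure ({σ, τ} : Set X) := zpowers_le.2 (subset_closure (Or.inl rfl))
      by_cases hxA : x ∈ A
      · exact hσ (hmemT x hx hxA)
      · have h1 := hA.index_two x τ (hc x hx) (hc τ hτP) hxA hτA
        have h2 : x = x * τ * τ := by rw [mul_assoc, hττ, mul_one]
        rw [h2]
        exact mul_mem (hσ (hmemT _ (mul_mem hx hτP) h1)) (subset_closure (Or.inr rfl))
  · have h1 : σ ^ 2 ^ (k - 1) ∈ A := A.pow_mem g.2.2 _
    have h2 : orderOf (σ ^ 2 ^ (k - 1)) = 2 := by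
      rw [orderOf_pow' _ (pow_ne_zero _ two_ne_zero), hσo, Nat.gcd_eq_right (pow_dvd_pow 2 (by omega)),
        Nat.pow_div (by omega) two_pos, show k - (k - 1) = 1 by omega, pow_one]
    exact (hA.two _ h1 (inv2_mul_self h2)).resolve_left (inv2_ne_one h2)

namespace Good

variable (hX : Good X)
include hX

/-- The Sylow subgroup around a central involution, unless there is a normal complement. -/
theorem exists_dihAt (hns : ¬ Group.IsSolvable X) (P : Sylow 2 X) {z : X} (hz : orderOf z = 2)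
    (hzP : z ∈ (P : Subgroup X)) (hc : ∀ x ∈ (P : Subgroup X), Commute x z) :
    ∃ σ τ k, DihAt z P σ τ k := by
  obtain ⟨A, hA⟩ := hX z hz
  exact hA.exists_dihAt hns P hz hzP hc

/-- In a solvable reduced group no odd element commutes with an involution. -/
theorem eq_one_of_solvable (hs : Group.IsSolvable X) (hO : NoOdd X) {v τ : X} (hv : orderOf v = 2)
    (ho : Odd (orderOf τ)) (hτ : Commute τ v) : τ = 1 := by
  have : Fact (Nat.Prime 2) := ⟨Nat.prime_two⟩
  by_contra h1
  set Q := Cfsg.pCore 2 X with hQ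
  have hQp : IsPGroup 2 Q := Core.pCore_isPGroup
  have hCQ := S3215.centralizer_pCore_le (H := X) (hO _ inferInstance odd_card_oddCore)
  have hodd1 : ∀ y ∈ Q, Odd (orderOf y) → y = 1 := fun y hy hyo => by
    obtain ⟨n, hn⟩ := IsPGroup.iff_orderOf.1 hQp ⟨y, hy⟩
    rw [← orderOf_coe] at hn
    rcases n with _ | n
    · exact orderOf_eq_one_iff.1 (by rw [hn, pow_zero])
    · rw [hn] at hyo
      exact absurd hyo (Nat.not_odd_iff_even.2 (by simp [pow_succ]))
  obtain ⟨A, hA⟩ := hX v hv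
  have hτA := hA.odd_mem hτ ho
  have hqA : ∀ y ∈ Q, Commute y v → y ∈ A := by
    intro y hy hyv
    by_contra hyA
    have h2 := hA.invert hyv hyA hτA
    have h3 : τ * τ ∈ Q := by
      have : τ * (y * τ⁻¹ * y⁻¹) ∈ Q := by
        have := Q.mul_mem ((inferInstance : Q.Normal).conj_mem y hy τ) (Q.inv_mem hy)
        simpa [mul_assoc] using this
      have e : y * τ⁻¹ * y⁻¹ = τ := by rw [← inv_inv τ, inv_inv τ]; simpa [mul_assoc] using congrArg Inv.inv h2
      rwa [e] at this
    have h4 := hodd1 _ h3 (ho.of_dvd_nat (by rw [← pow_two]; exact orderOf_pow_dvd 2))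
    exact h1 (eq_one_of_sq ho h4)
  -- `v` lies in `Q`
  have hQ1 : Q ≠ ⊥ := fun e => by
    have hle : centralizer (Q : Set X) ≤ Q := hCQ
    have := hle (Subgroup.mem_centralizer_iff.2 fun y hy => by
      rw [e, SetLike.mem_coe, Subgroup.mem_bot] at hy; rw [hy, one_mul, mul_one] : v ∈ centralizer (Q : Set X))
    rw [e, Subgroup.mem_bot] at this
    exact inv2_ne_one hv this
  obtain ⟨R, hR⟩ := (hQp.to_sup_of_normal_left (IsPGroup.of_card (n := 1)
    (by rw [Nat.card_zpowers, hv, pow_one]) : IsPGroup 2 (zpowers v))).exists_le_sylow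
  have hvR : v ∈ (R : Subgroup X) := hR (mem_sup_right (mem_zpowers v))
  obtain ⟨c, hcQ, hc1, hcR⟩ : ∃ c ∈ Q, c ≠ 1 ∧ ∀ x ∈ (R : Subgroup X), Commute c x := by
    have hQR : Q ≤ (R : Subgroup X) := le_sup_left.trans hR
    have : Nontrivial (Q.subgroupOf (R : Subgroup X)) := by
      rw [Subgroup.nontrivial_iff_ne_bot, Ne, Subgroup.subgroupOf_eq_bot, disjoint_iff, inf_eq_left.2 hQR]
      exact hQ1
    obtain ⟨c, hc, hc1⟩ : ∃ c ∈ Q.subgroupOf (R : Subgroup X) ⊓ center (R : Subgroup X), c ≠ 1 := by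
      by_contra hcon
      push Not at hcon
      exact Fusion.pGroup_inf_center_ne_bot R.2 _ ((Subgroup.nontrivial_iff_ne_bot _).1 this)
        ((Subgroup.eq_bot_iff_forall _).2 hcon)
    exact ⟨c, hc.1, fun e => hc1 (Subtype.ext e), fun x hx =>
      (congrArg Subtype.val (Subgroup.mem_center_iff.1 hc.2 ⟨x, hx⟩)).symm⟩
  have hcA := hqA c hcQ (hcR v hvR)
  have hvQ : v ∈ Q := by
    obtain ⟨n, hn⟩ := IsPGroup.iff_orderOf.1 hQp ⟨c, hcQ⟩
    rw [← orderOf_coe] at hn
    have hn0 : n ≠ 0 := fun e => hc1 (orderOf_eq_one_iff.1 (by rw [hn, e, pow_zero]))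
    have h2 : orderOf (c ^ (orderOf c / 2)) = 2 :=
      orderOf_pow_orderOf_div (orderOf_pos c).ne' (hn ▸ dvd_pow_self 2 hn0)
    exact (hA.two _ (A.pow_mem hcA _) (inv2_mul_self h2)).resolve_left (inv2_ne_one h2) ▸
      Q.pow_mem hcQ _
  -- the centre of `Q` has the involution `v`
  have : Nontrivial Q := (Subgroup.nontrivial_iff_ne_bot _).2 hQ1
  have := hQp.center_nontrivial
  obtain ⟨d, hd⟩ := exists_prime_orderOf_dvd_card' (G := center Q) 2 (by
    obtain ⟨n, hn⟩ := (hQp.to_subgroup (center Q)).exists_card_eq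
    rw [hn]
    refine dvd_pow_self 2 fun e => ?_
    rw [e, pow_zero] at hn
    exact absurd (Nat.card_eq_one_iff_unique.1 hn).1 (not_subsingleton _))
  have hd2 : orderOf ((d : Q) : X) = 2 := by rwa [orderOf_coe, orderOf_coe]
  have hdc : ∀ y ∈ Q, Commute y ((d : Q) : X) := fun y hy =>
    congrArg Subtype.val (Subgroup.mem_center_iff.1 d.2 ⟨y, hy⟩)
  have hdv : ((d : Q) : X) = v := (hA.two _ (hqA _ (d : Q).2 (hdc v hvQ).symm) (inv2_mul_self hd2)).resolve_left
    (inv2_ne_one hd2)
  have hQA : ∀ y ∈ Q, y ∈ A := fun y hy => hqA y hy (hdv ▸ hdc y hy)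
  exact h1 (hodd1 τ (hCQ (Subgroup.mem_centralizer_iff.2 fun y hy =>
    (hA.comm y (hQA y hy) τ hτA).eq)) ho)

end Good

/-- Without one class of involutions there is a subgroup of index two with one class. -/
theorem exists_one_class_index_two {P : Sylow 2 X} {k : ℕ} {ι : DihedralGroup (2 ^ k) →* X}
    (D : DData P k ι) (hns : ¬ Group.IsSolvable X)
    (hnc : ¬ ∀ x y : X, orderOf x = 2 → orderOf y = 2 → IsConj x y) :
    ∃ M : Subgroup X, M.Normal ∧ M.index = 2 ∧ (∃ a, ι (sr a) ∉ M) ∧ ι (r (dh k)) ∈ M ∧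
      ∀ x ∈ M, orderOf x = 2 → ∃ g ∈ M, g * x * g⁻¹ = ι (r (dh k)) := by
  set z := ι (r (dh k)) with hz
  obtain ⟨a, ha⟩ : ∃ a, ¬ IsConj (ι (sr a)) z := by
    by_contra hcon
    push Not at hcon
    refine hnc fun x y hx hy => ?_
    have : ∀ t : X, orderOf t = 2 → IsConj t z := fun t ht => by
      rcases D.exists_conj_involution ht with e | ⟨c, e⟩
      exacts [e, e.trans (hcon c)]
    exact (this x hx).trans (this y hy).symm
  obtain ⟨b, hb⟩ : ∃ b, IsConj (ι (sr b)) z := by
    by_contra hcon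
    push Not at hcon
    exact hns (solvable_of_complement (D.complement_of_not_conj hcon))
  obtain ⟨M, hM, hMi, haM⟩ := D.index_two_of_not_conj ha
  have hmem : ∀ {x y : X}, IsConj x y → (x ∈ M ↔ y ∈ M) := fun {x y} h => by
    obtain ⟨g, rfl⟩ := isConj_iff.1 h
    exact (hM.mem_comm_iff.trans (by rw [← mul_assoc, inv_mul_cancel, one_mul])).symm
  have hmul : ∀ x y, x * y ∈ M ↔ (x ∈ M ↔ y ∈ M) := fun x y => Subgroup.mul_mem_iff_of_index_two hMi
  have hk2 : 2 ≤ k := by
    by_contra hk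
    have hk1 : k = 1 := by have := D.pos; omega
    subst hk1
    have hab : a ≠ b := fun e => ha (e ▸ hb)
    have e : ι (sr a) * ι (sr b) = z := by
      rw [← map_mul, sr_mul_sr, hz]
      congr 2
      have key : ∀ a b : ZMod (2 ^ 1), a ≠ b → b - a = dh 1 := by unfold dh; decide
      exact key a b hab
    refine haM ?_
    have h2 : ι (sr a) = z * ι (sr b) := by
      rw [← e, mul_assoc, ← map_mul, sr_mul_sr, sub_self, ← one_def, map_one, mul_one]
    rw [h2, hmul]
    exact (hmem hb).symm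
  have hzM : z ∈ M := by
    rw [hz, dh_even hk2, two_mul, ← r_mul_r, map_mul, hmul]
  refine ⟨M, hM, hMi, ⟨a, haM⟩, hzM, fun x hx hx2 => ?_⟩
  -- parity classes
  have hpar : ∀ c d : ZMod (2 ^ k), IsConj (ι (sr (d - 2 * c))) (ι (sr d)) := fun c d =>
    (isConj_iff.2 ⟨ι (r c), by rw [← map_inv, ← map_mul, ← map_mul, r_conj_sr D.pos]⟩ :
      IsConj (ι (sr d)) (ι (sr (d - 2 * c)))).symm
  obtain ⟨g, hg⟩ : ∃ g, g * x * g⁻¹ = z := by
    rcases D.exists_conj_involution hx2 with e | ⟨c, e⟩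
    · exact isConj_iff.1 e
    · refine isConj_iff.1 (e.trans (?_ : IsConj (ι (sr c)) z))
      have hc : ι (sr c) ∈ M := (hmem e).1 hx
      obtain ⟨d, hd⟩ := dparity (c - b)
      rcases hd with hd | hd
      · rw [show c = b - 2 * (-d) by linear_combination hd]
        exact (hpar (-d) b).trans hb
      · exfalso
        obtain ⟨d', hd'⟩ := dparity (a - c)
        rcases hd' with hd' | hd'
        · refine haM ((hmem ?_).2 hc)
          rw [show a = c - 2 * (-d') by linear_combination hd']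
          exact hpar (-d') c
        · refine ha (?_ : IsConj (ι (sr a)) z)
          rw [show a = b - 2 * (-(d + d' + 1)) by linear_combination hd + hd']
          exact (hpar _ b).trans hb
  by_cases hgM : g ∈ M
  · exact ⟨g, hgM, hg⟩
  refine ⟨ι (sr a) * g, (hmul _ _).2 (iff_of_false haM hgM), ?_⟩
  have hc : ι (sr a) * z = z * ι (sr a) := D.z_comm (D.mem _)
  calc ι (sr a) * g * x * (ι (sr a) * g)⁻¹ = ι (sr a) * (g * x * g⁻¹) * (ι (sr a))⁻¹ := by group
    _ = z := by rw [hg, hc, mul_inv_cancel_right]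

namespace Good

variable (hX : Good X) (hone : ∀ x y : X, orderOf x = 2 → orderOf y = 2 → IsConj x y)
include hX hone

/-- With one class of involutions the automisers of four-groups are transitive. -/
theorem auto {V : Subgroup X} (hV : IsFour V) {v u : X} (hv : v ∈ V) (hv1 : v ≠ 1) (hu : u ∈ V)
    (hu1 : u ≠ 1) : ∃ n ∈ normalizer (V : Set X), n * v * n⁻¹ = u := by
  have : Fact (Nat.Prime 2) := ⟨Nat.prime_two⟩
  by_cases hne : v = u
  · exact ⟨1, Subgroup.one_mem _, by rw [one_mul, inv_one, mul_one, hne]⟩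
  by_cases h4 : ∃ c : X, orderOf c = 4
  · obtain ⟨c, hc⟩ := h4
    set w := v * u with hw
    have hw1 : w ≠ 1 := fun e => hne ((eq_inv_of_mul_eq_one_left e).trans (hV.inv_eq hu))
    have hw2 := hV.orderOf_eq (V.mul_mem hv hu) hw1
    obtain ⟨g, hg⟩ := isConj_iff.1 (hone (c ^ 2) w (by rw [orderOf_pow, hc]; rfl) hw2)
    set d := g * c * g⁻¹ with hd
    have hd2 : d * d = w := by rw [hd, ← hg, pow_two]; group
    have hdw : Commute d w := hd2 ▸ (Commute.refl d).mul_right (Commute.refl d)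
    obtain ⟨A, hA⟩ := hX w hw2
    have hdA : d ∈ A := by
      by_contra h
      exact hw1 (hd2 ▸ hA.sq d hdw h)
    have swap : ∀ y ∈ V, y ≠ 1 → y ≠ w → d * y * d⁻¹ = w * y := by
      intro y hy hy1 hyw
      have h := hA.other_inverts (hV.orderOf_eq hy hy1) hyw (hV.commute hy (V.mul_mem hv hu)) hdA
      have e : y * d⁻¹ = d * y := by
        rw [← h, hV.inv_eq hy, ← mul_assoc, ← mul_assoc, hV.sq y hy, one_mul]
      rw [mul_assoc, e, ← mul_assoc, hd2]
    have hV' : ∀ y ∈ V, d * y * d⁻¹ ∈ V := by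
      intro y hy
      by_cases hy1 : y = 1
      · rw [hy1, mul_one, mul_inv_cancel]; exact V.one_mem
      by_cases hyw : y = w
      · rw [hyw, hdw.eq, mul_inv_cancel_right]; exact V.mul_mem hv hu
      · rw [swap y hy hy1 hyw]; exact V.mul_mem (V.mul_mem hv hu) hy
    have := hV.finite
    have hbij : Function.Surjective fun y : V => (⟨_, hV' y y.2⟩ : V) :=
      Finite.surjective_of_injective fun a b e => Subtype.ext (by simpa using congrArg Subtype.val e)
    refine ⟨d, mem_normalizer_iff.2 fun y => ⟨hV' y, fun hy => ?_⟩, ?_⟩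
    · obtain ⟨y', e⟩ := hbij ⟨_, hy⟩
      exact (mul_left_cancel (mul_right_cancel (congrArg Subtype.val e)) : (y' : X) = y) ▸ y'.2
    · rw [swap v hv hv1 (fun e => hu1 (by simpa [hw] using e.symm)), hw, (hV.commute hv hu).eq,
        mul_assoc, hV.sq v hv, mul_one]
  · obtain ⟨S, hS⟩ := (IsPGroup.of_card (n := 2) (by rw [hV.card]; rfl) : IsPGroup 2 V).exists_le_sylow
    have hsq : ∀ x ∈ (S : Subgroup X), x * x = 1 := by
      intro x hx
      obtain ⟨n, hn⟩ := IsPGroup.iff_orderOf.1 S.2 ⟨x, hx⟩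
      rw [← orderOf_coe] at hn
      have hn2 : n ≤ 1 := by
        by_contra hlt
        refine h4 ⟨x ^ 2 ^ (n - 2), ?_⟩
        rw [orderOf_pow' _ (pow_ne_zero _ two_ne_zero), hn, Nat.gcd_eq_right (pow_dvd_pow 2 (by omega)),
          Nat.pow_div (by omega) two_pos, show n - (n - 2) = 2 by omega]
        rfl
      rw [← pow_two]
      exact orderOf_dvd_iff_pow_eq_one.1 (hn ▸ (pow_one 2 ▸ pow_dvd_pow 2 hn2))
    have hcomm : ∀ x ∈ (S : Subgroup X), ∀ y ∈ (S : Subgroup X), Commute x y := fun x hx y hy => by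
      have h := hsq (x * y) (mul_mem hx hy)
      have hxi : x⁻¹ = x := inv_eq_of_mul_eq_one_right (hsq x hx)
      have hyi : y⁻¹ = y := inv_eq_of_mul_eq_one_right (hsq y hy)
      show x * y = y * x
      rw [eq_inv_of_mul_eq_one_right h, mul_inv_rev, hxi, hyi]
    have hSV : (S : Subgroup X) ≤ V := fun x hx => hV.cent hX fun y hy => hcomm x hx y (hS hy)
    obtain ⟨g, hg⟩ := isConj_iff.1 (hone v u (hV.orderOf_eq hv hv1) (hV.orderOf_eq hu hu1))
    obtain ⟨t, ht, htv⟩ := Fusion.exists_mem_normalizer_conj_of_isMulCommutative (P := S)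
      ⟨⟨fun a b => Subtype.ext (hcomm _ a.2 _ b.2).eq⟩⟩ (hS hv) g (hg ▸ hS hu)
    have e : (V : Set X) = (S : Set X) := congrArg SetLike.coe (le_antisymm hS hSV)
    exact ⟨t, by rw [e]; exact ht, htv.trans hg⟩

/-- With one class of involutions a nonsolvable reduced group is simple. -/
theorem isSimpleGroup (hO : NoOdd X) (hns : ¬ Group.IsSolvable X) : IsSimpleGroup X := by
  have : Fact (Nat.Prime 2) := ⟨Nat.prime_two⟩
  have : Nontrivial X := by
    by_contra h
    rw [not_nontrivial_iff_subsingleton] at h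
    exact hns (Group.isSolvable_of_comm fun a b => Subsingleton.elim _ _)
  refine ⟨fun M hM => ?_⟩
  by_cases hM1 : M = ⊥
  · exact Or.inl hM1
  refine Or.inr ?_
  have heven : 2 ∣ Nat.card M := by
    by_contra h
    exact hM1 (hO M hM (Nat.odd_iff.2 (Nat.two_dvd_ne_zero.1 h)))
  obtain ⟨m, hm⟩ := exists_prime_orderOf_dvd_card' (G := M) 2 heven
  have hinv : ∀ x : X, orderOf x = 2 → x ∈ M := fun x hx => by
    obtain ⟨g, hg⟩ := isConj_iff.1 (hone (m : X) x (by rwa [orderOf_coe]) hx)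
    exact hg ▸ hM.conj_mem m m.2 g
  obtain ⟨S⟩ : Nonempty (Sylow 2 X) := inferInstance
  obtain ⟨z, hzS, hz, hzc⟩ := exists_central_involution S (heven.trans (card_subgroup_dvd_card M))
  obtain ⟨σ, τ, k, D⟩ := hX.exists_dihAt hns S hz hzS hzc
  have hSM : (S : Subgroup X) ≤ M := by
    rw [← D.gen, closure_le]
    rintro x (rfl | rfl)
    · have h := M.mul_mem (hinv _ D.mul_ord) (hinv _ D.τ_ord)
      rwa [mul_assoc, inv2_mul_self D.τ_ord, mul_one] at h
    · exact hinv _ D.τ_ord
  obtain ⟨ι, DD, hιz, hιτ⟩ := D.ddata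
  have hcent : ∀ x, (∀ s ∈ (S : Subgroup X), Commute x s) → Odd (orderOf x) → x = 1 := fun x hx hxo =>
    hX.odd_eq_one hz D.τ_ord (fun e => D.τ_notMem (e ▸ D.val ▸ pow_mem (mem_zpowers σ) _))
      (D.commute_τ.symm) (hx z hzS) (hx τ D.τ_mem) hxo
  by_contra hMtop
  obtain ⟨n, hnN, hnM⟩ : ∃ n ∈ normalizer ((S : Subgroup X) : Set X), n ∉ M := by
    by_contra hcon
    push Not at hcon
    refine hMtop (eq_top_iff.2 ?_)
    have hfr := Sylow.normalizer_sup_eq_top (S.subtype hSM)
    rw [Sylow.coe_subtype, subgroupOf_map_subtype, inf_eq_left.2 hSM] at hfr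
    exact hfr ▸ sup_le (fun x hx => hcon x hx) le_rfl
  -- an element of odd order
  obtain ⟨j, l, hl, hjl⟩ := Nat.exists_eq_two_pow_mul_odd (orderOf_pos n).ne'
  set n' := n ^ 2 ^ j with hn'
  have hn'o : Odd (orderOf n') := by
    rw [hn', orderOf_pow' _ (pow_ne_zero _ two_ne_zero), hjl, Nat.gcd_eq_right (dvd_mul_right _ _),
      Nat.mul_div_cancel_left _ (Nat.two_pow_pos j)]
    exact hl
  have hn'N : n' ∈ normalizer ((S : Subgroup X) : Set X) := pow_mem hnN _
  have hn'M : n' ∉ M := fun h => by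
    refine hnM ?_
    have hl' : n ^ l ∈ M := hSM (by
      have hp : IsPGroup 2 (zpowers (n ^ l)) := IsPGroup.of_card (n := j) (by
        rw [Nat.card_zpowers, orderOf_pow' _ (by rintro rfl; simp at hl), hjl,
          Nat.gcd_eq_right (dvd_mul_left _ _), Nat.mul_div_cancel _ hl.pos])
      exact ((hp.inf_normalizer_sylow S).le ⟨mem_zpowers _, pow_mem hnN _⟩).2)
    have hg := Int.gcd_eq_gcd_ab (2 ^ j : ℕ) l
    rw [Int.gcd_natCast_natCast, (hl.coprime_two_left.pow_left j).gcd_eq_one] at hg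
    have : n ^ (1 : ℤ) ∈ M := by
      rw [show (1 : ℤ) = ((1 : ℕ) : ℤ) from rfl, hg, zpow_add, zpow_mul, zpow_mul, zpow_natCast, zpow_natCast]
      exact M.mul_mem (M.zpow_mem h _) (M.zpow_mem hl' _)
    simpa using this
  let φ : normalizer ((S : Subgroup X) : Set X) →* MulAut (S : Subgroup X) :=
    Subgroup.normalizerMonoidHom (S : Subgroup X)
  have htriv : φ ⟨n', hn'N⟩ = 1 → False := fun h => by
    have hc : ∀ s ∈ (S : Subgroup X), Commute n' s := fun s hs => by
      have e : n' * s * n'⁻¹ = s :=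
        congrArg (fun e : MulAut (S : Subgroup X) => ((e ⟨s, hs⟩ : (S : Subgroup X)) : X)) h
      exact mul_inv_eq_iff_eq_mul.1 e
    exact hn'M (hcent n' hc hn'o ▸ M.one_mem)
  have hcardS : Nat.card (S : Subgroup X) = 2 * 2 ^ k := DD.card_sylow
  rcases Nat.lt_or_ge k 2 with hk | hk
  · -- a four-group: `M` has a normal complement
    have hk1 : k = 1 := by have := D.pos; omega
    have hS4 : Nat.card (S : Subgroup X) = 4 := by rw [hcardS, hk1]; rfl
    have hσz : σ = z := by simpa [hk1] using D.val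
    have hcomm : ∀ a ∈ (S : Subgroup X), ∀ b ∈ (S : Subgroup X), Commute a b := by
      intro a ha b hb
      have : IsMulCommutative (S : Subgroup X) :=
        IsPGroup.isMulCommutative_of_card_eq_prime_sq (p := 2) (by rw [hS4]; rfl)
      exact congrArg Subtype.val ((this.is_comm.comm ⟨a, ha⟩ ⟨b, hb⟩))
    have hCS : ∀ x, (∀ s ∈ (S : Subgroup X), Commute x s) → x ∈ (S : Subgroup X) := fun x hx => by
      rcases hX.four_cent hz D.τ_ord (fun e => D.τ_notMem (e ▸ hσz ▸ mem_zpowers σ)) D.commute_τ.symm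
        (hx z hzS) (hx τ D.τ_mem) with rfl | rfl | rfl | rfl
      exacts [one_mem _, hzS, D.τ_mem, mul_mem hzS D.τ_mem]
    -- the action on the three involutions
    let I := {x : (S : Subgroup X) // x ≠ 1}
    let ρ : MulAut (S : Subgroup X) →* Equiv.Perm I :=
      MonoidHom.mk' (fun e => e.toEquiv.subtypeEquiv fun x => by simp) fun a b => by
        ext x; rfl
    let ψ := ρ.comp φ
    have hker : ∀ y, ψ y = 1 → ∀ s ∈ (S : Subgroup X), Commute (y : X) s := by
      intro y hy s hs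
      by_cases hs1 : s = 1
      · rw [hs1]; exact Commute.one_right _
      have h1 := congrArg (fun e : Equiv.Perm I => ((e ⟨⟨s, hs⟩, fun e => hs1 (congrArg Subtype.val e)⟩).1 : X)) hy
      exact mul_inv_eq_iff_eq_mul.1 h1
    have h6 : Nat.card (Equiv.Perm I) = 6 := by
      classical
      have := Fintype.ofFinite (S : Subgroup X)
      have hI : Nat.card I = 3 := by
        rw [Nat.card_eq_fintype_card, Fintype.card_subtype_compl, Fintype.card_subtype_eq,
          ← Nat.card_eq_fintype_card, hS4]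
      rw [Nat.card_perm, hI]; rfl
    set a := ψ ⟨n', hn'N⟩ with ha
    have hao : Odd (orderOf a) := hn'o.of_dvd_nat (by
      rw [← Subgroup.orderOf_mk n' hn'N]; exact orderOf_map_dvd ψ _)
    have ha1 : a ≠ 1 := fun e => hn'M (hSM (hCS n' (hker _ e)))
    have ha3 : orderOf a = 3 := by
      have hd : orderOf a ∣ 3 := hao.coprime_two_right.dvd_of_dvd_mul_right
        (show orderOf a ∣ 3 * 2 by rw [show 3 * 2 = 6 from rfl, ← h6]; exact orderOf_dvd_natCard a)
      exact ((Nat.dvd_prime Nat.prime_three).1 hd).resolve_left (by rwa [orderOf_eq_one_iff])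
    have hidx : (zpowers a).index = 2 := by
      have := (zpowers a).card_mul_index
      rw [Nat.card_zpowers, ha3, h6] at this
      omega
    refine hns ?_
    have hMsol : Group.IsSolvable M := by
      refine solvable_of_complement (Fusion.hasNormalPComplement_of_normalizer_le_centralizer
        (P := S.subtype hSM) fun m hm => ?_)
      have hmS : (m : X) ∈ normalizer ((S : Subgroup X) : Set X) := by
        refine mem_normalizer_iff.2 fun y => ?_
        by_cases hy : y ∈ M
        · exact mem_normalizer_iff.1 hm ⟨y, hy⟩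
        · refine iff_of_false (fun h => hy (hSM h)) fun h => hy ?_
          have := M.mul_mem (M.mul_mem (M.inv_mem m.2) (hSM h)) m.2
          simpa [mul_assoc] using this
      set b := ψ ⟨m, hmS⟩ with hb
      suffices hb1 : b = 1 by
        refine Subgroup.mem_centralizer_iff.2 fun s hs => Subtype.ext ?_
        exact (hker _ hb1 s hs).eq.symm
      -- the square lies in the rotations
      have := Subgroup.normal_of_index_eq_two hidx
      obtain ⟨i, hi⟩ := Subgroup.mem_zpowers_iff.1 (hidx ▸ (zpowers a).pow_index_mem b : b ^ 2 ∈ zpowers a)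
      obtain ⟨d, hd⟩ : ∃ d : ℤ, b ^ 2 = a ^ d := ⟨i, hi.symm⟩
      by_cases hb2 : b ^ 2 = 1
      · obtain ⟨e, l', hl', hel⟩ := Nat.exists_eq_two_pow_mul_odd (orderOf_pos (m : X)).ne'
        obtain ⟨c, hc⟩ := hl'
        have hp : IsPGroup 2 (zpowers ((m : X) ^ l')) := IsPGroup.of_card (n := e) (by
          rw [Nat.card_zpowers, orderOf_pow' _ (by omega), hel,
            Nat.gcd_eq_right (dvd_mul_left _ _), Nat.mul_div_cancel _ (by omega)])
        have hmem : (m : X) ^ l' ∈ (S : Subgroup X) :=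
          ((hp.inf_normalizer_sylow S).le ⟨mem_zpowers _, pow_mem hmS _⟩).2
        have h1 : ψ ⟨(m : X) ^ l', pow_mem hmS _⟩ = 1 := by
          ext ⟨⟨s, hs⟩, hs'⟩
          show (m : X) ^ l' * s * ((m : X) ^ l')⁻¹ = s
          rw [(hcomm _ hmem s hs).eq, mul_inv_cancel_right]
        rw [← SubmonoidClass.mk_pow (m : X) hmS, map_pow, hc, pow_succ, pow_mul, hb2, one_pow, one_mul] at h1
        exact h1
      · exfalso
        have hd3 : a ^ d ≠ 1 := hd ▸ hb2
        have hgen : a ∈ zpowers (a ^ d) := by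
          have : orderOf (a ^ d) = 3 := ((Nat.dvd_prime Nat.prime_three).1 (ha3 ▸
            orderOf_dvd_of_mem_zpowers (zpow_mem (mem_zpowers a) d))).resolve_left
            (by rwa [orderOf_eq_one_iff])
          rw [Subgroup.eq_of_le_of_card_ge (zpowers_le.2 (zpow_mem (mem_zpowers a) d))
            (by rw [Nat.card_zpowers, Nat.card_zpowers, this, ha3])]
          exact mem_zpowers a
        rw [← hd] at hgen
        obtain ⟨t, ht⟩ := Subgroup.mem_zpowers_iff.1 hgen
        have h1 : ψ ((⟨n', hn'N⟩ : normalizer ((S : Subgroup X) : Set X))⁻¹ * (⟨m, hmS⟩ ^ 2) ^ t) = 1 := by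
          rw [map_mul, map_inv, map_zpow, map_pow, ← hb, ht, ← ha, inv_mul_cancel]
        have h2 := hSM (hCS _ (hker _ h1))
        simp only [Subgroup.coe_mul, Subgroup.coe_inv, Subgroup.coe_zpow, Subgroup.coe_pow] at h2
        exact hn'M (inv_mem_iff.1 ((M.mul_mem_cancel_right (M.zpow_mem (M.pow_mem m.2 2) t)).1 h2))
    have hMi : Odd M.index := by
      rw [← Nat.not_even_iff_odd, even_iff_two_dvd]
      exact fun h => S.not_dvd_index (h.trans (Subgroup.index_dvd_of_le hSM))
    have : Group.IsSolvable (X ⧸ M) := S0205.result (by rwa [← Subgroup.index_eq_card])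
    exact Group.isSolvable_of_ker_le_range M.subtype (QuotientGroup.mk' M) (by simp)
  · have : Finite (MulAut (S : Subgroup X)) :=
      Finite.of_injective (fun e : MulAut (S : Subgroup X) => ⇑e) DFunLike.coe_injective
    have h2g : IsPGroup 2 (MulAut (S : Subgroup X)) := S3116.result S.2 (Or.inl ⟨2 ^ k, by
      calc 4 = 2 ^ 2 := rfl
        _ ≤ 2 ^ k := Nat.pow_le_pow_right two_pos hk,
      ⟨((MonoidHom.ofInjective DD.inj).trans (MulEquiv.subgroupCongr DD.range)).symm⟩⟩)
    refine htriv ?_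
    obtain ⟨i, hi⟩ := IsPGroup.iff_orderOf.1 h2g (φ ⟨n', hn'N⟩)
    have hd : orderOf (φ ⟨n', hn'N⟩) ∣ orderOf n' := by
      rw [← Subgroup.orderOf_mk n' hn'N]; exact orderOf_map_dvd φ _
    rcases i with _ | i
    · exact orderOf_eq_one_iff.1 (by rw [hi, pow_zero])
    · rw [hi] at hd
      exact absurd (hn'o.of_dvd_nat hd) (Nat.not_odd_iff_even.2 (by simp [pow_succ]))

end Good

end Cfsg.Agent.DGroupPSL
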