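import Cfsg.Agent.DGroupPSL.Odd
import Cfsg.Agent.DGroupPSL.PQ
import Cfsg.Agent.Fusion.Transfer

/-!
# Maximal invariant `p`-subgroups meet trivially
-/

set_option autoImplicit false

namespace Cfsg.Agent.DGroupPSL

open Subgroup

universe u

variable {K : Type u} [Group K]

/-- The TI property holds in the reductions of all proper subgroups. -/
def Ind (K : Type u) [Group K] : Prop :=
  ∀ L : Subgroup K, L ≠ ⊤ → IsTI (L ⧸ Cfsg.oddCore L)

/-- There is no nontrivial normal subgroup of odd order. -/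
def NoOdd (K : Type u) [Group K] : Prop :=
  ∀ D : Subgroup K, D.Normal → Odd (Nat.card D) → D = ⊥

/-- A maximal `V`-invariant `p`-subgroup. -/
structure MaxP (V : Subgroup K) (p : ℕ) (P : Subgroup K) : Prop where
  isPGroup : IsPGroup p P
  norm : V ≤ normalizer (P : Set K)
  max : ∀ Q : Subgroup K, IsPGroup p Q → V ≤ normalizer (Q : Set K) → P ≤ Q → Q = P

theorem exists_maxP [Finite K] {V : Subgroup K} {p : ℕ} {Y : Subgroup K} (hY : IsPGroup p Y)
    (hn : V ≤ normalizer (Y : Set K)) : ∃ P, MaxP V p P ∧ Y ≤ P := by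
  obtain ⟨P, ⟨hP, hPn, hYP⟩, hmax⟩ := wellFounded_gt.has_min
    {P : Subgroup K | IsPGroup p P ∧ V ≤ normalizer (P : Set K) ∧ Y ≤ P} ⟨Y, hY, hn, le_rfl⟩
  exact ⟨P, ⟨hP, hPn, fun Q hQ hQn hle =>
    (hle.eq_of_not_lt (hmax Q ⟨hQ, hQn, hYP.trans hle⟩)).symm⟩, hYP⟩

/-- A proper subgroup of a `p`-group is properly contained in its normaliser there. -/
theorem lt_inf_normalizer [Finite K] {p : ℕ} [Fact p.Prime] {D P : Subgroup K} (hP : IsPGroup p P)
    (h : D < P) : D < P ⊓ normalizer (D : Set K) := by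
  refine lt_of_le_of_ne (le_inf h.le le_normalizer) fun heq => ?_
  have := hP.isNilpotent
  have hlt : D.subgroupOf P < ⊤ := lt_top_iff_ne_top.2 fun e => h.not_ge (subgroupOf_eq_top.1 e)
  obtain ⟨x, hx, hxD⟩ := SetLike.exists_of_lt (Group.normalizerCondition_of_isNilpotent _ hlt)
  refine hxD ?_
  have hxN : (x : K) ∈ normalizer (D : Set K) := by
    refine mem_normalizer_iff.2 fun y => ⟨fun hy => ?_, fun hy => ?_⟩
    · exact (mem_normalizer_iff.1 hx ⟨y, h.le hy⟩).1 hy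
    · have hyP : y ∈ P := by
        simpa [mul_assoc] using P.mul_mem (P.mul_mem (P.inv_mem x.2) (h.le hy)) x.2
      exact (mem_normalizer_iff.1 hx ⟨y, hyP⟩).2 hy
  exact heq.ge ⟨x.2, hxN⟩

theorem map_oddCore_eq_one [Finite K] {x : K} {W : Subgroup K} [W.Normal] (hW : Odd (Nat.card W))
    (hx : x ∈ W) : QuotientGroup.mk' (Cfsg.oddCore K) x = 1 :=
  (QuotientGroup.eq_one_iff x).2 (Core.le_pPrimeCore hW.coprime_two_right hx)

section Pair

variable {L : Type u} [Group L] [Finite L]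

/-- Two invariant `p`-subgroups, in a group with a normal `p`-subgroup, lie in an invariant
subgroup of odd order. -/
theorem exists_odd_over (hL : Good L) (hT : IsTI (L ⧸ Cfsg.oddCore L)) {V : Subgroup L}
    (hV : IsFour V) {p : ℕ} [hp : Fact p.Prime] (hp2 : p ≠ 2) {D : Subgroup L} (hDn : D.Normal)
    (hD1 : D ≠ ⊥) (hD : IsPGroup p D) {Y Y' : Subgroup L} (hY : IsPGroup p Y)
    (hYn : V ≤ normalizer (Y : Set L)) (hY' : IsPGroup p Y') (hYn' : V ≤ normalizer (Y' : Set L)) :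
    ∃ Θ : Subgroup L, Odd (Nat.card Θ) ∧ V ≤ normalizer (Θ : Set L) ∧ Y ≤ Θ ∧ Y' ≤ Θ := by
  set O := Cfsg.oddCore L with hOdef
  set f := QuotientGroup.mk' O with hf
  have hker : f.ker = O := QuotientGroup.ker_mk' O
  have hodd : Odd (Nat.card f.ker) := by rw [hker]; exact odd_card_oddCore
  have hLb : Good (L ⧸ O) := hL.mod_oddCore
  have hVb : IsFour (V.map f) := hV.map hodd
  have hf1 : ∀ {v}, v ∈ V → v ≠ 1 → f v ≠ 1 := fun {v} hv h1 e => h1 (eq_one_of_sq
    (odd_orderOf_of_mem hodd (MonoidHom.mem_ker.2 e)) (hV.sq v hv))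
  have hf2 : ∀ {v u}, v ∈ V → u ∈ V → v ≠ u → f v ≠ f u := fun {v u} hv hu h e => hf1
    (V.mul_mem hv hu) (fun e' => h ((eq_inv_of_mul_eq_one_left e').trans (hV.inv_eq hu)))
    (by rw [map_mul, e, ← map_mul, hV.sq u hu, map_one])
  have hkill : ∀ {x v u}, v ∈ V → u ∈ V → v ≠ 1 → u ≠ 1 → v ≠ u → Commute (f x) (f v) →
      Commute (f x) (f u) → Odd (orderOf x) → f x = 1 := fun {x v u} hv hu hv1 hu1 hne h1 h2 ox =>
    hVb.odd_eq_one hLb (mem_map_of_mem f hv) (mem_map_of_mem f hu) (hf1 hv hv1) (hf1 hu hu1)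
      (hf2 hv hu hne) h1 h2 (ox.of_dvd_nat (orderOf_map_dvd f x))
  have comp : ∀ X : Subgroup L, Odd (Nat.card X) → V ≤ normalizer (X : Set L) →
      ∃ v ∈ V, v ≠ 1 ∧ ∀ x ∈ X, Commute (f x) (f v) := by
    intro X hX hn
    obtain ⟨_, ⟨v, hv, rfl⟩, hv1, h⟩ := hVb.inComp hLb hT (X := X.map f)
      (hX.of_dvd_nat (Subgroup.card_map_dvd X f)) (le_normalizer_of_conj_mem (by
        rintro _ ⟨a, ha, rfl⟩ _ ⟨x, hx, rfl⟩
        rw [← map_inv, ← map_mul, ← map_mul]
        exact mem_map_of_mem f (conj_mem_of_le_normalizer hn ha hx)))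
    exact ⟨v, hv, fun e => hv1 (by rw [e, map_one]), fun x hx => h _ (mem_map_of_mem f hx)⟩
  have hYodd := odd_card_of_isPGroup hp2 hY
  have hY'odd := odd_card_of_isPGroup hp2 hY'
  obtain ⟨v, hv, hv1, hYv⟩ := comp Y hYodd hYn
  obtain ⟨u, hu, hu1, hY'u⟩ := comp Y' hY'odd hYn'
  -- both in the component of one involution
  have join : ∀ t ∈ V, t ≠ 1 → (∀ x ∈ Y, Commute (f x) (f t)) → (∀ x ∈ Y', Commute (f x) (f t)) →
      ∃ Θ : Subgroup L, Odd (Nat.card Θ) ∧ V ≤ normalizer (Θ : Set L) ∧ Y ≤ Θ ∧ Y' ≤ Θ := by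
    intro t ht ht1 h1 h2
    set B := hLb.oddPart (hVb.orderOf_eq (mem_map_of_mem f ht) (hf1 ht ht1)) with hB
    have hmem : ∀ y, y ∈ B ↔ Commute y (f t) ∧ Odd (orderOf y) := fun y => Iff.rfl
    refine ⟨B.comap f, ?_, le_normalizer_of_conj_mem fun a ha x hx => ?_, fun x hx => ?_, fun x hx => ?_⟩
    · refine odd_card_of_forall fun x hx => ?_
      have h := ((hmem _).1 hx).2
      rw [← Nat.not_even_iff_odd, even_iff_two_dvd]
      intro hd
      have hy : orderOf (x ^ (orderOf x / 2)) = 2 := orderOf_pow_orderOf_div (orderOf_pos x).ne' hd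
      have h3 : f (x ^ (orderOf x / 2)) = 1 := eq_one_of_sq
        (h.of_dvd_nat (by rw [map_pow]; exact orderOf_pow_dvd _))
        (by rw [← map_mul, inv2_mul_self hy, map_one])
      exact not_odd_two hy (odd_orderOf_of_mem hodd (MonoidHom.mem_ker.2 h3))
    · refine (hmem _).2 ⟨?_, ?_⟩
      · rw [map_mul, map_mul, map_inv]
        exact hVb.commute_conj (mem_map_of_mem f ht) (mem_map_of_mem f ha) ((hmem _).1 hx).1
      · rw [map_mul, map_mul, map_inv]
        exact odd_orderOf_conj ((hmem _).1 hx).2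
    · exact (hmem _).2 ⟨h1 x hx, (odd_orderOf_of_mem hYodd hx).of_dvd_nat (orderOf_map_dvd f x)⟩
    · exact (hmem _).2 ⟨h2 x hx, (odd_orderOf_of_mem hY'odd hx).of_dvd_nat (orderOf_map_dvd f x)⟩
  by_cases hcu : ∀ x ∈ Y, Commute (f x) (f u)
  · exact join u hu hu1 hcu hY'u
  by_cases hcv : ∀ x ∈ Y', Commute (f x) (f v)
  · exact join v hv hv1 hYv hcv
  exfalso
  have hvu : v ≠ u := fun e => hcu (e ▸ hYv)
  -- component elements
  have elt : ∀ (X : Subgroup L) (a b : L), Odd (Nat.card X) → V ≤ normalizer (X : Set L) →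
      a ∈ V → a ≠ 1 → b ∈ V → b ≠ 1 → (∀ x ∈ X, Commute (f x) (f a)) → ¬ (∀ x ∈ X, Commute (f x) (f b)) →
      ∃ x ∈ X, Commute x a ∧ f x ≠ 1 := by
    intro X a b hX hn ha ha1 hb hb1 hXa hnb
    by_contra h
    push Not at h
    have hle : X ≤ f.ker := hV.le_of_components hX hn fun c hc hc1 x hx hxc => by
      rw [MonoidHom.mem_ker]
      by_cases hca : c = a
      · subst hca; exact h x hx hxc
      · exact hkill ha hc ha1 hc1 (Ne.symm hca) (hXa x hx) (hxc.map f) (odd_orderOf_of_mem hX hx)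
    exact hnb fun x hx => by rw [MonoidHom.mem_ker.1 (hle hx)]; exact Commute.one_left _
  obtain ⟨τ, hτY, hτv, hτ1⟩ := elt Y v u hYodd hYn hv hv1 hu hu1 hYv hcu
  obtain ⟨τ', hτY', hτu', hτ1'⟩ := elt Y' u v hY'odd hYn' hu hu1 hv hv1 hY'u hcv
  have hτo := odd_orderOf_of_mem hYodd hτY
  have hτo' := odd_orderOf_of_mem hY'odd hτY'
  have hv2 := hV.orderOf_eq hv hv1
  -- the abelian normal `p`-subgroup
  set M := D ⊓ centralizer (D : Set L) with hM
  have hMn : M.Normal := inferInstance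
  have hMp : IsPGroup p M := hD.to_le inf_le_left
  have hModd := odd_card_of_isPGroup hp2 hMp
  have hMc : ∀ x ∈ M, ∀ y ∈ M, Commute x y := fun x hx y hy =>
    (Subgroup.mem_centralizer_iff.1 hx.2 y hy.1).symm
  have hM1 : ∃ m ∈ M, m ≠ 1 := by
    have : Nontrivial D := (Subgroup.nontrivial_iff_ne_bot D).2 hD1
    have := hD.center_nontrivial
    obtain ⟨c, hc⟩ := exists_ne (1 : center D)
    exact ⟨((c : D) : L), ⟨(c : D).2, Subgroup.mem_centralizer_iff.2 fun y hy =>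
      congrArg Subtype.val (Subgroup.mem_center_iff.1 c.2 ⟨y, hy⟩)⟩,
      fun e => hc (Subtype.ext (Subtype.ext e))⟩
  by_cases hcase : ∀ m ∈ M, Commute m v
  · obtain ⟨m, hm, hm1⟩ := hM1
    have hmo := odd_orderOf_of_mem hModd hm
    set C := centralizer (M : Set L) with hC
    have hCn : C.Normal := inferInstance
    obtain ⟨W, hWodd, hW⟩ := hL.exists_oddSubgroup hmo hm1 (H := C) fun x hx =>
      (Subgroup.mem_centralizer_iff.1 hx m hm).symm
    have hWn : W.Normal := ⟨fun x hx g => (hW _).2 ⟨hCn.conj_mem x ((hW x).1 hx).1 g,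
      odd_orderOf_conj ((hW x).1 hx).2⟩⟩
    have hvC : v ∈ C := Subgroup.mem_centralizer_iff.2 fun y hy => (hcase y hy).eq
    have hgC : τ' * v * τ'⁻¹ ∈ C := hCn.conj_mem v hvC τ'
    have hprod : τ' * v * τ'⁻¹ * v ∈ W := (hW _).2 ⟨C.mul_mem hgC hvC,
      hL.odd_mul_of_commute hmo hm1 (by rw [Invol.orderOf_conj, hv2]) hv2
        (Subgroup.mem_centralizer_iff.1 hgC m hm).symm (Subgroup.mem_centralizer_iff.1 hvC m hm).symm⟩
    have h := map_oddCore_eq_one hWodd hprod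
    rw [← hf, map_mul] at h
    have h' : f (τ' * v * τ'⁻¹) = f v := by
      rw [eq_inv_of_mul_eq_one_left h, ← map_inv, inv2_inv hv2]
    rw [map_mul, map_mul, map_inv] at h'
    exact hτ1' (hkill hv hu hv1 hu1 hvu (mul_inv_eq_iff_eq_mul.1 h') (hτu'.map f) hτo')
  push Not at hcase
  obtain ⟨m, hm, hmv⟩ := hcase
  -- the part of `M` inverted by `v`
  let Mn : Subgroup L :=
    { carrier := {x | x ∈ M ∧ v * x * v⁻¹ = x⁻¹}
      one_mem' := ⟨M.one_mem, by simp⟩
      mul_mem' := fun {a b} ha hb => ⟨M.mul_mem ha.1 hb.1, by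
        rw [← conj_mul, ha.2, hb.2, mul_inv_rev, (hMc _ (M.inv_mem ha.1) _ (M.inv_mem hb.1)).eq]⟩
      inv_mem' := fun {a} ha => ⟨M.inv_mem ha.1, by rw [← conj_inv, ha.2]⟩ }
  have hMnM : Mn ≤ M := fun x hx => hx.1
  have hMnp : IsPGroup p Mn := hMp.to_le hMnM
  have hMn1 : Mn ≠ ⊥ := by
    have hvm : v * m * v⁻¹ ∈ M := hMn.conj_mem m hm v
    have hx : m * (v * m * v⁻¹)⁻¹ ∈ Mn := ⟨M.mul_mem hm (M.inv_mem hvm), by
      simp only [mul_inv_rev, inv_inv, inv2_inv hv2, mul_assoc, inv2_mul_self hv2, mul_one]⟩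
    intro e
    rw [e, Subgroup.mem_bot, mul_inv_eq_one] at hx
    exact hmv (mul_inv_eq_iff_eq_mul.1 hx.symm).symm
  have hVMn : V ≤ normalizer (Mn : Set L) := le_normalizer_of_conj_mem fun a ha x hx =>
    ⟨hMn.conj_mem x hx.1 a, by
      have hc : v * a = a * v := (hV.commute hv ha).eq
      calc v * (a * x * a⁻¹) * v⁻¹ = (v * a) * x * (v * a)⁻¹ := by group
        _ = a * (v * x * v⁻¹) * a⁻¹ := by rw [hc]; group
        _ = (a * x * a⁻¹)⁻¹ := by rw [hx.2]; group⟩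
  have hτMn : zpowers τ ≤ normalizer (Mn : Set L) := le_normalizer_of_conj_mem fun a ha x hx => by
    obtain ⟨i, rfl⟩ := Subgroup.mem_zpowers_iff.1 ha
    refine ⟨hMn.conj_mem x hx.1 _, ?_⟩
    have hc : v * τ ^ i = τ ^ i * v := ((hτv.zpow_left i).symm).eq
    calc v * (τ ^ i * x * (τ ^ i)⁻¹) * v⁻¹ = (v * τ ^ i) * x * (v * τ ^ i)⁻¹ := by group
      _ = τ ^ i * (v * x * v⁻¹) * (τ ^ i)⁻¹ := by rw [hc]; group
      _ = (τ ^ i * x * (τ ^ i)⁻¹)⁻¹ := by rw [hx.2]; group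
  obtain ⟨z0, hz0, hz01, hz0τ⟩ : ∃ z ∈ Mn, z ≠ 1 ∧ Commute z τ := by
    have hTp : IsPGroup p (zpowers τ) := hY.to_le (zpowers_le.2 hτY)
    set φ : zpowers τ →* MulAut Mn := Mn.normalizerMonoidHom.comp (inclusion hτMn) with hφ
    letI : MulAction (zpowers τ) Mn := MulAction.compHom Mn φ
    have hcard : p ∣ Nat.card Mn := by
      have : Nontrivial Mn := (Subgroup.nontrivial_iff_ne_bot Mn).2 hMn1
      obtain ⟨n, hn, hn'⟩ := hMnp.nontrivial_iff_card.1 this
      rw [hn']; exact dvd_pow_self p hn.ne'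
    have h1 : (1 : Mn) ∈ MulAction.fixedPoints (zpowers τ) Mn := fun a => map_one (φ a)
    obtain ⟨b, hb, hb1⟩ := hTp.exists_fixed_point_of_prime_dvd_card_of_fixed_point Mn hcard h1
    refine ⟨b, b.2, fun e => hb1 (Subtype.ext e.symm), ?_⟩
    have h2 : τ * (b : L) * τ⁻¹ = b := congrArg Subtype.val (hb ⟨τ, mem_zpowers τ⟩)
    exact (mul_inv_eq_iff_eq_mul.1 h2).symm
  set X := Mn ⊓ centralizer ({τ} : Set L) with hX
  have hXodd : Odd (Nat.card X) := hModd.of_dvd_nat (Subgroup.card_dvd_of_le (inf_le_left.trans hMnM))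
  have hτn := hV.le_normalizer_zpowers hL hv hv1 hτv hτo
  have hXn : V ≤ normalizer (X : Set L) := le_normalizer_of_conj_mem fun a ha x hx => by
    refine ⟨conj_mem_of_le_normalizer hVMn ha hx.1, Subgroup.mem_centralizer_singleton_iff.2 ?_⟩
    obtain ⟨i, hi⟩ := Subgroup.mem_zpowers_iff.1
      ((mem_normalizer_iff.1 (inv_mem (hτn ha)) τ).1 (mem_zpowers τ))
    have hc : Commute x (a⁻¹ * τ * a⁻¹⁻¹) :=
      hi ▸ (show Commute x τ from Subgroup.mem_centralizer_singleton_iff.1 hx.2).zpow_right i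
    have := (Commute.conj_iff a).2 hc
    rw [inv_inv] at this
    simpa [mul_assoc] using this.eq
  have hX1 : X ≠ ⊥ := fun e => hz01 (Subgroup.mem_bot.1 (e ▸ (⟨hz0,
    Subgroup.mem_centralizer_singleton_iff.2 hz0τ⟩ : z0 ∈ X)))
  obtain ⟨w, hw, hw1, z, hzX, hz1, hzw⟩ := hV.exists_component hXodd hXn hX1
  have hzo := odd_orderOf_of_mem hXodd hzX
  have hwv : w ≠ v := by
    rintro rfl
    have h := hzX.1.2
    rw [← hzw.eq, mul_inv_cancel_right] at h
    exact hz1 (eq_one_of_sq hzo (mul_eq_one_iff_eq_inv.2 h))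
  have hzτ : Commute z τ := Subgroup.mem_centralizer_singleton_iff.1 hzX.2
  obtain ⟨W, hWodd, hW⟩ := hL.exists_oddSubgroup hzo hz1 (H := centralizer ({z} : Set L))
    fun x hx => Subgroup.mem_centralizer_singleton_iff.1 hx
  have hzn := hV.le_normalizer_zpowers hL hw hw1 hzw hzo
  have hWn : V ≤ normalizer (W : Set L) := le_normalizer_of_conj_mem fun a ha x hx => by
    obtain ⟨hx1, hx2⟩ := (hW x).1 hx
    refine (hW _).2 ⟨Subgroup.mem_centralizer_singleton_iff.2 ?_, odd_orderOf_conj hx2⟩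
    obtain ⟨i, hi⟩ := Subgroup.mem_zpowers_iff.1
      ((mem_normalizer_iff.1 (inv_mem (hzn ha)) z).1 (mem_zpowers z))
    have hc : Commute x (a⁻¹ * z * a⁻¹⁻¹) :=
      hi ▸ (show Commute x z from Subgroup.mem_centralizer_singleton_iff.1 hx1).zpow_right i
    have := (Commute.conj_iff a).2 hc
    rw [inv_inv] at this
    simpa [mul_assoc] using this.eq
  obtain ⟨t, ht, ht1, hWt⟩ := comp W hWodd hWn
  have hτW : τ ∈ W := (hW τ).2 ⟨Subgroup.mem_centralizer_singleton_iff.2 hzτ.symm, hτo⟩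
  have htv : t = v := by
    by_contra hne
    exact hτ1 (hkill hv ht hv1 ht1 (Ne.symm hne) (hτv.map f) (hWt τ hτW) hτo)
  subst htv
  have hwtriv : ∀ x, Commute x w → Odd (orderOf x) → f x = 1 := fun x hxw hxo =>
    hkill ht hw ht1 hw1 hwv.symm (hWt x ((hW x).2 ⟨Subgroup.mem_centralizer_singleton_iff.2
      (hL.odd_comm (hV.orderOf_eq hw hw1) hxw hzw hxo hzo), hxo⟩)) (hxw.map f) hxo
  have hwu : w ≠ u := fun e => hτ1' (hwtriv τ' (e ▸ hτu') hτo')
  have notconj : ∀ g : L, g * t * g⁻¹ ≠ w ∧ g * u * g⁻¹ ≠ w := by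
    intro g
    have key : ∀ (a x : L), Commute x a → Odd (orderOf x) → f x ≠ 1 → g * a * g⁻¹ ≠ w := by
      intro a x hxa hxo hx1 e
      have h := hwtriv (g * x * g⁻¹) (e ▸ (Commute.conj_iff g).2 hxa) (odd_orderOf_conj hxo)
      rw [map_mul, map_mul, map_inv, conj_eq_one_iff] at h
      exact hx1 h
    exact ⟨key t τ hτv hτo hτ1, key u τ' hτu' hτo' hτ1'⟩
  -- fusion in `V`
  have : Fact (Nat.Prime 2) := ⟨Nat.prime_two⟩
  obtain ⟨T, hVT⟩ := (IsPGroup.of_card (n := 2) (by rw [hV.card]; norm_num) : IsPGroup 2 V).exists_le_sylow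
  have perm : ∀ n : L, n ∈ normalizer (V : Set L) → n * w * n⁻¹ = w ∧
      ((n * t * n⁻¹ = t ∧ n * u * n⁻¹ = u) ∨ (n * t * n⁻¹ = u ∧ n * u * n⁻¹ = t)) := by
    intro n hn
    have hcase : ∀ x ∈ V, x ≠ 1 → n * x * n⁻¹ = t ∨ n * x * n⁻¹ = u ∨ n * x * n⁻¹ = w := by
      intro x hx hx1
      have hm := (mem_normalizer_iff.1 hn x).1 hx
      rcases hV.mem_cases ht hu ht1 hu1 hvu hm with e | e | e | e
      · exact absurd (conj_eq_one_iff.1 e) hx1
      · exact Or.inl e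
      · exact Or.inr (Or.inl e)
      · refine Or.inr (Or.inr (e.trans ?_))
        rcases hV.mem_cases ht hu ht1 hu1 hvu hw with h | h | h | h
        exacts [absurd h hw1, absurd h hwv, absurd h hwu, h.symm]
    have inj : ∀ {a b : L}, n * a * n⁻¹ = n * b * n⁻¹ → a = b := fun h =>
      mul_left_cancel (mul_right_cancel h)
    have hnt : n * t * n⁻¹ = t ∨ n * t * n⁻¹ = u := by
      rcases hcase t ht ht1 with e | e | e
      exacts [Or.inl e, Or.inr e, absurd e (notconj n).1]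
    have hnu : n * u * n⁻¹ = t ∨ n * u * n⁻¹ = u := by
      rcases hcase u hu hu1 with e | e | e
      exacts [Or.inl e, Or.inr e, absurd e (notconj n).2]
    refine ⟨?_, ?_⟩
    · rcases hcase w hw hw1 with e | e | e
      · rcases hnt with e1 | e1
        · exact absurd (inj (e.trans e1.symm)) hwv
        · rcases hnu with e2 | e2
          · exact absurd (inj (e.trans e2.symm)) hwu
          · exact absurd (inj (e1.trans e2.symm)) hvu
      · rcases hnt with e1 | e1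
        · rcases hnu with e2 | e2
          · exact absurd (inj (e1.trans e2.symm)) hvu
          · exact absurd (inj (e.trans e2.symm)) hwu
        · exact absurd (inj (e.trans e1.symm)) hwv
      · exact e
    · rcases hnt with e1 | e1 <;> rcases hnu with e2 | e2
      · exact absurd (inj (e1.trans e2.symm)) hvu
      · exact Or.inl ⟨e1, e2⟩
      · exact Or.inr ⟨e1, e2⟩
      · exact absurd (inj (e1.trans e2.symm)) hvu
  have inV : ∀ n : L, n * t * n⁻¹ = t → n * u * n⁻¹ = u → n ∈ V := fun n h1 h2 =>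
    hV.cent hL (hV.commute_all ht hu ht1 hu1 hvu (mul_inv_eq_iff_eq_mul.1 h1)
      (mul_inv_eq_iff_eq_mul.1 h2))
  by_cases hVeq : (T : Subgroup L) ≤ V
  · have hTV : (T : Subgroup L) = V := le_antisymm hVeq hVT
    have hN : normalizer ((T : Subgroup L) : Set L) ≤ centralizer ((T : Subgroup L) : Set L) := by
      intro n hn
      rw [hTV] at hn ⊢
      suffices hnV : n ∈ V by
        exact Subgroup.mem_centralizer_iff.2 fun y hy => (hV.commute hy hnV).eq
      rcases (perm n hn).2 with ⟨e1, e2⟩ | ⟨e1, e2⟩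
      · exact inV n e1 e2
      -- an element swapping `t` and `u` would give a larger `2`-subgroup
      exfalso
      have hsq : n * n ∈ V := inV _
        (by calc n * n * t * (n * n)⁻¹ = n * (n * t * n⁻¹) * n⁻¹ := by group
              _ = t := by rw [e1, e2])
        (by calc n * n * u * (n * n)⁻¹ = n * (n * u * n⁻¹) * n⁻¹ := by group
              _ = u := by rw [e2, e1])
      have h4 : n ^ 4 = 1 := by
        rw [show (4 : ℕ) = 2 * 2 from rfl, pow_mul, pow_two n, pow_two, hV.sq _ hsq]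
      have hpg : IsPGroup 2 (zpowers n) := by
        obtain ⟨j, -, hj⟩ := (Nat.dvd_prime_pow Nat.prime_two).1
          (show orderOf n ∣ 2 ^ 2 from orderOf_dvd_of_pow_eq_one (by norm_num; exact h4))
        exact IsPGroup.of_card (n := j) (by rw [Nat.card_zpowers, hj])
      have hsup : IsPGroup 2 (zpowers n ⊔ (T : Subgroup L) : Subgroup L) :=
        hpg.to_sup_of_normal_right' T.2 (zpowers_le.2 (by rw [hTV]; exact hn))
      have hnT : n ∈ V := hTV ▸ (T.3 hsup le_sup_right).le (mem_sup_left (mem_zpowers n))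
      rw [(hV.commute hnT ht).eq, mul_inv_cancel_right] at e1
      exact hvu e1
    obtain ⟨W0, hW0, hW0'⟩ := odd_subgroup_of_complement
      (Fusion.hasNormalPComplement_of_normalizer_le_centralizer T hN)
    exact hτ1 (map_oddCore_eq_one (W := W0) (odd_card_of_forall fun x hx => (hW0' x).1 hx)
      ((hW0' τ).2 hτo))
  -- the Sylow subgroup is bigger than `V`
  obtain ⟨r, hrT, hrV⟩ := SetLike.not_le_iff_exists.1 (fun h => (lt_inf_normalizer T.2
    (lt_of_le_of_ne hVT fun e => hVeq e.ge)).not_ge (h : (T : Subgroup L) ⊓ normalizer (V : Set L) ≤ V))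
  have hsw : r * t * r⁻¹ = u ∧ r * u * r⁻¹ = t := by
    rcases (perm r hrT.2).2 with ⟨e1, e2⟩ | h
    · exact absurd (inV r e1 e2) hrV
    · exact h
  have hrw : Commute r w := mul_inv_eq_iff_eq_mul.1 (perm r hrT.2).1
  have htw : Commute t w := hV.commute ht hw
  have htuw : u * t = w := by
    rcases hV.mem_cases hu ht hu1 ht1 hvu.symm hw with e | e | e | e
    exacts [absurd e hw1, absurd e hwu, absurd e hwv, e.symm]
  obtain ⟨r0, hr0w, hr0sq, hr0t⟩ : ∃ r0, Commute r0 w ∧ r0 * r0 ≠ 1 ∧ r0 * t * r0⁻¹ = u := by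
    by_cases h : r * r = 1
    · refine ⟨r * t, hrw.mul_left htw, fun e => hw1 ?_, ?_⟩
      · rw [← htuw, ← e, ← hsw.1, inv_eq_of_mul_eq_one_right h]
        simp only [mul_assoc]
      · rw [← hsw.1, mul_inv_rev]; simp only [mul_assoc, mul_inv_cancel_left]
    · exact ⟨r, hrw, h, hsw.1⟩
  obtain ⟨A, hA⟩ := hL w (hV.orderOf_eq hw hw1)
  have hr0A : r0 ∈ A := by
    by_contra hr0
    exact hr0sq (hA.sq r0 hr0w hr0)
  have hr0z : Commute r0 z := hA.comm r0 hr0A z (hA.odd_mem hzw hzo)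
  have hτ2W : r0 * τ * r0⁻¹ ∈ W := (hW _).2 ⟨Subgroup.mem_centralizer_singleton_iff.2
    (((hr0z.mul_left hzτ.symm).mul_left hr0z.inv_left)), odd_orderOf_conj hτo⟩
  have h := hkill ht hu ht1 hu1 hvu (hWt _ hτ2W) ((hr0t ▸ (Commute.conj_iff r0).2 hτv).map f)
    (odd_orderOf_conj hτo)
  rw [map_mul, map_mul, map_inv, conj_eq_one_iff] at h
  exact hτ1 h

end Pair

variable [Finite K]

/-- Distinct maximal invariant `p`-subgroups meet trivially. -/
theorem MaxP.unique (hK : Good K) (hI : Ind K) (hN : NoOdd K) {V : Subgroup K} (hV : IsFour V)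
    {p : ℕ} [Fact p.Prime] (hp2 : p ≠ 2) {P P' : Subgroup K} (hP : MaxP V p P) (hP' : MaxP V p P')
    (h : P ⊓ P' ≠ ⊥) : P = P' := by
  by_contra hne
  obtain ⟨D, ⟨P1, P2, h1, h2, hne12, hD1, rfl⟩, hmax⟩ := wellFounded_gt.has_min
    {D : Subgroup K | ∃ P1 P2, MaxP V p P1 ∧ MaxP V p P2 ∧ P1 ≠ P2 ∧ D ≠ ⊥ ∧ D = P1 ⊓ P2}
    ⟨_, P, P', hP, hP', hne, h, rfl⟩
  have key : ∀ P3 Y : Subgroup K, MaxP V p P3 → MaxP V p Y → P1 ⊓ P2 < Y ⊓ P3 → Y = P3 := by
    intro P3 Y h3 hY hlt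
    by_contra hne'
    exact hmax (Y ⊓ P3) ⟨Y, P3, hY, h3, hne', (bot_le.trans_lt hlt).ne', rfl⟩ hlt
  set D := P1 ⊓ P2 with hD
  have hlt1 : D < P1 := lt_of_le_of_ne inf_le_left fun e => hne12
    (h1.max P2 h2.isPGroup h2.norm (inf_eq_left.1 e)).symm
  have hlt2 : D < P2 := lt_of_le_of_ne inf_le_right fun e => hne12
    (h2.max P1 h1.isPGroup h1.norm (inf_eq_right.1 e))
  set L := normalizer (D : Set K) with hL
  have hDp : IsPGroup p D := h1.isPGroup.to_le inf_le_left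
  have hVD : V ≤ normalizer (D : Set K) := Coprime.le_normalizer_inf h1.norm h2.norm
  have hLtop : L ≠ ⊤ := fun e => hD1 (hN D (normalizer_eq_top_iff.1 e) (odd_card_of_isPGroup hp2 hDp))
  have hVL : V ≤ L := hVD
  have hV' : IsFour (V.subgroupOf L) :=
    ⟨by rw [Coprime.card_subgroupOf hVL, hV.card], fun x hx => Subtype.ext
      (hV.sq x (Subgroup.mem_subgroupOf.1 hx))⟩
  have hinv : ∀ P0 : Subgroup K, V ≤ normalizer (P0 : Set K) →
      V.subgroupOf L ≤ normalizer (((P0 ⊓ L).subgroupOf L : Subgroup L) : Set L) := fun P0 hP0 =>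
    le_normalizer_of_conj_mem fun a ha x hx =>
      ⟨conj_mem_of_le_normalizer hP0 ha hx.1, L.mul_mem (L.mul_mem a.2 x.2) (L.inv_mem a.2)⟩
  obtain ⟨Θ, hΘ, hΘn, hY1, hY2⟩ := exists_odd_over (hK.subgroup L) (hI L hLtop) hV' hp2
    (D := D.subgroupOf L) (normal_in_normalizer)
    (fun e => hD1 (by
      have := Subgroup.map_subgroupOf_eq_of_le (le_normalizer : D ≤ L)
      rw [← this, e, Subgroup.map_bot]))
    (hDp.of_equiv (subgroupOfEquivOfLe (le_normalizer : D ≤ L)).symm)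
    (Y := (P1 ⊓ L).subgroupOf L) (Y' := (P2 ⊓ L).subgroupOf L)
    ((h1.isPGroup.to_le inf_le_left).of_equiv (subgroupOfEquivOfLe inf_le_right).symm) (hinv P1 h1.norm)
    ((h2.isPGroup.to_le inf_le_left).of_equiv (subgroupOfEquivOfLe inf_le_right).symm) (hinv P2 h2.norm)
  set Θ' := Θ.map L.subtype with hΘ'
  have hΘ'n : V ≤ normalizer (Θ' : Set K) := le_normalizer_of_conj_mem fun a ha x hx => by
    obtain ⟨y, hy, rfl⟩ := hx
    exact ⟨⟨a, hVL ha⟩ * y * ⟨a, hVL ha⟩⁻¹, conj_mem_of_le_normalizer hΘn (a := ⟨a, hVL ha⟩) ha hy, rfl⟩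
  have hle1 : P1 ⊓ L ≤ Θ' := fun x hx => ⟨⟨x, hx.2⟩, hY1 hx, rfl⟩
  have hle2 : P2 ⊓ L ≤ Θ' := fun x hx => ⟨⟨x, hx.2⟩, hY2 hx, rfl⟩
  obtain ⟨Q, -, hQp, hQn, hQmax, -⟩ := hV.exists_sylow hK (Θ := Θ')
    (by rw [card_map_of_injective L.subtype_injective]; exact hΘ) hΘ'n p
  obtain ⟨P3, h3, hQ3⟩ := exists_maxP hQp hQn
  have hin1 : P1 ⊓ L ≤ Q := hQmax _ hle1 (h1.isPGroup.to_le inf_le_left)
    (Coprime.le_normalizer_inf h1.norm (fun a ha => le_normalizer (hVL ha)))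
  have hin2 : P2 ⊓ L ≤ Q := hQmax _ hle2 (h2.isPGroup.to_le inf_le_left)
    (Coprime.le_normalizer_inf h2.norm (fun a ha => le_normalizer (hVL ha)))
  have e1 := key P3 P1 h3 h1 ((lt_inf_normalizer h1.isPGroup hlt1).trans_le
    (le_inf inf_le_left (hin1.trans hQ3)))
  have e2 := key P3 P2 h3 h2 ((lt_inf_normalizer h2.isPGroup hlt2).trans_le
    (le_inf inf_le_left (hin2.trans hQ3)))
  exact hne12 (e1.trans e2.symm)

end Cfsg.Agent.DGroupPSL
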